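import Mathlib.RepresentationTheory.Character
import Mathlib.Analysis.Complex.Basic
import Mathlib.GroupTheory.Solvable
import Cfsg.Prelude.Def_OddOrderChar
import Cfsg.Agent.Characters.Core
import Cfsg.Agent.Characters.Linear
import Cfsg.Agent.OddOrderCharacters.ClassSum
import Cfsg.Agent.OddOrderCharacters.InducedNormal
set_option linter.all false

/-!
The sum of `χ(1) χ(k)` over the irreducible characters whose kernel contains a normal subgroup,
the sum of `φ(1)² / ⟨φ, φ⟩` over the functions induced from the non-principal irreducible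
characters of `K` with kernel containing `A` (Peterfalvi, used in (6.2)), and the existence of a
non-principal linear character with given proper normal subgroup in its kernel.
-/

set_option autoImplicit false

open scoped ComplexConjugate
open Cfsg Cfsg.Agent.OddOrderCharacters.InducedNormal

namespace Cfsg.Agent.OddOrderCharacters.InducedSum

/-- An irreducible character either contains the normal subgroup `N` in its kernel or sums to
zero over `N`. -/
theorem ker_or_sum_eq_zero {K : Type*} [Group K] [Finite K] {χ : K → ℂ} (hχ : IsIrrCharacter K χ)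
    (N : Subgroup K) [hN : N.Normal] (S : Finset K) (hS : ∀ x, x ∈ S ↔ x ∈ N) :
    (∀ a ∈ N, χ a = χ 1) ∨ ∑ a ∈ S, χ a = 0 := by
  obtain ⟨n, ρ, hρ, rfl⟩ := hχ
  obtain ⟨c, hc⟩ := ClassSum.invariant_sum_scalar ρ hρ S
    (fun g x hx => (hS _).mpr (hN.conj_mem x ((hS x).mp hx) g))
  by_cases h0 : c = 0
  · right
    have h1 : ∑ x ∈ S, ρ.character x = LinearMap.trace ℂ _ (∑ x ∈ S, ρ x) := by
      rw [map_sum]; rfl
    rw [h1, hc, h0, zero_smul, map_zero]
  · left
    intro a ha
    have h1 : ρ a * ∑ x ∈ S, ρ x = ∑ x ∈ S, ρ x := by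
      rw [Finset.mul_sum]
      refine Finset.sum_bij' (fun x _ => a * x) (fun x _ => a⁻¹ * x) ?_ ?_ ?_ ?_ ?_
      · intro x hx
        exact (hS _).mpr (N.mul_mem ha ((hS x).mp hx))
      · intro x hx
        exact (hS _).mpr (N.mul_mem (N.inv_mem ha) ((hS x).mp hx))
      · intro x _; group
      · intro x _; group
      · intro x _
        rw [map_mul]
    rw [hc, mul_smul_comm, mul_one] at h1
    have h2 : ρ a = 1 := smul_right_injective _ h0 h1
    show LinearMap.trace ℂ _ (ρ a) = LinearMap.trace ℂ _ (ρ 1)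
    rw [h2, (map_one ρ : ρ 1 = 1)]

/-- Column orthogonality for the quotient by `N`, with second argument `1`. -/
theorem sum_above {K : Type*} [Group K] [Fintype K] [Fintype (IrrCharacter K)]
    (N : Subgroup K) [hN : N.Normal] [∀ χ : IrrCharacter K, Decidable (∀ a ∈ N, χ.1 a = χ.1 1)]
    [DecidablePred (· ∈ N)] (k : K) :
    ∑ χ : IrrCharacter K, (if ∀ a ∈ N, χ.1 a = χ.1 1 then χ.1 1 * χ.1 k else 0) =
      if k ∈ N then (N.index : ℂ) else 0 := by
  set f : K → ℂ := fun k => if k ∈ N then (N.index : ℂ) else 0 with hf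
  have hfc : IsClassFunction K f := by
    intro g h
    have h1 : h * g * h⁻¹ ∈ N ↔ g ∈ N := by
      constructor
      · intro h1
        have := hN.conj_mem _ h1 h⁻¹
        simpa [mul_assoc] using this
      · intro h1; exact hN.conj_mem _ h1 h
    simp only [hf, h1]
  have key : ∀ χ : IrrCharacter K, classInner f χ.1 • χ.1 =
      fun k => if ∀ a ∈ N, χ.1 a = χ.1 1 then χ.1 1 * χ.1 k else 0 := by
    intro χ
    have hin : classInner f χ.1 = if ∀ a ∈ N, χ.1 a = χ.1 1 then χ.1 1 else 0 := by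
      have hsum : ∑ g : K, f g * conj (χ.1 g) =
          (N.index : ℂ) * ∑ g ∈ Finset.univ.filter (· ∈ N), conj (χ.1 g) := by
        rw [Finset.mul_sum, Finset.sum_filter]
        refine Finset.sum_congr rfl fun g _ => ?_
        simp only [hf]
        split_ifs <;> simp
      show (Nat.card K : ℂ)⁻¹ * ∑ g : K, f g * conj (χ.1 g) = _
      rw [hsum]
      split_ifs with h
      · have h2 : ∑ g ∈ Finset.univ.filter (· ∈ N), conj (χ.1 g) =
            (Nat.card N : ℂ) * χ.1 1 := by
          obtain ⟨m, -, hm⟩ := Characters.Core.isIrr_apply_one χ.2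
          have : ∀ g ∈ Finset.univ.filter (· ∈ N), conj (χ.1 g) = χ.1 1 := by
            intro g hg
            rw [h g (by simpa using hg), hm]
            simp
          rw [Finset.sum_congr rfl this, Finset.sum_const, nsmul_eq_mul]
          congr 2
          rw [Nat.card_eq_fintype_card, Fintype.card_subtype]
        rw [h2]
        have h3 : (N.index : ℂ) * (Nat.card N : ℂ) = (Nat.card K : ℂ) := by
          rw [← N.card_mul_index]; push_cast; ring
        have h4 : (Nat.card K : ℂ) ≠ 0 := Nat.cast_ne_zero.mpr Nat.card_pos.ne'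
        rw [← mul_assoc (N.index : ℂ), h3, ← mul_assoc, inv_mul_cancel₀ h4, one_mul]
      · rcases ker_or_sum_eq_zero χ.2 N (Finset.univ.filter (· ∈ N)) (by simp) with h1 | h1
        · exact absurd h1 h
        · rw [← map_sum, h1, map_zero, mul_zero, mul_zero]
    funext k
    rw [hin]
    show (if ∀ a ∈ N, χ.1 a = χ.1 1 then χ.1 1 else 0) * χ.1 k = _
    split_ifs <;> simp
  have h := Characters.Core.classFunction_eq_sum hfc
  have h' := congrFun h k
  rw [Finset.sum_apply] at h'
  show _ = f k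
  rw [h']
  refine Finset.sum_congr rfl fun χ _ => ?_
  rw [key χ]

/-- A non-principal irreducible character sums to zero. -/
theorem sum_irr_eq_zero {K : Type*} [Group K] [Fintype K] {χ : K → ℂ} (hχ : IsIrrCharacter K χ)
    (h1 : χ ≠ fun _ => 1) : ∑ k : K, χ k = 0 := by
  have h := Characters.Core.classInner_irr_ne hχ Characters.Core.isIrr_one h1
  have h2 : (Nat.card K : ℂ)⁻¹ * ∑ g : K, χ g * conj ((1 : K → ℂ) g) = 0 := h
  have h4 : (Nat.card K : ℂ)⁻¹ ≠ 0 := inv_ne_zero (Nat.cast_ne_zero.mpr Nat.card_pos.ne')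
  have h3 := (mul_eq_zero.mp h2).resolve_left h4
  simpa using h3

variable {L : Type*} [Group L] [Fintype L]

/-- A function induced from a non-principal irreducible character of a normal subgroup `K` sums
to zero over `K`. -/
theorem sum_indFun_eq_zero (K : Subgroup L) [hK : K.Normal] [Fintype K] {θ : K → ℂ}
    (hθ : IsIrrCharacter K θ) (h1 : θ ≠ fun _ => 1) : ∑ k : K, indFun K θ k = 0 := by
  have h2 : ∀ k : K, indFun K θ k =
      (Nat.card K : ℂ)⁻¹ * ∑ x : L, θ ⟨x⁻¹ * k * x, conj_mem' K k.2 x⟩ :=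
    fun k => indFun_mem K θ k.2
  rw [Finset.sum_congr rfl fun k _ => h2 k, ← Finset.mul_sum, Finset.sum_comm,
    Finset.sum_eq_zero, mul_zero]
  intro x _
  rw [← sum_irr_eq_zero hθ h1]
  refine Finset.sum_bij' (fun k _ => ⟨x⁻¹ * k * x, conj_mem' K k.2 x⟩)
    (fun k _ => ⟨x * k * x⁻¹, hK.conj_mem _ k.2 x⟩) ?_ ?_ ?_ ?_ ?_
  · intros; exact Finset.mem_univ _
  · intros; exact Finset.mem_univ _
  · intro k _; apply Subtype.ext; show x * (x⁻¹ * k * x) * x⁻¹ = k; group
  · intro k _; apply Subtype.ext; show x⁻¹ * (x * k * x⁻¹) * x = k; group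
  · intro k _; rfl

/-- `∑ φ(1)² / ⟨φ, φ⟩ = |L:K| (|K:A| - 1)`, the sum over the functions `φ` induced from the
non-principal irreducible characters of `K` whose kernel contains `A`. -/
theorem sum_degree_sq_div_norm (K A : Subgroup L) [hK : K.Normal] [hA : A.Normal] (hAK : A ≤ K)
    (S₁ : Finset (L → ℂ)) (hS₁ : (S₁ : Set (L → ℂ)) = inducedIrrAbove K A)
    (horth : ∀ φ ∈ S₁, ∀ ψ ∈ S₁, φ ≠ ψ → classInner φ ψ = 0) :
    ∑ φ ∈ S₁, φ 1 ^ 2 / classInner φ φ = (K.index : ℂ) * ((A.relIndex K : ℂ) - 1) := by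
  classical
  have _ : Fintype K := Fintype.ofFinite K
  have _ : Finite (IrrCharacter K) := Characters.Core.finite_irr
  have _ : Fintype (IrrCharacter K) := Fintype.ofFinite _
  have hNn : (A.subgroupOf K).Normal := inferInstance
  set T : Finset (IrrCharacter K) := Finset.univ.filter
    (fun χ => χ.1 ≠ (fun _ => 1) ∧ ∀ a : K, (a : L) ∈ A → χ.1 a = χ.1 1) with hT
  have hTmem : ∀ χ : IrrCharacter K, χ ∈ T ↔
      (χ.1 ≠ (fun _ => 1) ∧ ∀ a : K, (a : L) ∈ A → χ.1 a = χ.1 1) := by
    intro χ; simp [hT]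
  let ρ : K → ℂ := ∑ χ ∈ T, χ.1 1 • χ.1
  -- value of `ρ`
  have hρ : ∀ k : K, ρ k = (if (k : L) ∈ A then (A.relIndex K : ℂ) else 0) - 1 := by
    intro k
    have h1 := sum_above (A.subgroupOf K) k
    have h2 : ∑ χ : IrrCharacter K,
        (if ∀ a ∈ A.subgroupOf K, χ.1 a = χ.1 1 then χ.1 1 * χ.1 k else 0) =
        ρ k + 1 := by
      have hone : IsIrrCharacter K (fun _ => (1 : ℂ)) := Characters.Core.isIrr_one
      rw [← Finset.add_sum_erase Finset.univ _ (Finset.mem_univ (⟨fun _ => 1, hone⟩ :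
        IrrCharacter K)), add_comm]
      congr 1
      · show _ = (∑ χ ∈ T, χ.1 1 • χ.1) k
        rw [Finset.sum_apply, hT, Finset.sum_filter]
        rw [← Finset.add_sum_erase Finset.univ _ (Finset.mem_univ (⟨fun _ => 1, hone⟩ :
          IrrCharacter K)), if_neg (by simp), zero_add]
        refine Finset.sum_congr rfl fun χ hχ => ?_
        have hne : χ.1 ≠ (fun _ => (1 : ℂ)) := by
          intro h
          exact (Finset.mem_erase.mp hχ).1 (Subtype.ext h)
        by_cases hk : ∀ a : K, (a : L) ∈ A → χ.1 a = χ.1 1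
        · rw [if_pos (fun a ha => hk a (Subgroup.mem_subgroupOf.mp ha)), if_pos ⟨hne, hk⟩]
          rfl
        · rw [if_neg (fun h => hk fun a ha => h a (Subgroup.mem_subgroupOf.mpr ha)),
            if_neg (fun h => hk h.2)]
      · rw [if_pos (by intros; rfl)]
        simp
    rw [h2] at h1
    rw [eq_sub_iff_add_eq, h1]
    rfl
  -- induced function of `ρ`
  have hmaps : ∀ χ ∈ T, indFun K χ.1 ∈ S₁ := by
    intro χ hχ
    have h1 := (hTmem χ).mp hχ
    have : indFun K χ.1 ∈ (S₁ : Set (L → ℂ)) := by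
      rw [hS₁]
      exact ⟨χ.1, χ.2, h1.1, h1.2, rfl⟩
    exact_mod_cast this
  let c : (L → ℂ) → ℂ := fun φ => ∑ χ ∈ T.filter (fun χ => indFun K χ.1 = φ), χ.1 1
  have hindsum : indFun K ρ = ∑ φ ∈ S₁, c φ • φ := by
    have h1 : indFun K ρ = ∑ χ ∈ T, χ.1 1 • indFun K χ.1 := by
      funext g
      rw [Finset.sum_apply]
      by_cases hg : g ∈ K
      · rw [indFun_mem K ρ hg]
        have h2 : ∀ χ ∈ T, (χ.1 1 • indFun K χ.1) g =
            (Nat.card K : ℂ)⁻¹ * ∑ x : L, χ.1 1 * χ.1 ⟨x⁻¹ * g * x, conj_mem' K hg x⟩ := by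
          intro χ _
          show χ.1 1 * indFun K χ.1 g = _
          rw [indFun_mem K χ.1 hg, ← Finset.mul_sum]
          ring
        rw [Finset.sum_congr rfl h2, ← Finset.mul_sum, Finset.sum_comm]
        congr 1
        refine Finset.sum_congr rfl fun x _ => ?_
        show (∑ χ ∈ T, χ.1 1 • χ.1) _ = _
        rw [Finset.sum_apply]
        rfl
      · rw [indFun_of_not_mem K ρ hg]
        symm
        refine Finset.sum_eq_zero fun χ _ => ?_
        show χ.1 1 * indFun K χ.1 g = 0
        rw [indFun_of_not_mem K _ hg, mul_zero]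
    rw [h1, ← Finset.sum_fiberwise_of_maps_to hmaps]
    refine Finset.sum_congr rfl fun φ _ => ?_
    show _ = (∑ χ ∈ T.filter (fun χ => indFun K χ.1 = φ), χ.1 1) • φ
    rw [Finset.sum_smul]
    refine Finset.sum_congr rfl fun χ hχ => ?_
    rw [(Finset.mem_filter.mp hχ).2]
  -- facts about members of `S₁`
  have hmem : ∀ φ ∈ S₁, ∃ θ : K → ℂ, IsIrrCharacter K θ ∧ θ ≠ (fun _ => 1) ∧
      (∀ a : K, (a : L) ∈ A → θ a = θ 1) ∧ φ = indFun K θ := by
    intro φ hφ
    have : φ ∈ (S₁ : Set (L → ℂ)) := by exact_mod_cast hφ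
    rw [hS₁] at this
    exact this
  have hrel : (A.relIndex K : ℂ) * (Nat.card A : ℂ) = (Nat.card K : ℂ) := by
    have h1 : (⊥ : Subgroup L).relIndex A * A.relIndex K = (⊥ : Subgroup L).relIndex K :=
      Subgroup.relIndex_mul_relIndex ⊥ A K bot_le hAK
    rw [Subgroup.relIndex_bot_left, Subgroup.relIndex_bot_left] at h1
    rw [← h1]; push_cast; ring
  have hinner : ∀ φ ∈ S₁, classInner (indFun K ρ) φ = φ 1 := by
    intro φ hφ
    obtain ⟨θ, hθ, hθ1, hθA, rfl⟩ := hmem φ hφ
    rw [frobenius K ρ _ (indFun_isClassFunction K θ)]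
    show (Nat.card K : ℂ)⁻¹ * ∑ k : K, ρ k * conj (indFun K θ k) = _
    obtain ⟨m, -, hm⟩ := Characters.Core.isIrr_apply_one hθ
    have hdeg : conj (indFun K θ 1) = indFun K θ 1 := by
      rw [indFun_one, hm]; simp
    have h1 : ∀ k : K, ρ k * conj (indFun K θ k) =
        (if (k : L) ∈ A then (A.relIndex K : ℂ) * indFun K θ 1 else 0) -
          conj (indFun K θ k) := by
      intro k
      rw [hρ k]
      split_ifs with h
      · rw [indFun_ker K A θ hθA h k.2, hdeg]; ring
      · ring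
    rw [Finset.sum_congr rfl fun k _ => h1 k, Finset.sum_sub_distrib, ← map_sum,
      sum_indFun_eq_zero K hθ hθ1, map_zero, sub_zero, ← Finset.sum_filter, Finset.sum_const,
      nsmul_eq_mul]
    have h2 : ((Finset.univ.filter (fun k : K => (k : L) ∈ A)).card : ℂ) = (Nat.card A : ℂ) := by
      rw [← Fintype.card_subtype, ← Nat.card_eq_fintype_card]
      congr 1
      refine Nat.card_congr ⟨fun k => ⟨k.1, k.2⟩, fun a => ⟨⟨a, hAK a.2⟩, a.2⟩, ?_, ?_⟩
      · intro k; rfl
      · intro a; rfl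
    rw [h2, ← mul_assoc (Nat.card A : ℂ), mul_comm (Nat.card A : ℂ), hrel, ← mul_assoc,
      inv_mul_cancel₀ (card_ne_zero K), one_mul]
  have hne : ∀ φ ∈ S₁, classInner φ φ ≠ 0 := by
    intro φ hφ h0
    have h1 := Characters.Core.classInner_self_eq_zero h0
    obtain ⟨θ, hθ, hθ1, hθA, rfl⟩ := hmem φ hφ
    obtain ⟨m, hm0, hm⟩ := Characters.Core.isIrr_apply_one hθ
    have h2 : indFun K θ 1 = 0 := by rw [h1]; rfl
    rw [indFun_one, hm] at h2
    have h3 : (K.index : ℂ) ≠ 0 := Nat.cast_ne_zero.mpr Subgroup.FiniteIndex.index_ne_zero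
    have h4 : (m : ℂ) ≠ 0 := Nat.cast_ne_zero.mpr hm0.ne'
    exact (mul_ne_zero h3 h4) h2
  have hc : ∀ φ ∈ S₁, c φ * classInner φ φ = φ 1 := by
    intro φ hφ
    rw [← hinner φ hφ, hindsum, Characters.Core.classInner_sum_left]
    rw [Finset.sum_eq_single φ]
    · rw [Characters.Core.classInner_smul_left]
    · intro ψ hψ hψφ
      rw [Characters.Core.classInner_smul_left, horth ψ hψ φ hφ hψφ, mul_zero]
    · intro h; exact absurd hφ h
  have hfin : indFun K ρ 1 = (K.index : ℂ) * ((A.relIndex K : ℂ) - 1) := by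
    rw [indFun_one, hρ 1, if_pos (by simp)]
  rw [← hfin, hindsum, Finset.sum_apply]
  refine Finset.sum_congr rfl fun φ hφ => ?_
  show _ = c φ * φ 1
  rw [div_eq_iff (hne φ hφ), sq, ← hc φ hφ]
  ring

omit [Fintype L] in
/-- For a solvable group and a proper normal subgroup `N` there is a non-trivial homomorphism to
`ℂˣ` that is trivial on `N`. -/
theorem exists_hom_above {K : Type*} [Group K] [Finite K] (hK : Group.IsSolvable K)
    (N : Subgroup K) [N.Normal] (hN : N ≠ ⊤) :
    ∃ f : K →* ℂˣ, f ≠ 1 ∧ ∀ a ∈ N, f a = 1 := by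
  have hs : Group.IsSolvable (K ⧸ N) := inferInstance
  have hnt : Nontrivial (K ⧸ N) := by
    rw [← not_subsingleton_iff_nontrivial]
    intro h
    exact hN (QuotientGroup.subsingleton_iff.mp h)
  have hlt : commutator (K ⧸ N) < ⊤ := Group.IsSolvable.commutator_lt_top_of_nontrivial _
  have hidx : (commutator (K ⧸ N)).index ≠ 1 := by
    rw [Ne, Subgroup.index_eq_one]
    exact hlt.ne
  have hcard := Characters.Linear.card_hom_eq_index_commutator (K ⧸ N)
  have : ∃ f : (K ⧸ N) →* ℂˣ, f ≠ 1 := by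
    by_contra hcon
    simp only [not_exists, not_not, ne_eq] at hcon
    apply hidx
    rw [← hcard, Nat.card_eq_one_iff_unique]
    exact ⟨⟨fun a b => by rw [hcon a, hcon b]⟩, ⟨1⟩⟩
  obtain ⟨f, hf⟩ := this
  refine ⟨f.comp (QuotientGroup.mk' N), ?_, ?_⟩
  · intro h
    apply hf
    refine MonoidHom.ext fun q => ?_
    obtain ⟨k, rfl⟩ := QuotientGroup.mk'_surjective N q
    exact DFunLike.congr_fun h k
  · intro a ha
    have : QuotientGroup.mk' N a = 1 := by
      rw [QuotientGroup.mk'_apply]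
      exact (QuotientGroup.eq_one_iff a).mpr ha
    rw [MonoidHom.comp_apply, this, map_one]

end Cfsg.Agent.OddOrderCharacters.InducedSum
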