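import Mathlib.RepresentationTheory.Character
import Mathlib.Analysis.Complex.Basic
import Mathlib.GroupTheory.Index
import Mathlib.Algebra.Group.Subgroup.Map
import Mathlib.Algebra.BigOperators.Field
import Mathlib.Tactic
import Cfsg.Prelude.Def_Characters
import Cfsg.Agent.Characters.Core
set_option linter.all false

/-!
# Induced functions, a Mackey-type formula and the Clifford correspondence

* `classInner_indFun` : Frobenius reciprocity
* `classInner_indFun_indFun` : `⟨Ind α, Ind β⟩` as a sum over `x : G` of `twist T α β x`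
* `twist_eq_nat` : each term is a natural number for characters
* `isCharacter_sub_irr` : removing an irreducible constituent from a character
-/

set_option autoImplicit false

open scoped ComplexConjugate
open Cfsg

namespace Cfsg.Agent.OddOrderCharacters.Clifford

universe u

variable {G : Type u} [Group G]

theorem ext_apply_mem (H : Subgroup G) (θ : H → ℂ) (y : G) (hy : y ∈ H) :
    extendByZero H θ y = θ ⟨y, hy⟩ := by
  change Function.extend (Subtype.val : H → G) θ 0 y = _
  exact Subtype.val_injective.extend_apply θ 0 (⟨y, hy⟩ : H)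

theorem ext_apply_coe (H : Subgroup G) (θ : H → ℂ) (y : H) :
    extendByZero H θ y = θ y := ext_apply_mem H θ y y.2

theorem ext_apply_not_mem (H : Subgroup G) (θ : H → ℂ) (y : G)
    (hy : y ∉ H) : extendByZero H θ y = 0 := by
  change Function.extend (Subtype.val : H → G) θ 0 y = _
  rw [Function.extend_apply']
  · rfl
  · rintro ⟨a, rfl⟩
    exact hy a.2

/-- Summing over `G` a function supported on `H`. -/
theorem sum_eq_sum_subgroup [Fintype G] (H : Subgroup G) [Fintype H] (F : G → ℂ)
    (hF : ∀ g : G, g ∉ H → F g = 0) : ∑ g : G, F g = ∑ h : H, F h := by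
  classical
  have h1 : ∑ g : G, F g = ∑ g ∈ Finset.univ.filter (fun g : G => g ∈ H), F g := by
    rw [Finset.sum_filter]
    refine Finset.sum_congr rfl fun g _ => ?_
    by_cases hg : g ∈ H
    · simp [hg]
    · simp [hg, hF g hg]
  rw [h1]
  exact (Finset.sum_subtype _ (by simp) F)

theorem indFun_apply [Fintype G] (H : Subgroup G) (θ : H → ℂ) (g : G) :
    indFun H θ g = (Nat.card H : ℂ)⁻¹ * ∑ x : G, extendByZero H θ (x⁻¹ * g * x) := rfl

theorem classInner_apply [Fintype G] (φ ψ : G → ℂ) :
    classInner φ ψ = (Nat.card G : ℂ)⁻¹ * ∑ g : G, φ g * conj (ψ g) := rfl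

theorem isClassFunction_indFun [Fintype G] (H : Subgroup G) (θ : H → ℂ) :
    IsClassFunction G (indFun H θ) := by
  intro g h
  rw [indFun_apply, indFun_apply]
  congr 1
  refine Fintype.sum_equiv (Equiv.mulLeft h⁻¹) _ _ ?_
  intro x
  simp only [Equiv.coe_mulLeft]
  congr 1
  group

theorem card_ne_zero' [Finite G] : (Nat.card G : ℂ) ≠ 0 := by
  exact_mod_cast Nat.card_pos.ne'

/-- Frobenius reciprocity (for arbitrary functions on the subgroup). -/
theorem classInner_indFun [Fintype G] (H : Subgroup G) [Fintype H] (θ : H → ℂ) (χ : G → ℂ)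
    (hχ : IsClassFunction G χ) :
    classInner (indFun H θ) χ = classInner θ (fun h : H => χ h) := by
  classical
  rw [classInner_apply, classInner_apply]
  have h1 : ∀ x : G, ∑ g : G, extendByZero H θ (x⁻¹ * g * x) * conj (χ g)
      = ∑ h : H, θ h * conj (χ h) := by
    intro x
    have h2 : ∑ g : G, extendByZero H θ (x⁻¹ * g * x) * conj (χ g)
        = ∑ g : G, extendByZero H θ g * conj (χ g) := by
      refine Fintype.sum_equiv (MulAut.conj x⁻¹).toEquiv _ _ ?_
      intro g
      simp only [MulEquiv.toEquiv_eq_coe, EquivLike.coe_coe, MulAut.conj_apply, inv_inv]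
      have h3 : χ (x⁻¹ * g * x) = χ g := by
        have := hχ g x⁻¹
        rwa [inv_inv] at this
      rw [h3]
    rw [h2, sum_eq_sum_subgroup H]
    · refine Finset.sum_congr rfl fun h _ => ?_
      rw [ext_apply_coe]
    · intro g hg
      rw [ext_apply_not_mem H θ g hg, zero_mul]
  have h4 : ∑ g : G, indFun H θ g * conj (χ g)
      = (Nat.card H : ℂ)⁻¹ * ∑ x : G, ∑ g : G, extendByZero H θ (x⁻¹ * g * x) * conj (χ g) := by
    rw [Finset.sum_comm, Finset.mul_sum]
    refine Finset.sum_congr rfl fun g _ => ?_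
    rw [indFun_apply, mul_assoc, Finset.sum_mul]
  rw [h4]
  simp only [h1]
  rw [Finset.sum_const, Finset.card_univ, ← Nat.card_eq_fintype_card, nsmul_eq_mul]
  have hG := card_ne_zero' (G := G)
  field_simp

/-- The term of `x` in the Mackey-type formula. -/
noncomputable def twist (T : Subgroup G) [Fintype T] (α β : T → ℂ) (x : G) : ℂ :=
  ∑ t : T, α t * conj (extendByZero T β (x⁻¹ * t * x))

theorem twist_def (T : Subgroup G) [Fintype T] (α β : T → ℂ) (x : G) :
    twist T α β x = ∑ t : T, α t * conj (extendByZero T β (x⁻¹ * t * x)) := rfl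

theorem classInner_indFun_indFun [Fintype G] (T : Subgroup G) [Fintype T] (α β : T → ℂ) :
    classInner (indFun T α) (indFun T β)
      = (Nat.card T : ℂ)⁻¹ * ((Nat.card T : ℂ)⁻¹ * ∑ x : G, twist T α β x) := by
  rw [classInner_indFun T α _ (isClassFunction_indFun T β), classInner_apply]
  congr 1
  simp only [twist_def]
  rw [Finset.sum_comm, Finset.mul_sum]
  refine Finset.sum_congr rfl fun t _ => ?_
  rw [indFun_apply, map_mul, map_sum, map_inv₀, Complex.conj_natCast, ← Finset.mul_sum]
  ring

theorem twist_of_mem (T : Subgroup G) [Fintype T] (α β : T → ℂ)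
    (hβ : IsClassFunction T β) (x : G) (hx : x ∈ T) :
    twist T α β x = (Nat.card T : ℂ) * classInner α β := by
  rw [classInner_apply, twist_def, mul_inv_cancel_left₀ card_ne_zero']
  refine Finset.sum_congr rfl fun t _ => ?_
  have hm : x⁻¹ * (t : G) * x ∈ T := T.mul_mem (T.mul_mem (T.inv_mem hx) t.2) hx
  rw [ext_apply_mem T β _ hm]
  have h := hβ t (⟨x, hx⟩⁻¹ : T)
  have h2 : (⟨x⁻¹ * (t : G) * x, hm⟩ : T) = (⟨x, hx⟩⁻¹ : T) * t * (⟨x, hx⟩⁻¹ : T)⁻¹ := by
    apply Subtype.ext
    simp
  rw [h2, h]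

/-- The stabiliser-type subgroup `T ∩ x T x⁻¹`, as a subgroup of `T`. -/
def dsub (T : Subgroup G) (x : G) : Subgroup T :=
  T.comap ((MulAut.conj x⁻¹).toMonoidHom.comp T.subtype)

theorem mem_dsub (T : Subgroup G) (x : G) (t : T) :
    t ∈ dsub T x ↔ x⁻¹ * (t : G) * x ∈ T := by
  unfold dsub
  rw [Subgroup.mem_comap]
  simp

/-- Conjugation by `x⁻¹`, as a homomorphism from `T ∩ x T x⁻¹` to `T`. -/
def dhom (T : Subgroup G) (x : G) : dsub T x →* T where
  toFun d := ⟨x⁻¹ * ((d : T) : G) * x, (mem_dsub T x d).1 d.2⟩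
  map_one' := by
    apply Subtype.ext
    simp
  map_mul' a b := by
    apply Subtype.ext
    simp [mul_assoc]

theorem twist_eq_nat [Finite G] (T : Subgroup G) [Fintype T] {α β : T → ℂ}
    (hα : IsCharacter T α) (hβ : IsCharacter T β) (x : G) :
    ∃ n : ℕ, twist T α β x = n := by
  classical
  have hα' : IsCharacter (dsub T x) (α ∘ (dsub T x).subtype) :=
    Characters.Core.isCharacter_comp _ hα
  have hβ' : IsCharacter (dsub T x) (β ∘ dhom T x) := Characters.Core.isCharacter_comp _ hβ
  obtain ⟨n, hn⟩ := Characters.Core.classInner_isNat hα' hβ'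
  refine ⟨Nat.card (dsub T x) * n, ?_⟩
  rw [classInner_apply] at hn
  have hn' : ∑ d : dsub T x, (α ∘ (dsub T x).subtype) d * conj ((β ∘ dhom T x) d)
      = (Nat.card (dsub T x) : ℂ) * n := by
    rw [← hn, mul_inv_cancel_left₀ card_ne_zero']
  rw [Nat.cast_mul, ← hn', twist_def, sum_eq_sum_subgroup (dsub T x)]
  · refine Finset.sum_congr rfl fun d _ => ?_
    rw [ext_apply_mem T β _ ((mem_dsub T x d).1 d.2)]
    rfl
  · intro t ht
    rw [mem_dsub] at ht
    rw [ext_apply_not_mem T β _ ht, map_zero, mul_zero]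

theorem ext_add (H : Subgroup G) (θ θ' : H → ℂ) (y : G) :
    extendByZero H (θ + θ') y = extendByZero H θ y + extendByZero H θ' y := by
  by_cases hy : y ∈ H
  · simp [ext_apply_mem _ _ y hy]
  · simp [ext_apply_not_mem _ _ y hy]

theorem twist_add_left (T : Subgroup G) [Fintype T] (α α' β : T → ℂ) (x : G) :
    twist T (α + α') β x = twist T α β x + twist T α' β x := by
  simp only [twist_def, Pi.add_apply, add_mul, Finset.sum_add_distrib]

theorem twist_add_right (T : Subgroup G) [Fintype T] (α β β' : T → ℂ) (x : G) :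
    twist T α (β + β') x = twist T α β x + twist T α β' x := by
  simp only [twist_def, ext_add, map_add, mul_add, Finset.sum_add_distrib]

/-- If the twist of two characters vanishes, so does the twist of any constituents. -/
theorem twist_eq_zero_of_add [Finite G] (T : Subgroup G) [Fintype T] {α α' β β' : T → ℂ}
    (hα : IsCharacter T α) (hα' : IsCharacter T α') (hβ : IsCharacter T β)
    (hβ' : IsCharacter T β') (x : G) (h : twist T (α + α') (β + β') x = 0) :
    twist T α β x = 0 := by
  rw [twist_add_left, twist_add_right, twist_add_right] at h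
  obtain ⟨a, ha⟩ := twist_eq_nat T hα hβ x
  obtain ⟨b, hb⟩ := twist_eq_nat T hα hβ' x
  obtain ⟨c, hc⟩ := twist_eq_nat T hα' hβ x
  obtain ⟨d, hd⟩ := twist_eq_nat T hα' hβ' x
  rw [ha, hb, hc, hd] at h
  have h' : a + b + (c + d) = 0 := by exact_mod_cast h
  have : a = 0 := by omega
  rw [ha, this, Nat.cast_zero]

/-- If all the off-diagonal twists vanish, induction preserves the inner product. -/
theorem classInner_indFun_eq [Fintype G] (T : Subgroup G) [Fintype T] (α β : T → ℂ)
    (hβ : IsClassFunction T β) (h : ∀ x : G, x ∉ T → twist T α β x = 0) :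
    classInner (indFun T α) (indFun T β) = classInner α β := by
  rw [classInner_indFun_indFun, sum_eq_sum_subgroup T _ h]
  have h1 : ∀ x : T, twist T α β x = (Nat.card T : ℂ) * classInner α β :=
    fun x => twist_of_mem T α β hβ x x.2
  simp only [h1]
  rw [Finset.sum_const, Finset.card_univ, ← Nat.card_eq_fintype_card, nsmul_eq_mul,
    inv_mul_cancel_left₀ card_ne_zero', inv_mul_cancel_left₀ card_ne_zero']

/-- An irreducible constituent can be split off a character. -/
theorem isCharacter_sub_irr [Fintype G] {Θ ψ : G → ℂ} (hΘ : IsCharacter G Θ)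
    (hψ : IsIrrCharacter G ψ) (hc : classInner Θ ψ ≠ 0) : IsCharacter G (Θ - ψ) := by
  classical
  have : Finite (IrrCharacter G) := Characters.Core.finite_irr
  let _ : Fintype (IrrCharacter G) := Fintype.ofFinite _
  obtain ⟨m, hm⟩ := Characters.Core.isCharacter_iff.1 hΘ
  have h1 : classInner Θ ψ = m ⟨ψ, hψ⟩ := by
    rw [hm, Characters.Core.classInner_sum_left, Finset.sum_eq_single (⟨ψ, hψ⟩ : IrrCharacter G)]
    · have : (m ⟨ψ, hψ⟩ • ((⟨ψ, hψ⟩ : IrrCharacter G) : G → ℂ)) = (m ⟨ψ, hψ⟩ : ℂ) • ψ := by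
        rw [Nat.cast_smul_eq_nsmul]
      rw [this, Characters.Core.classInner_smul_left, Characters.Core.classInner_irr_self hψ,
        mul_one]
    · intro φ _ hφ
      have : (m φ • (φ : G → ℂ)) = (m φ : ℂ) • (φ : G → ℂ) := by
        rw [Nat.cast_smul_eq_nsmul]
      rw [this, Characters.Core.classInner_smul_left, Characters.Core.classInner_irr_ne φ.2 hψ,
        mul_zero]
      intro h
      exact hφ (Subtype.ext h)
    · intro h
      exact absurd (Finset.mem_univ _) h
  have h2 : m ⟨ψ, hψ⟩ ≠ 0 := by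
    intro h
    rw [h1, h, Nat.cast_zero] at hc
    exact hc rfl
  rw [Characters.Core.isCharacter_iff]
  refine ⟨fun φ => m φ - (if φ = ⟨ψ, hψ⟩ then 1 else 0), ?_⟩
  rw [sub_eq_iff_eq_add]
  have h3 : ψ = ∑ φ : IrrCharacter G, (if φ = ⟨ψ, hψ⟩ then 1 else 0) • (φ : G → ℂ) := by
    rw [Finset.sum_eq_single (⟨ψ, hψ⟩ : IrrCharacter G)]
    · simp
    · intro φ _ hφ
      simp [hφ]
    · intro h
      exact absurd (Finset.mem_univ _) h
  have h4 : Θ = (∑ φ : IrrCharacter G, (m φ - (if φ = ⟨ψ, hψ⟩ then 1 else 0)) • (φ : G → ℂ))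
      + ∑ φ : IrrCharacter G, (if φ = ⟨ψ, hψ⟩ then 1 else 0) • (φ : G → ℂ) := by
    rw [← Finset.sum_add_distrib, hm]
    refine Finset.sum_congr rfl fun φ _ => ?_
    rw [← add_smul]
    congr 1
    by_cases hφ : φ = ⟨ψ, hψ⟩
    · subst hφ
      simp only [if_true]
      omega
    · simp [hφ]
  rw [← h3] at h4
  exact h4

end Cfsg.Agent.OddOrderCharacters.Clifford
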