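import Mathlib
import Cfsg.Prelude.Def_Characters
import Cfsg.Agent.Characters.Core
import Cfsg.Agent.Characters.Linear
import Cfsg.Agent.CharactersDeep.NormalInd
set_option linter.all false

/-!
# Inducing an extendible character from a normal subgroup with abelian quotient

If `N ⊴ G`, `G / N` is abelian and `χ` is a character of `G` with irreducible restriction `θ` to
`N`, then the function induced from `θ` is the sum of the `|G : N|` distinct irreducible
characters `λ χ`, `λ` running over the linear characters of `G / N`.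
-/

set_option autoImplicit false

open scoped ComplexConjugate
open Cfsg

namespace Cfsg.Agent.OddOrderCharacters.AbelianTwist

open Cfsg.Agent.Characters.Core Cfsg.Agent.CharactersDeep

/-- Orthogonality for the linear characters of a finite abelian group. -/
theorem sum_hom_apply {Q : Type*} [CommGroup Q] [Finite Q] [Fintype (Q →* ℂˣ)] (q : Q) (hq : q ≠ 1) :
    ∑ l : Q →* ℂˣ, (l q : ℂ) = 0 := by
  obtain ⟨l₀, hl₀⟩ := CommGroup.exists_apply_ne_one_of_hasEnoughRootsOfUnity Q ℂ hq
  have h1 : ∑ l : Q →* ℂˣ, (l q : ℂ) = (l₀ q : ℂ) * ∑ l : Q →* ℂˣ, (l q : ℂ) := by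
    rw [Finset.mul_sum, ← Fintype.sum_equiv (Equiv.mulLeft l₀) (fun l => ((l₀ * l) q : ℂ))
      (fun l => (l q : ℂ)) (fun l => rfl)]
    refine Finset.sum_congr rfl fun l _ => ?_
    rw [MonoidHom.mul_apply, Units.val_mul]
  have h2 : (1 - (l₀ q : ℂ)) * ∑ l : Q →* ℂˣ, (l q : ℂ) = 0 := by
    rw [sub_mul, one_mul, ← h1, sub_self]
  rcases mul_eq_zero.1 h2 with h3 | h3
  · exfalso
    apply hl₀
    ext
    rw [Units.val_one]
    exact (sub_eq_zero.1 h3).symm
  · exact h3

/-- A linear character times an irreducible character is irreducible. -/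
theorem isIrr_hom_mul {G : Type*} [Group G] [Fintype G] (f : G →* ℂˣ) {χ : G → ℂ}
    (hχ : IsIrrCharacter G χ) : IsIrrCharacter G (fun g => (f g : ℂ) * χ g) := by
  have hc : IsCharacter G (fun g => (f g : ℂ) * χ g) :=
    isCharacter_mul (Characters.Linear.isCharacter_hom f) (isIrr_isCharacter hχ)
  rw [isIrr_iff_classInner_self hc]
  have h1 := classInner_irr_self hχ
  rw [← h1]
  show (Nat.card G : ℂ)⁻¹ * ∑ g : G, ((f g : ℂ) * χ g) * conj ((f g : ℂ) * χ g) =
    (Nat.card G : ℂ)⁻¹ * ∑ g : G, χ g * conj (χ g)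
  congr 1
  refine Finset.sum_congr rfl fun g _ => ?_
  have h2 : (f g : ℂ) * conj (f g : ℂ) = 1 := by
    rw [Complex.mul_conj, Complex.normSq_eq_norm_sq, Characters.Linear.norm_hom_apply]
    simp
  rw [map_mul]
  calc (f g : ℂ) * χ g * (conj (f g : ℂ) * conj (χ g))
      = ((f g : ℂ) * conj (f g : ℂ)) * (χ g * conj (χ g)) := by ring
    _ = χ g * conj (χ g) := by rw [h2, one_mul]

theorem exists_finset_of_extension {G : Type*} [Group G] [Fintype G] (N : Subgroup G) [hN : N.Normal]
    (hab : ∀ x y : G, x * y * x⁻¹ * y⁻¹ ∈ N) (χ : G → ℂ) (hχ : IsIrrCharacter G χ)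
    (hres : IsIrrCharacter N (fun n : N => χ n)) :
    ∃ C : Finset (G → ℂ), C.card = N.index ∧ (∀ μ ∈ C, IsIrrCharacter G μ) ∧
      indFun N (fun n : N => χ n) = ∑ μ ∈ C, μ := by
  classical
  let _ : CommGroup (G ⧸ N) :=
    { (inferInstance : Group (G ⧸ N)) with
      mul_comm := by
        intro a b
        induction a using QuotientGroup.induction_on with
        | H a =>
        induction b using QuotientGroup.induction_on with
        | H b =>
        rw [← QuotientGroup.mk_mul, ← QuotientGroup.mk_mul, QuotientGroup.eq]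
        have h1 : (a * b)⁻¹ * (b * a) = b⁻¹ * a⁻¹ * b⁻¹⁻¹ * a⁻¹⁻¹ := by group
        rw [h1]
        exact hab _ _ }
  have hcard := CommGroup.card_monoidHom_of_hasEnoughRootsOfUnity (G ⧸ N) ℂ
  have hfin : Finite (G ⧸ N →* ℂˣ) := Nat.finite_of_card_ne_zero (by
    rw [hcard]; exact Nat.card_pos.ne')
  have : Fintype (G ⧸ N →* ℂˣ) := Fintype.ofFinite _
  have hcard' : Fintype.card (G ⧸ N →* ℂˣ) = N.index := by
    rw [← Nat.card_eq_fintype_card, hcard]; rfl
  let μ : (G ⧸ N →* ℂˣ) → (G → ℂ) := fun l g => (l (QuotientGroup.mk g) : ℂ) * χ g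
  have hμ : ∀ l, IsIrrCharacter G (μ l) := fun l =>
    isIrr_hom_mul (l.comp (QuotientGroup.mk' N)) hχ
  -- the induced function is the sum of all `μ l`
  have hcl : IsClassFunction G χ := isIrr_isClassFunction hχ
  have hinv : ∀ (g : G) (n : N), (fun n : N => χ n) ⟨g * n * g⁻¹, hN.conj_mem (n : G) n.2 g⟩ =
      (fun n : N => χ n) n := fun g n => hcl n g
  have hsum : indFun N (fun n : N => χ n) = ∑ l, μ l := by
    funext g
    rw [Finset.sum_apply]
    show _ = ∑ l : G ⧸ N →* ℂˣ, (l (QuotientGroup.mk g) : ℂ) * χ g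
    rw [← Finset.sum_mul]
    by_cases hg : g ∈ N
    · have h1 : (QuotientGroup.mk g : G ⧸ N) = 1 := (QuotientGroup.eq_one_iff g).2 hg
      rw [h1]
      simp only [map_one, Units.val_one, Finset.sum_const, nsmul_eq_mul, mul_one]
      rw [Finset.card_univ, hcard']
      exact NormalInd.indFun_of_invariant N (fun n : N => χ n) hinv ⟨g, hg⟩
    · have h1 : (QuotientGroup.mk g : G ⧸ N) ≠ 1 := fun h => hg ((QuotientGroup.eq_one_iff g).1 h)
      rw [sum_hom_apply _ h1, zero_mul, NormalInd.indFun_of_not_mem N _ hg]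
  -- its norm is the index
  have hnorm : classInner (indFun N (fun n : N => χ n)) (indFun N (fun n : N => χ n)) = N.index := by
    have : Fintype N := Fintype.ofFinite N
    rw [NormalInd.classInner_indFun_of_invariant N _ _ hinv, classInner_irr_self hres, mul_one]
  -- hence the `μ l` are distinct
  have hinj : Function.Injective μ := by
    rw [hsum, classInner_sum_left] at hnorm
    have h1 : ∀ l, classInner (μ l) (∑ l', μ l') =
        ((Finset.univ.filter fun l' => μ l = μ l').card : ℂ) := by
      intro l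
      rw [classInner_sum_right, Finset.card_filter]
      push_cast
      exact Finset.sum_congr rfl fun l' _ => classInner_irr (hμ l) (hμ l')
    rw [Finset.sum_congr rfl fun l _ => h1 l] at hnorm
    have h2 : ∑ l, (Finset.univ.filter fun l' => μ l = μ l').card = N.index := by
      exact_mod_cast hnorm
    have h3 : ∀ l, 1 ≤ (Finset.univ.filter fun l' => μ l = μ l').card := fun l =>
      Finset.card_pos.2 ⟨l, by simp⟩
    have h4 : ∀ l ∈ Finset.univ, 1 = (Finset.univ.filter fun l' => μ l = μ l').card := by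
      rw [← Finset.sum_eq_sum_iff_of_le (fun l _ => h3 l), h2]
      simp [hcard']
    intro l l' hll
    have h5 := (h4 l (Finset.mem_univ _)).symm
    obtain ⟨a, ha⟩ := Finset.card_eq_one.1 h5
    have h6 : l ∈ Finset.univ.filter fun l' => μ l = μ l' := by simp
    have h7 : l' ∈ Finset.univ.filter fun l' => μ l = μ l' := by simp [hll]
    rw [ha, Finset.mem_singleton] at h6 h7
    rw [h6, h7]
  refine ⟨Finset.univ.image μ, ?_, ?_, ?_⟩
  · rw [Finset.card_image_of_injective _ hinj, Finset.card_univ, hcard']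
  · intro ν hν
    obtain ⟨l, -, rfl⟩ := Finset.mem_image.1 hν
    exact hμ l
  · rw [hsum, Finset.sum_image (fun a _ b _ h => hinj h)]

end Cfsg.Agent.OddOrderCharacters.AbelianTwist
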