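import Cfsg.Prelude.Def_Characters
import Cfsg.Agent.S0150
import Mathlib
set_option linter.all false

/-!
# Functions induced from a normal subgroup

`conjFn H θ g h = θ (g * h * g⁻¹)`; the restriction to `H` of the function induced from `θ`
is `|H|⁻¹` times the sum of all the conjugates of `θ`.
-/

set_option autoImplicit false
open Cfsg
open scoped ComplexConjugate

namespace Cfsg.Agent.OddOrderCharacters.NormalInduced

universe u

variable {G : Type u} [Group G]

/-- The conjugate `h ↦ θ (g * h * g⁻¹)` of the function `θ` on the normal subgroup `H`. -/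
def conjFn (H : Subgroup G) [hN : H.Normal] (θ : H → ℂ) (g : G) : H → ℂ :=
  fun h : H => θ ⟨g * h * g⁻¹, hN.conj_mem h h.2 g⟩

theorem conjFn_apply (H : Subgroup G) [hN : H.Normal] (θ : H → ℂ) (g : G) (h : H) :
    conjFn H θ g h = θ ⟨g * h * g⁻¹, hN.conj_mem h h.2 g⟩ := rfl

theorem conjFn_one (H : Subgroup G) [hN : H.Normal] (θ : H → ℂ) : conjFn H θ 1 = θ := by
  funext h
  rw [conjFn_apply]
  congr 1
  ext
  simp

theorem conjFn_mul (H : Subgroup G) [hN : H.Normal] (θ : H → ℂ) (a b : G) :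
    conjFn H θ (a * b) = conjFn H (conjFn H θ a) b := by
  funext h
  rw [conjFn_apply, conjFn_apply, conjFn_apply]
  congr 1
  ext
  simp [mul_assoc]

theorem conjFn_injective (H : Subgroup G) [hN : H.Normal] (g : G) :
    Function.Injective (fun θ : H → ℂ => conjFn H θ g) := by
  intro θ φ h
  have h' : conjFn H θ g = conjFn H φ g := h
  have := congrArg (fun ψ => conjFn H ψ g⁻¹) h'
  simp only [← conjFn_mul, mul_inv_cancel, conjFn_one] at this
  exact this

/-- The extension by zero of a conjugate. -/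
theorem extendByZero_conjFn (H : Subgroup G) [hN : H.Normal] (θ : H → ℂ) (g y : G) :
    extendByZero H (conjFn H θ g) y = extendByZero H θ (g * y * g⁻¹) := by
  by_cases hy : y ∈ H
  · have h1 := S0150.extendByZero_coe H (conjFn H θ g) ⟨y, hy⟩
    have h2 := S0150.extendByZero_coe H θ ⟨g * y * g⁻¹, hN.conj_mem y hy g⟩
    rw [h1, h2, conjFn_apply]
  · have hy' : g * y * g⁻¹ ∉ H := by
      intro h
      apply hy
      have := hN.conj_mem _ h g⁻¹
      have e : g⁻¹ * (g * y * g⁻¹) * g⁻¹⁻¹ = y := by group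
      rwa [e] at this
    rw [S0150.extendByZero_of_notMem _ _ hy, S0150.extendByZero_of_notMem _ _ hy']

variable [Fintype G]

/-- Conjugate functions on a normal subgroup induce the same function. -/
theorem indFun_conjFn (H : Subgroup G) [hN : H.Normal] (θ : H → ℂ) (g : G) :
    indFun H (conjFn H θ g) = indFun H θ := by
  funext y
  rw [S0150.indFun_apply, S0150.indFun_apply]
  congr 1
  refine Fintype.sum_equiv (Equiv.mulRight g⁻¹) _ _ fun x => ?_
  rw [extendByZero_conjFn]
  congr 1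
  simp only [Equiv.coe_mulRight]
  group

/-- The restriction to a normal subgroup `H` of a function induced from `H`. -/
theorem indFun_coe (H : Subgroup G) [hN : H.Normal] (θ : H → ℂ) (h : H) :
    indFun H θ (h : G) = (Nat.card H : ℂ)⁻¹ * ∑ g : G, conjFn H θ g h := by
  rw [S0150.indFun_apply]
  congr 1
  refine Fintype.sum_equiv (Equiv.inv G) _ _ fun x => ?_
  have e : x⁻¹ * (h : G) * x = x⁻¹ * (h : G) * (x⁻¹)⁻¹ := by rw [inv_inv]
  have h2 := S0150.extendByZero_coe H θ ⟨x⁻¹ * h * (x⁻¹)⁻¹, hN.conj_mem h h.2 x⁻¹⟩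
  rw [e, h2]
  rfl

/-- A function induced from a normal subgroup vanishes off it. -/
theorem indFun_of_notMem (H : Subgroup G) [hN : H.Normal] (θ : H → ℂ) {y : G} (hy : y ∉ H) :
    indFun H θ y = 0 := by
  rw [S0150.indFun_apply]
  rw [Finset.sum_eq_zero, mul_zero]
  intro x _
  apply S0150.extendByZero_of_notMem
  intro h
  apply hy
  have := hN.conj_mem _ h x
  have e : x * (x⁻¹ * y * x) * x⁻¹ = y := by group
  rwa [e] at this

omit [Fintype G] in
theorem conjFn_eq_iff (H : Subgroup G) [hN : H.Normal] (θ : H → ℂ) (a b : G) :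
    conjFn H θ a = conjFn H θ b ↔ conjFn H θ (a * b⁻¹) = θ := by
  constructor
  · intro h
    rw [conjFn_mul, h, ← conjFn_mul, mul_inv_cancel, conjFn_one]
  · intro h
    have e : a = (a * b⁻¹) * b := by group
    conv_lhs => rw [e, conjFn_mul, h]

theorem indFun_restrict_eq_finsum (H : Subgroup G) [hN : H.Normal] (θ : H → ℂ) :
    (fun h : H => Cfsg.indFun H θ h) =
      ((Nat.card {g : G // ∀ h : H, θ ⟨g * h * g⁻¹, hN.conj_mem h h.2 g⟩ = θ h} : ℂ) /
        (Nat.card H : ℂ)) •
      ∑ᶠ ψ ∈ {ψ : H → ℂ | ∃ g : G, ψ = fun h : H => θ ⟨g * h * g⁻¹, hN.conj_mem h h.2 g⟩}, ψ := by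
  classical
  have hset : {ψ : H → ℂ | ∃ g : G, ψ = fun h : H => θ ⟨g * h * g⁻¹, hN.conj_mem h h.2 g⟩} =
      ((Finset.univ.image (conjFn H θ) : Finset (H → ℂ)) : Set (H → ℂ)) := by
    ext ψ
    simp only [Set.mem_ofPred_eq, Finset.coe_image, Finset.coe_univ, Set.image_univ, Set.mem_range]
    constructor
    · rintro ⟨g, rfl⟩
      exact ⟨g, rfl⟩
    · rintro ⟨g, rfl⟩
      exact ⟨g, rfl⟩
  rw [hset, finsum_mem_coe_finset]
  have hcard : ∀ ψ ∈ (Finset.univ.image (conjFn H θ) : Finset (H → ℂ)),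
      (Finset.univ.filter (fun g : G => conjFn H θ g = ψ)).card =
        Nat.card {g : G // ∀ h : H, θ ⟨g * h * g⁻¹, hN.conj_mem h h.2 g⟩ = θ h} := by
    intro ψ hψ
    obtain ⟨b, -, rfl⟩ := Finset.mem_image.mp hψ
    rw [← Fintype.card_subtype, ← Nat.card_eq_fintype_card]
    refine Nat.card_congr ((Equiv.mulRight b⁻¹).subtypeEquiv fun a => ?_)
    rw [conjFn_eq_iff, funext_iff]
    rfl
  have hsum : ∑ g : G, conjFn H θ g =
      (Nat.card {g : G // ∀ h : H, θ ⟨g * h * g⁻¹, hN.conj_mem h h.2 g⟩ = θ h} : ℂ) •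
        ∑ ψ ∈ (Finset.univ.image (conjFn H θ) : Finset (H → ℂ)), ψ := by
    rw [← Finset.sum_fiberwise_of_maps_to
      (s := Finset.univ) (t := Finset.univ.image (conjFn H θ)) (g := conjFn H θ)
      (fun g _ => Finset.mem_image_of_mem _ (Finset.mem_univ g)), Finset.smul_sum]
    refine Finset.sum_congr rfl fun ψ hψ => ?_
    rw [Finset.sum_congr rfl (g := fun _ => ψ) (fun g hg => (Finset.mem_filter.mp hg).2),
      Finset.sum_const, hcard ψ hψ, ← Nat.cast_smul_eq_nsmul ℂ]
  funext h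
  rw [indFun_coe, div_eq_inv_mul, mul_smul, ← hsum]
  simp

end Cfsg.Agent.OddOrderCharacters.NormalInduced
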