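import Cfsg.Prelude.Def_Characters
import Cfsg.Prelude.Def_OddOrderChar
import Cfsg.Agent.Characters.Core
import Cfsg.Agent.OddOrderCharacters.NormalInduced
import Cfsg.Agent.S0147
import Cfsg.Agent.S0148
import Mathlib
set_option linter.all false

/-!
# Induction and restriction of functions and characters

* `res H χ` : the restriction of `χ : G → ℂ` to the subgroup `H`;
* linearity, conjugation, value at `1`, transitivity and the projection formula for `indFun`;
* Frobenius reciprocity in both arguments;
* induced (generalized) characters are (generalized) characters;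
* the normal subgroup case: values, restriction, conjugates of characters, norm.
-/

set_option autoImplicit false
open Cfsg
open scoped ComplexConjugate

namespace Cfsg.Agent.OddOrderCharacters.IndRes

open Cfsg.Agent.Characters.Core
open Cfsg.Agent.OddOrderCharacters.NormalInduced

universe u

variable {G : Type u} [Group G]

/-- Restriction of a function to a subgroup. -/
def res (H : Subgroup G) (χ : G → ℂ) : H → ℂ := fun h : H => χ h

theorem res_apply (H : Subgroup G) (χ : G → ℂ) (h : H) : res H χ h = χ h := rfl

theorem res_def (H : Subgroup G) (χ : G → ℂ) : res H χ = fun h : H => χ h := rfl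

section restriction

variable (H : Subgroup G)

theorem res_add (χ ψ : G → ℂ) : res H (χ + ψ) = res H χ + res H ψ := rfl

theorem res_sub (χ ψ : G → ℂ) : res H (χ - ψ) = res H χ - res H ψ := rfl

theorem res_neg (χ : G → ℂ) : res H (-χ) = -res H χ := rfl

theorem res_zero : res H (0 : G → ℂ) = 0 := rfl

theorem res_mul (χ ψ : G → ℂ) : res H (χ * ψ) = res H χ * res H ψ := rfl

theorem res_smul (c : ℂ) (χ : G → ℂ) : res H (c • χ) = c • res H χ := rfl

theorem res_nsmul (n : ℕ) (χ : G → ℂ) : res H (n • χ) = n • res H χ := rfl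

theorem res_zsmul (n : ℤ) (χ : G → ℂ) : res H (n • χ) = n • res H χ := rfl

theorem res_conjFun (χ : G → ℂ) : res H (conjFun χ) = conjFun (res H χ) := rfl

theorem res_sum {ι : Type*} (s : Finset ι) (f : ι → G → ℂ) :
    res H (∑ i ∈ s, f i) = ∑ i ∈ s, res H (f i) := by
  funext h
  simp only [res_apply, Finset.sum_apply]

theorem isClassFunction_res {χ : G → ℂ} (hχ : IsClassFunction G χ) :
    IsClassFunction H (res H χ) := fun g h => hχ g h

theorem isCharacter_res {χ : G → ℂ} (hχ : IsCharacter G χ) : IsCharacter H (res H χ) :=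
  isCharacter_comp H.subtype hχ

theorem isGeneralizedCharacter_res {χ : G → ℂ} (hχ : IsGeneralizedCharacter G χ) :
    IsGeneralizedCharacter H (res H χ) := by
  obtain ⟨a, b, ha, hb, rfl⟩ := hχ
  exact ⟨res H a, res H b, isCharacter_res H ha, isCharacter_res H hb, rfl⟩

end restriction

/-! ### Extension by zero -/

section ext

variable (H : Subgroup G)

theorem ext_coe (θ : H → ℂ) (h : H) : extendByZero H θ (h : G) = θ h :=
  extendByZero_of_mem H θ h.2

theorem ext_add (θ φ : H → ℂ) (g : G) :
    extendByZero H (θ + φ) g = extendByZero H θ g + extendByZero H φ g := by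
  by_cases hg : g ∈ H
  · simp only [extendByZero_of_mem H _ hg, Pi.add_apply]
  · simp only [extendByZero_of_notMem H _ hg, add_zero]

theorem ext_smul (c : ℂ) (θ : H → ℂ) (g : G) :
    extendByZero H (c • θ) g = c * extendByZero H θ g := by
  by_cases hg : g ∈ H
  · simp only [extendByZero_of_mem H _ hg, Pi.smul_apply, smul_eq_mul]
  · simp only [extendByZero_of_notMem H _ hg, mul_zero]

theorem ext_mul_res (θ : H → ℂ) (χ : G → ℂ) (g : G) :
    extendByZero H (θ * res H χ) g = extendByZero H θ g * χ g := by
  by_cases hg : g ∈ H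
  · simp only [extendByZero_of_mem H _ hg, Pi.mul_apply, res_apply]
  · simp only [extendByZero_of_notMem H _ hg, zero_mul]

theorem ext_conj (θ : H → ℂ) (g : G) :
    extendByZero H (fun h => conj (θ h)) g = conj (extendByZero H θ g) := by
  by_cases hg : g ∈ H
  · simp only [extendByZero_of_mem H _ hg]
  · simp only [extendByZero_of_notMem H _ hg, map_zero]

end ext

variable [Fintype G]

section ind

variable (H : Subgroup G)

/-! ### Linearity of induction -/

theorem indFun_add (θ φ : H → ℂ) : indFun H (θ + φ) = indFun H θ + indFun H φ := by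
  funext g
  simp only [indFun_apply, Pi.add_apply, ext_add, Finset.sum_add_distrib, mul_add]

theorem indFun_smul (c : ℂ) (θ : H → ℂ) : indFun H (c • θ) = c • indFun H θ := by
  funext g
  simp only [indFun_apply, Pi.smul_apply, ext_smul, ← Finset.mul_sum, smul_eq_mul]
  ring

/-- Induction as a linear map. -/
noncomputable def indLin : (H → ℂ) →ₗ[ℂ] (G → ℂ) where
  toFun := indFun H
  map_add' := indFun_add H
  map_smul' := indFun_smul H

theorem indLin_apply (θ : H → ℂ) : indLin H θ = indFun H θ := rfl

theorem indFun_zero : indFun H (0 : H → ℂ) = 0 := (indLin H).map_zero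

theorem indFun_neg (θ : H → ℂ) : indFun H (-θ) = -indFun H θ := (indLin H).map_neg θ

theorem indFun_sub (θ φ : H → ℂ) : indFun H (θ - φ) = indFun H θ - indFun H φ :=
  (indLin H).map_sub θ φ

theorem indFun_nsmul (n : ℕ) (θ : H → ℂ) : indFun H (n • θ) = n • indFun H θ :=
  map_nsmul (indLin H) n θ

theorem indFun_zsmul (n : ℤ) (θ : H → ℂ) : indFun H (n • θ) = n • indFun H θ :=
  map_zsmul (indLin H) n θ

theorem indFun_sum {ι : Type*} (s : Finset ι) (f : ι → H → ℂ) :
    indFun H (∑ i ∈ s, f i) = ∑ i ∈ s, indFun H (f i) :=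
  map_sum (indLin H) f s

theorem conj_indFun (θ : H → ℂ) :
    (fun g => conj (indFun H θ g)) = indFun H (fun h => conj (θ h)) := by
  funext g
  simp only [indFun_apply, map_mul, map_inv₀, Complex.conj_natCast, map_sum, ext_conj]

theorem conjFun_indFun (θ : H → ℂ) : conjFun (indFun H θ) = indFun H (conjFun θ) :=
  conj_indFun H θ

/-- Value of an induced function at `1`. -/
theorem indFun_apply_one (θ : H → ℂ) : indFun H θ 1 = (H.index : ℂ) * θ 1 := by
  rw [indFun_apply]
  have h : ∀ x : G, extendByZero H θ (x⁻¹ * 1 * x) = θ 1 := by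
    intro x
    have e : x⁻¹ * 1 * x = ((1 : H) : G) := by simp
    rw [e, ext_coe]
  rw [Finset.sum_congr rfl fun x _ => h x, Finset.sum_const, Finset.card_univ, nsmul_eq_mul,
    ← Nat.card_eq_fintype_card, ← H.card_mul_index]
  push_cast
  rw [← mul_assoc, ← mul_assoc, inv_mul_cancel₀ (card_ne_zero_complex (G := H)), one_mul]

theorem isClassFunction_indFun (θ : H → ℂ) : IsClassFunction G (indFun H θ) :=
  fun g h => S0150.indFun_isClassFunction H θ g h

/-- An induced function vanishes on elements with no conjugate in the subgroup. -/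
theorem indFun_eq_zero_of_forall (θ : H → ℂ) {g : G} (hg : ∀ x : G, x⁻¹ * g * x ∉ H) :
    indFun H θ g = 0 := by
  rw [indFun_apply, Finset.sum_eq_zero, mul_zero]
  intro x _
  exact extendByZero_of_notMem H θ (hg x)

/-- More precisely: the induced function vanishes at `g` if the function vanishes on all
conjugates of `g` lying in the subgroup. -/
theorem indFun_eq_zero_of_forall_apply (θ : H → ℂ) {g : G}
    (hg : ∀ (x : G) (h : x⁻¹ * g * x ∈ H), θ ⟨x⁻¹ * g * x, h⟩ = 0) :
    indFun H θ g = 0 := by
  rw [indFun_apply, Finset.sum_eq_zero, mul_zero]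
  intro x _
  by_cases h : x⁻¹ * g * x ∈ H
  · rw [extendByZero_of_mem H θ h, hg x h]
  · exact extendByZero_of_notMem H θ h

/-- Projection formula. -/
theorem indFun_mul (θ : H → ℂ) {χ : G → ℂ} (hχ : IsClassFunction G χ) :
    indFun H (θ * res H χ) = indFun H θ * χ := by
  funext g
  rw [indFun_apply, Pi.mul_apply, indFun_apply, mul_assoc, Finset.sum_mul]
  congr 1
  refine Finset.sum_congr rfl fun x _ => ?_
  rw [ext_mul_res]
  have h := hχ g x⁻¹
  rw [inv_inv] at h
  rw [h]

/-- Transitivity of induction. -/
theorem indFun_trans (K : Subgroup G) [Fintype K] (hHK : H ≤ K) (θ : H → ℂ) :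
    indFun K (indFun (H.subgroupOf K)
      (fun x => θ ⟨(x : K), Subgroup.mem_subgroupOf.mp x.2⟩)) = indFun H θ :=
  S0147.result H K hHK θ

/-! ### Frobenius reciprocity -/

variable [Fintype H]

theorem classInner_indFun_left (θ : H → ℂ) {χ : G → ℂ} (hχ : IsClassFunction G χ) :
    classInner (indFun H θ) χ = classInner θ (res H χ) :=
  S0150.classInner_indFun H θ χ hχ

theorem classInner_indFun_right (θ : H → ℂ) {χ : G → ℂ} (hχ : IsClassFunction G χ) :
    classInner χ (indFun H θ) = classInner (res H χ) θ := by
  rw [← classInner_conj_symm, classInner_indFun_left H θ hχ, classInner_conj_symm]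

omit [Fintype H]

theorem isCharacter_indFun {θ : H → ℂ} (hθ : IsCharacter H θ) : IsCharacter G (indFun H θ) :=
  S0148.result H θ hθ

theorem isGeneralizedCharacter_indFun {θ : H → ℂ} (hθ : IsGeneralizedCharacter H θ) :
    IsGeneralizedCharacter G (indFun H θ) := by
  obtain ⟨a, b, ha, hb, rfl⟩ := hθ
  exact ⟨indFun H a, indFun H b, isCharacter_indFun H ha, isCharacter_indFun H hb,
    indFun_sub H a b⟩

/-- Frobenius reciprocity for irreducible characters: multiplicities agree. -/
theorem classInner_res_symm [Fintype H] {θ : H → ℂ} (hθ : IsCharacter H θ) {χ : G → ℂ}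
    (hχ : IsCharacter G χ) :
    classInner (indFun H θ) χ = classInner (res H χ) θ := by
  rw [classInner_indFun_left H θ (isCharacter_isClassFunction hχ)]
  obtain ⟨n, hn⟩ := classInner_isNat hθ (isCharacter_res H hχ)
  rw [hn, ← classInner_conj_symm, hn, Complex.conj_natCast]

end ind

/-! ### The normal case -/

section normal

omit [Fintype G] in
theorem conjFn_apply' (H : Subgroup G) [hN : H.Normal] (θ : H → ℂ) (g : G) (h : H) :
    conjFn H θ g h = θ (MulAut.conjNormal g h) := rfl

omit [Fintype G] in
theorem conjFn_eq_comp (H : Subgroup G) [hN : H.Normal] (θ : H → ℂ) (g : G) :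
    conjFn H θ g = θ ∘ (MulAut.conjNormal g : MulAut H).toMonoidHom := rfl

omit [Fintype G] in
/-- A conjugate of a character is a character. -/
theorem isCharacter_conjFn (H : Subgroup G) [hN : H.Normal] {θ : H → ℂ} (hθ : IsCharacter H θ)
    (g : G) : IsCharacter H (conjFn H θ g) :=
  isCharacter_comp (MulAut.conjNormal g : MulAut H).toMonoidHom hθ

omit [Fintype G] in
/-- A conjugate of an irreducible character is irreducible. -/
theorem isIrr_conjFn (H : Subgroup G) [hN : H.Normal] {θ : H → ℂ} (hθ : IsIrrCharacter H θ)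
    (g : G) : IsIrrCharacter H (conjFn H θ g) :=
  isIrr_comp (MulAut.conjNormal g : MulAut H).toMonoidHom
    (MulAut.conjNormal g : MulAut H).surjective hθ

omit [Fintype G] in
theorem isIrr_conjFn_iff (H : Subgroup G) [hN : H.Normal] {θ : H → ℂ} (g : G) :
    IsIrrCharacter H (conjFn H θ g) ↔ IsIrrCharacter H θ := by
  refine ⟨fun h => ?_, fun h => isIrr_conjFn H h g⟩
  have := isIrr_conjFn H h g⁻¹
  rwa [← conjFn_mul, mul_inv_cancel, conjFn_one] at this

omit [Fintype G] in
theorem isGeneralizedCharacter_conjFn (H : Subgroup G) [hN : H.Normal] {θ : H → ℂ}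
    (hθ : IsGeneralizedCharacter H θ) (g : G) : IsGeneralizedCharacter H (conjFn H θ g) := by
  obtain ⟨a, b, ha, hb, rfl⟩ := hθ
  exact ⟨_, _, isCharacter_conjFn H ha g, isCharacter_conjFn H hb g, rfl⟩

omit [Fintype G] in
theorem isClassFunction_conjFn (H : Subgroup G) [hN : H.Normal] {θ : H → ℂ}
    (hθ : IsClassFunction H θ) (g : G) : IsClassFunction H (conjFn H θ g) := by
  intro x y
  rw [conjFn_apply', conjFn_apply', map_mul, map_mul, map_inv]
  exact hθ _ _

omit [Fintype G] in
theorem conjFn_apply_one (H : Subgroup G) [hN : H.Normal] (θ : H → ℂ) (g : G) :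
    conjFn H θ g 1 = θ 1 := by
  rw [conjFn_apply', map_one]

omit [Fintype G] in
/-- Conjugating by an element of `H` does not change a class function of `H`. -/
theorem conjFn_of_mem (H : Subgroup G) [hN : H.Normal] {θ : H → ℂ}
    (hθ : IsClassFunction H θ) {g : G} (hg : g ∈ H) : conjFn H θ g = θ := by
  funext h
  exact hθ h ⟨g, hg⟩

omit [Fintype G] in
theorem conjFn_add (H : Subgroup G) [hN : H.Normal] (θ φ : H → ℂ) (g : G) :
    conjFn H (θ + φ) g = conjFn H θ g + conjFn H φ g := rfl

omit [Fintype G] in
theorem conjFn_sub (H : Subgroup G) [hN : H.Normal] (θ φ : H → ℂ) (g : G) :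
    conjFn H (θ - φ) g = conjFn H θ g - conjFn H φ g := rfl

omit [Fintype G] in
theorem conjFn_smul (H : Subgroup G) [hN : H.Normal] (c : ℂ) (θ : H → ℂ) (g : G) :
    conjFn H (c • θ) g = c • conjFn H θ g := rfl

omit [Fintype G] in
theorem conjFn_conjFun (H : Subgroup G) [hN : H.Normal] (θ : H → ℂ) (g : G) :
    conjFn H (conjFun θ) g = conjFun (conjFn H θ g) := rfl

omit [Fintype G] in
/-- The restriction of a class function of `G` to a normal subgroup is invariant. -/
theorem conjFn_res (H : Subgroup G) [hN : H.Normal] {χ : G → ℂ} (hχ : IsClassFunction G χ)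
    (g : G) : conjFn H (res H χ) g = res H χ := by
  funext h
  exact hχ h g

omit [Fintype G] in
/-- Conjugation preserves the inner product. -/
theorem classInner_conjFn (H : Subgroup G) [hN : H.Normal] [Fintype H] (θ φ : H → ℂ) (g : G) :
    classInner (conjFn H θ g) (conjFn H φ g) = classInner θ φ := by
  rw [classInner_def, classInner_def]
  congr 1
  exact Fintype.sum_equiv (MulAut.conjNormal g : MulAut H).toEquiv _ _ fun h => rfl

/-- The restriction of an induced function to the normal subgroup. -/
theorem res_indFun (H : Subgroup G) [hN : H.Normal] (θ : H → ℂ) :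
    res H (indFun H θ) = (Nat.card H : ℂ)⁻¹ • ∑ g : G, conjFn H θ g := by
  funext h
  rw [res_apply, indFun_coe, Pi.smul_apply, Finset.sum_apply, smul_eq_mul]

/-- Inner product of two functions induced from a normal subgroup. -/
theorem classInner_indFun_indFun (H : Subgroup G) [hN : H.Normal] [Fintype H] (θ φ : H → ℂ) :
    classInner (indFun H θ) (indFun H φ) =
      (Nat.card H : ℂ)⁻¹ * ∑ g : G, classInner θ (conjFn H φ g) := by
  rw [classInner_indFun_left H θ (isClassFunction_indFun H φ), res_indFun,
    classInner_smul_right, classInner_sum_right, map_inv₀, Complex.conj_natCast]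

open scoped Classical in
/-- Norm formula: number of elements of `G` fixing `θ`, divided by `|H|`. -/
theorem classInner_indFun_self (H : Subgroup G) [hN : H.Normal] {θ : H → ℂ}
    (hθ : IsIrrCharacter H θ) :
    classInner (indFun H θ) (indFun H θ) =
      (Nat.card H : ℂ)⁻¹ * (Nat.card {g : G // conjFn H θ g = θ} : ℂ) := by
  have : Fintype H := Fintype.ofFinite H
  rw [classInner_indFun_indFun]
  congr 1
  rw [Finset.sum_congr rfl fun g _ => classInner_irr hθ (isIrr_conjFn H hθ g)]
  rw [Finset.sum_boole, Nat.card_eq_fintype_card, Fintype.card_subtype]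
  congr 2
  ext g
  simp only [Finset.mem_filter, Finset.mem_univ, true_and]
  exact eq_comm

/-- Induced functions of irreducible characters of a normal subgroup are orthogonal unless the
characters are conjugate. -/
theorem classInner_indFun_eq_zero (H : Subgroup G) [hN : H.Normal] {θ φ : H → ℂ}
    (hθ : IsIrrCharacter H θ) (hφ : IsIrrCharacter H φ) (h : ∀ g : G, conjFn H φ g ≠ θ) :
    classInner (indFun H θ) (indFun H φ) = 0 := by
  have : Fintype H := Fintype.ofFinite H
  rw [classInner_indFun_indFun, Finset.sum_eq_zero, mul_zero]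
  intro g _
  exact classInner_irr_ne hθ (isIrr_conjFn H hφ g) (h g).symm

/-- Equal or orthogonal. -/
theorem indFun_eq_or_classInner_eq_zero (H : Subgroup G) [hN : H.Normal] {θ φ : H → ℂ}
    (hθ : IsIrrCharacter H θ) (hφ : IsIrrCharacter H φ) :
    indFun H θ = indFun H φ ∨ classInner (indFun H θ) (indFun H φ) = 0 := by
  by_cases h : ∃ g : G, conjFn H φ g = θ
  · obtain ⟨g, rfl⟩ := h
    exact Or.inl (indFun_conjFn H φ g)
  · push Not at h
    exact Or.inr (classInner_indFun_eq_zero H hθ hφ h)

/-- `indFun H θ = indFun H φ` exactly when `θ` and `φ` are conjugate (irreducible characters of a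
normal subgroup). -/
theorem indFun_eq_iff (H : Subgroup G) [hN : H.Normal] {θ φ : H → ℂ}
    (hθ : IsIrrCharacter H θ) (hφ : IsIrrCharacter H φ) :
    indFun H θ = indFun H φ ↔ ∃ g : G, conjFn H φ g = θ := by
  constructor
  · intro h
    by_contra hne
    push Not at hne
    have h0 := classInner_indFun_eq_zero H hθ hφ hne
    rw [← h] at h0
    have h1 := congrFun (classInner_self_eq_zero h0) 1
    rw [indFun_apply_one, Pi.zero_apply] at h1
    rcases mul_eq_zero.mp h1 with h2 | h2
    · exact (Nat.cast_ne_zero.mpr (Subgroup.index_ne_zero_of_finite (H := H))) h2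
    · exact isIrr_apply_one_ne_zero hθ h2
  · rintro ⟨g, rfl⟩
    exact indFun_conjFn H φ g

/-- Induction from a normal subgroup `H` of an irreducible character whose inertia group is `H`
is irreducible. -/
theorem isIrr_indFun_of_stabilizer (H : Subgroup G) [hN : H.Normal] {θ : H → ℂ}
    (hθ : IsIrrCharacter H θ) (h : ∀ g : G, conjFn H θ g = θ → g ∈ H) :
    IsIrrCharacter G (indFun H θ) := by
  classical
  rw [isIrr_iff_classInner_self (isCharacter_indFun H (isIrr_isCharacter hθ)),
    classInner_indFun_self H hθ]
  have hc : Nat.card {g : G // conjFn H θ g = θ} = Nat.card H := by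
    refine Nat.card_congr (Equiv.subtypeEquivRight fun g => ⟨h g, fun hg => ?_⟩)
    exact conjFn_of_mem H (isIrr_isClassFunction hθ) hg
  rw [hc, inv_mul_cancel₀ card_ne_zero_complex]

/-- The function induced from an invariant class function of a normal subgroup. -/
theorem indFun_of_invariant (H : Subgroup G) [hN : H.Normal] {θ : H → ℂ}
    (h : ∀ g : G, conjFn H θ g = θ) (x : H) : indFun H θ (x : G) = (H.index : ℂ) * θ x := by
  rw [indFun_coe]
  simp only [h]
  rw [Finset.sum_const, Finset.card_univ, nsmul_eq_mul, ← Nat.card_eq_fintype_card,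
    ← H.card_mul_index]
  push_cast
  rw [← mul_assoc, ← mul_assoc, inv_mul_cancel₀ (card_ne_zero_complex (G := H)), one_mul]

/-- Inducing the restriction: multiplication by the permutation character of `G/H`. -/
theorem indFun_res (H : Subgroup G) {χ : G → ℂ} (hχ : IsClassFunction G χ) :
    indFun H (res H χ) = indFun H (fun _ => 1) * χ := by
  rw [← indFun_mul H _ hχ]
  congr 1
  funext h
  simp

end normal

end Cfsg.Agent.OddOrderCharacters.IndRes
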