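import Cfsg.Agent.Characters.Core
import Cfsg.Prelude.Def_OddOrderChar
set_option linter.all false

/-!
# Generalized characters, integer spans, linear isometries

API for `Cfsg.IsGeneralizedCharacter`, `Cfsg.zspan`, `Cfsg.zspanOn`, `Cfsg.IsLinearIsometryOn`,
`Cfsg.IsCoherent`, `Cfsg.conjFun`.
-/

set_option autoImplicit false

open scoped ComplexConjugate
open Cfsg Cfsg.Agent.Characters.Core

namespace Cfsg.Agent.OddOrderCharacters.VChar

/-! ### Generalized characters -/

section gen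

variable {G : Type*} [Group G]

theorem gen_of_char {χ : G → ℂ} (h : IsCharacter G χ) : IsGeneralizedCharacter G χ :=
  ⟨χ, 0, h, isCharacter_zero, by simp⟩

theorem gen_of_irr {χ : G → ℂ} (h : IsIrrCharacter G χ) : IsGeneralizedCharacter G χ :=
  gen_of_char (isIrr_isCharacter h)

theorem gen_of_irr_or_neg {χ : G → ℂ} (h : IsIrrCharacter G χ ∨ IsIrrCharacter G (-χ)) :
    IsGeneralizedCharacter G χ := by
  rcases h with h | h
  · exact gen_of_irr h
  · exact ⟨0, -χ, isCharacter_zero, isIrr_isCharacter h, by simp⟩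

theorem gen_zero : IsGeneralizedCharacter G (0 : G → ℂ) := gen_of_char isCharacter_zero

theorem gen_one : IsGeneralizedCharacter G (1 : G → ℂ) := gen_of_char isCharacter_one

theorem gen_add {φ ψ : G → ℂ} (hφ : IsGeneralizedCharacter G φ)
    (hψ : IsGeneralizedCharacter G ψ) : IsGeneralizedCharacter G (φ + ψ) := by
  obtain ⟨a, b, ha, hb, rfl⟩ := hφ
  obtain ⟨c, d, hc, hd, rfl⟩ := hψ
  exact ⟨a + c, b + d, isCharacter_add ha hc, isCharacter_add hb hd, by abel⟩

theorem gen_neg {φ : G → ℂ} (hφ : IsGeneralizedCharacter G φ) :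
    IsGeneralizedCharacter G (-φ) := by
  obtain ⟨a, b, ha, hb, rfl⟩ := hφ
  exact ⟨b, a, hb, ha, by abel⟩

theorem gen_sub {φ ψ : G → ℂ} (hφ : IsGeneralizedCharacter G φ)
    (hψ : IsGeneralizedCharacter G ψ) : IsGeneralizedCharacter G (φ - ψ) := by
  rw [sub_eq_add_neg]
  exact gen_add hφ (gen_neg hψ)

theorem gen_nsmul {φ : G → ℂ} (n : ℕ) (hφ : IsGeneralizedCharacter G φ) :
    IsGeneralizedCharacter G (n • φ) := by
  obtain ⟨a, b, ha, hb, rfl⟩ := hφ
  exact ⟨n • a, n • b, isCharacter_nsmul n ha, isCharacter_nsmul n hb, by rw [smul_sub]⟩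

theorem gen_zsmul {φ : G → ℂ} (n : ℤ) (hφ : IsGeneralizedCharacter G φ) :
    IsGeneralizedCharacter G (n • φ) := by
  rcases Int.eq_nat_or_neg n with ⟨m, rfl | rfl⟩
  · simpa using gen_nsmul m hφ
  · simpa using gen_neg (gen_nsmul m hφ)

theorem gen_intCast_smul {φ : G → ℂ} (n : ℤ) (hφ : IsGeneralizedCharacter G φ) :
    IsGeneralizedCharacter G ((n : ℂ) • φ) := by
  have h : ((n : ℂ) • φ) = n • φ := by
    funext x; simp [zsmul_eq_mul]
  rw [h]; exact gen_zsmul n hφ

theorem gen_sum {ι : Type*} (s : Finset ι) {f : ι → G → ℂ}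
    (hf : ∀ i ∈ s, IsGeneralizedCharacter G (f i)) :
    IsGeneralizedCharacter G (∑ i ∈ s, f i) := by
  classical
  induction s using Finset.induction_on with
  | empty => simpa using gen_zero
  | insert a s ha ih =>
    rw [Finset.sum_insert ha]
    exact gen_add (hf a (Finset.mem_insert_self a s))
      (ih fun i hi => hf i (Finset.mem_insert_of_mem hi))

theorem gen_mul {φ ψ : G → ℂ} (hφ : IsGeneralizedCharacter G φ)
    (hψ : IsGeneralizedCharacter G ψ) : IsGeneralizedCharacter G (φ * ψ) := by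
  obtain ⟨a, b, ha, hb, rfl⟩ := hφ
  obtain ⟨c, d, hc, hd, rfl⟩ := hψ
  exact ⟨a * c + b * d, a * d + b * c, isCharacter_add (isCharacter_mul ha hc)
    (isCharacter_mul hb hd), isCharacter_add (isCharacter_mul ha hd) (isCharacter_mul hb hc),
    by ring⟩

theorem gen_isClassFunction {φ : G → ℂ} (hφ : IsGeneralizedCharacter G φ) :
    IsClassFunction G φ := by
  obtain ⟨a, b, ha, hb, rfl⟩ := hφ
  intro g h
  simp only [Pi.sub_apply]
  rw [isCharacter_isClassFunction ha g h, isCharacter_isClassFunction hb g h]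

theorem gen_comp {H : Type*} [Group H] (f : H →* G) {φ : G → ℂ}
    (hφ : IsGeneralizedCharacter G φ) : IsGeneralizedCharacter H (φ ∘ f) := by
  obtain ⟨a, b, ha, hb, rfl⟩ := hφ
  exact ⟨a ∘ f, b ∘ f, isCharacter_comp f ha, isCharacter_comp f hb, rfl⟩

theorem gen_restrict (H : Subgroup G) {φ : G → ℂ} (hφ : IsGeneralizedCharacter G φ) :
    IsGeneralizedCharacter H (fun h : H => φ h) :=
  gen_comp H.subtype hφ

/-- The value of a generalized character at `1` is an integer. -/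
theorem gen_apply_one {φ : G → ℂ} (hφ : IsGeneralizedCharacter G φ) : ∃ n : ℤ, φ 1 = n := by
  obtain ⟨a, b, ha, hb, rfl⟩ := hφ
  obtain ⟨n, hn⟩ := isCharacter_apply_one ha
  obtain ⟨m, hm⟩ := isCharacter_apply_one hb
  exact ⟨(n : ℤ) - m, by simp [hn, hm]⟩

theorem gen_apply_inv [Finite G] {φ : G → ℂ} (hφ : IsGeneralizedCharacter G φ) (g : G) :
    φ g⁻¹ = conj (φ g) := by
  obtain ⟨a, b, ha, hb, rfl⟩ := hφ
  simp [isCharacter_apply_inv ha, isCharacter_apply_inv hb]

theorem gen_conjFun [Finite G] {φ : G → ℂ} (hφ : IsGeneralizedCharacter G φ) :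
    IsGeneralizedCharacter G (conjFun φ) := by
  obtain ⟨a, b, ha, hb, rfl⟩ := hφ
  refine ⟨fun g => conj (a g), fun g => conj (b g), isCharacter_conj ha, isCharacter_conj hb, ?_⟩
  funext g
  simp [conjFun]

section inner

variable [Fintype G]

/-- The inner product of two generalized characters is an integer. -/
theorem gen_inner {φ ψ : G → ℂ} (hφ : IsGeneralizedCharacter G φ)
    (hψ : IsGeneralizedCharacter G ψ) : ∃ n : ℤ, classInner φ ψ = n := by
  obtain ⟨a, b, ha, hb, rfl⟩ := hφ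
  obtain ⟨c, d, hc, hd, rfl⟩ := hψ
  obtain ⟨n₁, h₁⟩ := classInner_isNat ha hc
  obtain ⟨n₂, h₂⟩ := classInner_isNat ha hd
  obtain ⟨n₃, h₃⟩ := classInner_isNat hb hc
  obtain ⟨n₄, h₄⟩ := classInner_isNat hb hd
  refine ⟨(n₁ : ℤ) - n₂ - (n₃ - n₄), ?_⟩
  rw [classInner_sub_left, classInner_sub_right, classInner_sub_right, h₁, h₂, h₃, h₄]
  push_cast
  ring

/-- The norm of any function is a nonnegative real. -/
theorem classInner_self_eq (φ : G → ℂ) :
    classInner φ φ = (((Nat.card G : ℝ)⁻¹ * ∑ g : G, ‖φ g‖ ^ 2 : ℝ) : ℂ) := by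
  unfold classInner
  push_cast
  congr 1
  refine Finset.sum_congr rfl fun g _ => ?_
  rw [Complex.mul_conj, Complex.normSq_eq_norm_sq]
  push_cast
  rfl

theorem classInner_self_re_nonneg (φ : G → ℂ) : 0 ≤ (classInner φ φ).re := by
  rw [classInner_self_eq, Complex.ofReal_re]
  positivity

theorem classInner_self_im (φ : G → ℂ) : (classInner φ φ).im = 0 := by
  rw [classInner_self_eq, Complex.ofReal_im]

/-- The norm of a generalized character is a natural number. -/
theorem gen_norm {φ : G → ℂ} (hφ : IsGeneralizedCharacter G φ) :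
    ∃ n : ℕ, classInner φ φ = n := by
  obtain ⟨n, hn⟩ := gen_inner hφ hφ
  have h0 := classInner_self_re_nonneg φ
  rw [hn] at h0
  have h1 : (0 : ℤ) ≤ n := by
    have : (0 : ℝ) ≤ (n : ℝ) := by simpa using h0
    exact_mod_cast this
  obtain ⟨m, rfl⟩ := Int.eq_ofNat_of_zero_le h1
  exact ⟨m, by simpa using hn⟩

theorem gen_inner_comm {φ ψ : G → ℂ} (hφ : IsGeneralizedCharacter G φ)
    (hψ : IsGeneralizedCharacter G ψ) : classInner φ ψ = classInner ψ φ := by
  obtain ⟨n, hn⟩ := gen_inner hψ hφ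
  rw [← classInner_conj_symm ψ φ, hn]
  simp

theorem classInner_comm_eq_zero {φ ψ : G → ℂ} (h : classInner φ ψ = 0) :
    classInner ψ φ = 0 := by
  rw [← classInner_conj_symm, h, map_zero]

/-- Inner products with an integer multiple. -/
theorem classInner_zsmul_left (n : ℤ) (φ ψ : G → ℂ) :
    classInner (n • φ) ψ = n * classInner φ ψ := by
  have h : (n • φ) = ((n : ℂ) • φ) := by funext x; simp [zsmul_eq_mul]
  rw [h, classInner_smul_left]

theorem classInner_zsmul_right (n : ℤ) (φ ψ : G → ℂ) :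
    classInner φ (n • ψ) = n * classInner φ ψ := by
  have h : (n • ψ) = ((n : ℂ) • ψ) := by funext x; simp [zsmul_eq_mul]
  rw [h, classInner_smul_right]
  simp

theorem classInner_nsmul_left (n : ℕ) (φ ψ : G → ℂ) :
    classInner (n • φ) ψ = n * classInner φ ψ := by
  simpa using classInner_zsmul_left (n : ℤ) φ ψ

theorem classInner_nsmul_right (n : ℕ) (φ ψ : G → ℂ) :
    classInner φ (n • ψ) = n * classInner φ ψ := by
  simpa using classInner_zsmul_right (n : ℤ) φ ψ

theorem classInner_conjFun (φ ψ : G → ℂ) :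
    classInner (conjFun φ) (conjFun ψ) = conj (classInner φ ψ) := by
  unfold classInner conjFun
  rw [map_mul, map_sum]
  congr 1
  · simp
  · refine Finset.sum_congr rfl fun g _ => ?_
    simp

/-- The integer coefficients of a generalized character on the irreducible characters. -/
theorem gen_eq_sum [Fintype (IrrCharacter G)] {φ : G → ℂ} (hφ : IsGeneralizedCharacter G φ) :
    φ = ∑ χ : IrrCharacter G, classInner φ (χ : G → ℂ) • (χ : G → ℂ) :=
  classFunction_eq_sum (gen_isClassFunction hφ)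

/-- Two class functions with the same inner products with irreducible characters are equal. -/
theorem eq_of_inner_irr {φ ψ : G → ℂ} (hφ : IsClassFunction G φ) (hψ : IsClassFunction G ψ)
    (h : ∀ χ : G → ℂ, IsIrrCharacter G χ → classInner φ χ = classInner ψ χ) : φ = ψ := by
  rw [← sub_eq_zero]
  refine classFunction_eq_zero ?_ ?_
  · intro g k
    simp only [Pi.sub_apply, hφ g k, hψ g k]
  · intro χ hχ
    rw [classInner_sub_left, h χ hχ, sub_self]

/-- A class function all of whose inner products with irreducible characters are integers is a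
generalized character. -/
theorem gen_of_inner_int {φ : G → ℂ} (hφ : IsClassFunction G φ)
    (h : ∀ χ : G → ℂ, IsIrrCharacter G χ → ∃ n : ℤ, classInner φ χ = n) :
    IsGeneralizedCharacter G φ := by
  haveI := finite_irr (G := G)
  haveI := Fintype.ofFinite (IrrCharacter G)
  rw [isGeneralizedCharacter_iff]
  choose m hm using fun χ : IrrCharacter G => h χ.1 χ.2
  refine ⟨m, ?_⟩
  conv_lhs => rw [classFunction_eq_sum hφ]
  refine Finset.sum_congr rfl fun χ _ => ?_
  rw [hm χ]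
  funext x
  simp [zsmul_eq_mul]

end inner

theorem conjFun_conjFun {X : Type*} (φ : X → ℂ) : conjFun (conjFun φ) = φ := by
  funext x; simp [conjFun]

theorem conjFun_apply {X : Type*} (φ : X → ℂ) (x : X) : conjFun φ x = conj (φ x) := rfl

theorem conjFun_add {X : Type*} (φ ψ : X → ℂ) : conjFun (φ + ψ) = conjFun φ + conjFun ψ := by
  funext x; simp [conjFun]

theorem conjFun_sub {X : Type*} (φ ψ : X → ℂ) : conjFun (φ - ψ) = conjFun φ - conjFun ψ := by
  funext x; simp [conjFun]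

theorem conjFun_neg {X : Type*} (φ : X → ℂ) : conjFun (-φ) = -conjFun φ := by
  funext x; simp [conjFun]

theorem conjFun_zero {X : Type*} : conjFun (0 : X → ℂ) = 0 := by
  funext x; simp [conjFun]

theorem conjFun_zsmul {X : Type*} (n : ℤ) (φ : X → ℂ) : conjFun (n • φ) = n • conjFun φ := by
  funext x; simp [conjFun, zsmul_eq_mul]

theorem conjFun_sum {X ι : Type*} (s : Finset ι) (f : ι → X → ℂ) :
    conjFun (∑ i ∈ s, f i) = ∑ i ∈ s, conjFun (f i) := by
  funext x; simp [conjFun, Finset.sum_apply]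

theorem conjFun_injective {X : Type*} : Function.Injective (conjFun : (X → ℂ) → (X → ℂ)) := by
  intro a b h
  rw [← conjFun_conjFun a, h, conjFun_conjFun]

theorem isIrr_conjFun [Finite G] {χ : G → ℂ} (h : IsIrrCharacter G χ) :
    IsIrrCharacter G (conjFun χ) := isIrr_conj h

theorem isCharacter_conjFun [Finite G] {χ : G → ℂ} (h : IsCharacter G χ) :
    IsCharacter G (conjFun χ) := isCharacter_conj h

end gen

/-! ### Integer spans -/

section zspan

variable {X : Type*} {S T : Set (X → ℂ)} {A : Set X}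

theorem mem_zspan_iff {α : X → ℂ} : α ∈ zspan S ↔ α ∈ Submodule.span ℤ S := Iff.rfl

theorem zspan_subset {α : X → ℂ} (h : α ∈ S) : α ∈ zspan S := Submodule.subset_span h

theorem zspan_zero : (0 : X → ℂ) ∈ zspan S := (Submodule.span ℤ S).zero_mem

theorem zspan_add {α β : X → ℂ} (hα : α ∈ zspan S) (hβ : β ∈ zspan S) : α + β ∈ zspan S :=
  (Submodule.span ℤ S).add_mem hα hβ

theorem zspan_sub {α β : X → ℂ} (hα : α ∈ zspan S) (hβ : β ∈ zspan S) : α - β ∈ zspan S :=
  (Submodule.span ℤ S).sub_mem hα hβ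

theorem zspan_neg {α : X → ℂ} (hα : α ∈ zspan S) : -α ∈ zspan S :=
  (Submodule.span ℤ S).neg_mem hα

theorem zspan_zsmul {α : X → ℂ} (n : ℤ) (hα : α ∈ zspan S) : n • α ∈ zspan S :=
  (Submodule.span ℤ S).smul_mem n hα

theorem zspan_nsmul {α : X → ℂ} (n : ℕ) (hα : α ∈ zspan S) : n • α ∈ zspan S := by
  simpa using zspan_zsmul (n : ℤ) hα

theorem zspan_sum {ι : Type*} (s : Finset ι) {f : ι → X → ℂ} (hf : ∀ i ∈ s, f i ∈ zspan S) :
    ∑ i ∈ s, f i ∈ zspan S :=
  (Submodule.span ℤ S).sum_mem hf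

theorem zspan_mono (h : S ⊆ T) : zspan S ⊆ zspan T := Submodule.span_mono h

theorem zspan_induction {p : (X → ℂ) → Prop} (h0 : p 0) (hS : ∀ χ ∈ S, p χ)
    (hadd : ∀ α ∈ zspan S, ∀ β ∈ zspan S, p α → p β → p (α + β))
    (hsmul : ∀ (n : ℤ), ∀ α ∈ zspan S, p α → p (n • α)) {α : X → ℂ} (h : α ∈ zspan S) : p α := by
  refine Submodule.span_induction (p := fun x _ => p x) (fun x hx => hS x hx) h0
    (fun x y hx hy => hadd x hx y hy) (fun n x hx => hsmul n x hx) h

theorem gen_of_mem_zspan {G : Type*} [Group G] {S : Set (G → ℂ)}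
    (hS : ∀ χ ∈ S, IsGeneralizedCharacter G χ) {α : G → ℂ} (h : α ∈ zspan S) :
    IsGeneralizedCharacter G α :=
  zspan_induction gen_zero hS (fun _ _ _ _ h1 h2 => gen_add h1 h2)
    (fun n _ _ h1 => gen_zsmul n h1) h

theorem mem_zspanOn_iff {α : X → ℂ} :
    α ∈ zspanOn S A ↔ α ∈ zspan S ∧ ∀ x, x ∉ A → α x = 0 := Iff.rfl

theorem zspanOn_zspan {α : X → ℂ} (h : α ∈ zspanOn S A) : α ∈ zspan S := h.1

theorem zspanOn_zero : (0 : X → ℂ) ∈ zspanOn S A := ⟨zspan_zero, fun _ _ => rfl⟩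

theorem zspanOn_add {α β : X → ℂ} (hα : α ∈ zspanOn S A) (hβ : β ∈ zspanOn S A) :
    α + β ∈ zspanOn S A :=
  ⟨zspan_add hα.1 hβ.1, fun x hx => by simp [hα.2 x hx, hβ.2 x hx]⟩

theorem zspanOn_sub {α β : X → ℂ} (hα : α ∈ zspanOn S A) (hβ : β ∈ zspanOn S A) :
    α - β ∈ zspanOn S A :=
  ⟨zspan_sub hα.1 hβ.1, fun x hx => by simp [hα.2 x hx, hβ.2 x hx]⟩

theorem zspanOn_neg {α : X → ℂ} (hα : α ∈ zspanOn S A) : -α ∈ zspanOn S A :=
  ⟨zspan_neg hα.1, fun x hx => by simp [hα.2 x hx]⟩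

theorem zspanOn_zsmul {α : X → ℂ} (n : ℤ) (hα : α ∈ zspanOn S A) : n • α ∈ zspanOn S A :=
  ⟨zspan_zsmul n hα.1, fun x hx => by simp [hα.2 x hx]⟩

theorem zspanOn_mono (h : S ⊆ T) : zspanOn S A ⊆ zspanOn T A :=
  fun _ hα => ⟨zspan_mono h hα.1, hα.2⟩

theorem mem_zspanOn_one_iff {G : Type*} [Group G] {S : Set (G → ℂ)} {α : G → ℂ} :
    α ∈ zspanOn S {1}ᶜ ↔ α ∈ zspan S ∧ α 1 = 0 := by
  constructor
  · rintro ⟨h, h1⟩
    exact ⟨h, h1 1 (by simp)⟩
  · rintro ⟨h, h1⟩
    refine ⟨h, fun x hx => ?_⟩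
    have hx' : x = 1 := by
      by_contra hne
      exact hx (by simpa using hne)
    rw [hx', h1]

/-- Members of the integer span of a finite set are integer combinations indexed by the set. -/
theorem mem_zspan_finset {s : Finset (X → ℂ)} {α : X → ℂ} (h : α ∈ zspan (s : Set (X → ℂ))) :
    ∃ c : (X → ℂ) → ℤ, α = ∑ χ ∈ s, c χ • χ := by
  classical
  refine zspan_induction (p := fun α => ∃ c : (X → ℂ) → ℤ, α = ∑ χ ∈ s, c χ • χ)
    ⟨0, by simp⟩ ?_ ?_ ?_ h
  · intro χ hχ
    refine ⟨fun φ => if φ = χ then 1 else 0, ?_⟩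
    rw [Finset.sum_eq_single χ]
    · simp
    · intro b _ hb
      simp [hb]
    · intro hn
      exact absurd hχ hn
  · rintro α - β - ⟨c, rfl⟩ ⟨d, rfl⟩
    exact ⟨c + d, by simp [add_smul, Finset.sum_add_distrib]⟩
  · rintro n α - ⟨c, rfl⟩
    exact ⟨fun χ => n * c χ, by simp [Finset.smul_sum, mul_smul]⟩

theorem sum_mem_zspan {s : Finset (X → ℂ)} (hs : (s : Set (X → ℂ)) ⊆ S) (c : (X → ℂ) → ℤ) :
    ∑ χ ∈ s, c χ • χ ∈ zspan S :=
  zspan_sum s fun _ hχ => zspan_zsmul _ (zspan_subset (hs hχ))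

/-- Members of the span of an arbitrary set are integer combinations of finitely many members. -/
theorem mem_zspan_exists_finset {α : X → ℂ} (h : α ∈ zspan S) :
    ∃ (s : Finset (X → ℂ)) (c : (X → ℂ) → ℤ), (s : Set (X → ℂ)) ⊆ S ∧ α = ∑ χ ∈ s, c χ • χ := by
  obtain ⟨s, hs, hα⟩ := Submodule.mem_span_finite_of_mem_span (R := ℤ) (S := S) h
  obtain ⟨c, hc⟩ := mem_zspan_finset (s := s) hα
  exact ⟨s, c, hs, hc⟩

/-- A member of the span of `S ∪ T` is a sum of members of the spans. -/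
theorem mem_zspan_union {α : X → ℂ} (h : α ∈ zspan (S ∪ T)) :
    ∃ β ∈ zspan S, ∃ γ ∈ zspan T, α = β + γ := by
  rw [mem_zspan_iff, Submodule.span_union, Submodule.mem_sup] at h
  obtain ⟨β, hβ, γ, hγ, rfl⟩ := h
  exact ⟨β, hβ, γ, hγ, rfl⟩

theorem mem_zspan_insert {χ α : X → ℂ} (h : α ∈ zspan (insert χ S)) :
    ∃ (n : ℤ), ∃ β ∈ zspan S, α = n • χ + β := by
  rw [mem_zspan_iff, Submodule.mem_span_insert] at h
  obtain ⟨n, β, hβ, rfl⟩ := h
  exact ⟨n, β, hβ, rfl⟩

theorem mem_zspan_pair {χ φ α : X → ℂ} (h : α ∈ zspan ({χ, φ} : Set (X → ℂ))) :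
    ∃ (n m : ℤ), α = n • χ + m • φ := by
  rw [mem_zspan_iff, Submodule.mem_span_pair] at h
  obtain ⟨n, m, rfl⟩ := h
  exact ⟨n, m, rfl⟩

theorem mem_zspan_singleton {χ α : X → ℂ} (h : α ∈ zspan ({χ} : Set (X → ℂ))) :
    ∃ (n : ℤ), α = n • χ := by
  rw [mem_zspan_iff, Submodule.mem_span_singleton] at h
  obtain ⟨n, rfl⟩ := h
  exact ⟨n, rfl⟩

theorem zspan_conjFun (hS : ∀ χ ∈ S, conjFun χ ∈ S) {α : X → ℂ} (h : α ∈ zspan S) :
    conjFun α ∈ zspan S := by
  refine zspan_induction (p := fun α => conjFun α ∈ zspan S) ?_ ?_ ?_ ?_ h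
  · rw [conjFun_zero]; exact zspan_zero
  · intro χ hχ; exact zspan_subset (hS χ hχ)
  · intro α _ β _ h1 h2; rw [conjFun_add]; exact zspan_add h1 h2
  · intro n α _ h1; rw [conjFun_zsmul]; exact zspan_zsmul n h1

end zspan

/-! ### Linear isometries on a set closed under integer combinations -/

section isometry

variable {L : Type*} [Group L] [Fintype L] {G : Type*} [Group G] [Fintype G]
  {E : Set (L → ℂ)} {τ : (L → ℂ) → (G → ℂ)}

theorem lin_add (h : IsLinearIsometryOn E τ) {α β : L → ℂ} (hα : α ∈ E) (hβ : β ∈ E) :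
    τ (α + β) = τ α + τ β := h.1 α hα β hβ

theorem lin_zsmul (h : IsLinearIsometryOn E τ) {α : L → ℂ} (hα : α ∈ E) (n : ℤ) :
    τ (n • α) = n • τ α := h.2.1 α hα n

theorem lin_inner (h : IsLinearIsometryOn E τ) {α β : L → ℂ} (hα : α ∈ E) (hβ : β ∈ E) :
    classInner (τ α) (τ β) = classInner α β := h.2.2.1 α hα β hβ

theorem lin_gen (h : IsLinearIsometryOn E τ) {α : L → ℂ} (hα : α ∈ E) :
    IsGeneralizedCharacter G (τ α) := h.2.2.2 α hα

theorem lin_neg (h : IsLinearIsometryOn E τ) {α : L → ℂ} (hα : α ∈ E) : τ (-α) = -τ α := by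
  have := lin_zsmul h hα (-1)
  simpa using this

theorem lin_zero_of_mem (h : IsLinearIsometryOn E τ) {α : L → ℂ} (hα : α ∈ E) :
    τ (0 : L → ℂ) = 0 := by
  have := lin_zsmul h hα 0
  simpa using this

theorem lin_sub (h : IsLinearIsometryOn E τ) {α β : L → ℂ} (hα : α ∈ E) (hβ : β ∈ E)
    (hnβ : -β ∈ E) : τ (α - β) = τ α - τ β := by
  rw [sub_eq_add_neg, lin_add h hα hnβ, lin_neg h hβ, ← sub_eq_add_neg]

theorem lin_mono {F : Set (L → ℂ)} (h : IsLinearIsometryOn E τ) (hF : F ⊆ E) :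
    IsLinearIsometryOn F τ :=
  ⟨fun α hα β hβ => h.1 α (hF hα) β (hF hβ), fun α hα n => h.2.1 α (hF hα) n,
    fun α hα β hβ => h.2.2.1 α (hF hα) β (hF hβ), fun α hα => h.2.2.2 α (hF hα)⟩

variable {S : Set (L → ℂ)} {A : Set L}

theorem span_zero (h : IsLinearIsometryOn (zspan S) τ) : τ 0 = 0 :=
  lin_zero_of_mem h zspan_zero

theorem span_sub (h : IsLinearIsometryOn (zspan S) τ) {α β : L → ℂ} (hα : α ∈ zspan S)
    (hβ : β ∈ zspan S) : τ (α - β) = τ α - τ β :=
  lin_sub h hα hβ (zspan_neg hβ)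

theorem span_sum (h : IsLinearIsometryOn (zspan S) τ) {ι : Type*} (s : Finset ι)
    {f : ι → L → ℂ} (hf : ∀ i ∈ s, f i ∈ zspan S) : τ (∑ i ∈ s, f i) = ∑ i ∈ s, τ (f i) := by
  classical
  induction s using Finset.induction_on with
  | empty => simpa using span_zero h
  | insert a s ha ih =>
    rw [Finset.sum_insert ha, Finset.sum_insert ha,
      lin_add h (hf a (Finset.mem_insert_self a s))
        (zspan_sum s fun i hi => hf i (Finset.mem_insert_of_mem hi)),
      ih fun i hi => hf i (Finset.mem_insert_of_mem hi)]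

theorem spanOn_zero (h : IsLinearIsometryOn (zspanOn S A) τ) : τ 0 = 0 :=
  lin_zero_of_mem h zspanOn_zero

theorem spanOn_sub (h : IsLinearIsometryOn (zspanOn S A) τ) {α β : L → ℂ}
    (hα : α ∈ zspanOn S A) (hβ : β ∈ zspanOn S A) : τ (α - β) = τ α - τ β :=
  lin_sub h hα hβ (zspanOn_neg hβ)

/-- Two isometries that agree on `S` agree on the integer span of `S`. -/
theorem span_ext {τ' : (L → ℂ) → (G → ℂ)} (h : IsLinearIsometryOn (zspan S) τ)
    (h' : IsLinearIsometryOn (zspan S) τ') (hS : ∀ χ ∈ S, τ χ = τ' χ) {α : L → ℂ}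
    (hα : α ∈ zspan S) : τ α = τ' α := by
  refine zspan_induction (p := fun α => τ α = τ' α) ?_ hS ?_ ?_ hα
  · rw [span_zero h, span_zero h']
  · intro α hα β hβ h1 h2
    rw [lin_add h hα hβ, lin_add h' hα hβ, h1, h2]
  · intro n α hα h1
    rw [lin_zsmul h hα, lin_zsmul h' hα, h1]

/-- Any inner-product preserving assignment of generalized characters of `G` to a finite
orthogonal set of nonzero functions on `L` extends to a linear isometry on the integer span. -/
theorem exists_isometry_extending {S : Finset (L → ℂ)} (h0 : ∀ χ ∈ S, χ ≠ 0)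
    (horth : ∀ χ ∈ S, ∀ φ ∈ S, χ ≠ φ → classInner χ φ = 0) (f : (L → ℂ) → (G → ℂ))
    (hf : ∀ χ ∈ S, IsGeneralizedCharacter G (f χ))
    (hin : ∀ χ ∈ S, ∀ φ ∈ S, classInner (f χ) (f φ) = classInner χ φ) :
    ∃ τ : (L → ℂ) → (G → ℂ), IsLinearIsometryOn (zspan (S : Set (L → ℂ))) τ ∧
      ∀ χ ∈ S, τ χ = f χ := by
  classical
  -- coefficient functional
  let co : (L → ℂ) → (L → ℂ) → ℂ := fun α χ => classInner α χ / classInner χ χ
  let τ : (L → ℂ) → (G → ℂ) := fun α => ∑ χ ∈ S, co α χ • f χ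
  have hne : ∀ χ ∈ S, classInner χ χ ≠ 0 := fun χ hχ h => h0 χ hχ (classInner_self_eq_zero h)
  have hco : ∀ c : (L → ℂ) → ℤ, ∀ χ ∈ S, co (∑ φ ∈ S, c φ • φ) χ = c χ := by
    intro c χ hχ
    simp only [co]
    rw [classInner_sum_left, Finset.sum_eq_single χ]
    · rw [classInner_zsmul_left, mul_div_assoc, div_self (hne χ hχ), mul_one]
    · intro b hb hbχ
      rw [classInner_zsmul_left, horth b hb χ hχ hbχ, mul_zero]
    · intro hn; exact absurd hχ hn
  have hτ : ∀ c : (L → ℂ) → ℤ, τ (∑ φ ∈ S, c φ • φ) = ∑ χ ∈ S, c χ • f χ := by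
    intro c
    simp only [τ]
    refine Finset.sum_congr rfl fun χ hχ => ?_
    rw [hco c χ hχ]
    funext x; simp [zsmul_eq_mul]
  have hτadd : ∀ α β : L → ℂ, τ (α + β) = τ α + τ β := by
    intro α β
    simp only [τ, co]
    rw [← Finset.sum_add_distrib]
    refine Finset.sum_congr rfl fun χ _ => ?_
    rw [classInner_add_left, add_div, add_smul]
  have hτz : ∀ (n : ℤ) (α : L → ℂ), τ (n • α) = n • τ α := by
    intro n α
    simp only [τ, co]
    rw [Finset.smul_sum]
    refine Finset.sum_congr rfl fun χ _ => ?_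
    rw [classInner_zsmul_left, mul_div_assoc]
    funext x; simp [zsmul_eq_mul, mul_assoc]
  refine ⟨τ, ⟨fun α _ β _ => hτadd α β, fun α _ n => hτz n α, ?_, ?_⟩, ?_⟩
  · intro α hα β hβ
    obtain ⟨c, rfl⟩ := mem_zspan_finset hα
    obtain ⟨d, rfl⟩ := mem_zspan_finset hβ
    rw [hτ, hτ, classInner_sum_left, classInner_sum_left]
    refine Finset.sum_congr rfl fun χ hχ => ?_
    rw [classInner_sum_right, classInner_sum_right]
    refine Finset.sum_congr rfl fun φ hφ => ?_
    rw [classInner_zsmul_left, classInner_zsmul_right, classInner_zsmul_left,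
      classInner_zsmul_right, hin χ hχ φ hφ]
  · intro α hα
    obtain ⟨c, rfl⟩ := mem_zspan_finset hα
    rw [hτ]
    exact gen_sum S fun χ hχ => gen_zsmul _ (hf χ hχ)
  · intro χ hχ
    have h1 : χ = ∑ φ ∈ S, (if φ = χ then (1 : ℤ) else 0) • φ := by
      rw [Finset.sum_eq_single χ]
      · simp
      · intro b _ hb; simp [hb]
      · intro hn; exact absurd hχ hn
    conv_lhs => rw [h1]
    rw [hτ, Finset.sum_eq_single χ]
    · simp
    · intro b _ hb; simp [hb]
    · intro hn; exact absurd hχ hn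

/-- Coherence passes to subsets (as soon as the subset has a nonzero member vanishing off
`A`). -/
theorem coherent_mono {T : Set (L → ℂ)} (h : IsCoherent S A τ) (hT : T ⊆ S)
    (hne : ∃ α ∈ zspanOn T A, α ≠ 0) : IsCoherent T A τ := by
  obtain ⟨-, τ₁, h1, h2⟩ := h
  exact ⟨hne, τ₁, lin_mono h1 (zspan_mono hT), fun α hα => h2 α (zspanOn_mono hT hα)⟩

end isometry

/-! ### Orthogonal sets are finite -/

/-- A set of pairwise orthogonal nonzero functions on a finite group is finite. -/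
theorem finite_of_orthogonal {L : Type*} [Group L] [Fintype L] {S : Set (L → ℂ)}
    (h0 : ∀ χ ∈ S, χ ≠ 0) (horth : ∀ χ ∈ S, ∀ φ ∈ S, χ ≠ φ → classInner χ φ = 0) :
    S.Finite := by
  have hli : LinearIndependent ℂ (fun χ : S => (χ : L → ℂ)) := by
    rw [linearIndependent_iff']
    intro s g hg i hi
    have h1 : classInner (∑ j ∈ s, g j • (j : L → ℂ)) (i : L → ℂ) = 0 := by
      rw [hg, classInner_zero_left]
    rw [classInner_sum_left, Finset.sum_eq_single i] at h1
    · rw [classInner_smul_left] at h1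
      rcases mul_eq_zero.mp h1 with h | h
      · exact h
      · exact absurd (classInner_self_eq_zero h) (h0 i i.2)
    · intro b _ hb
      rw [classInner_smul_left, horth b b.2 i i.2 (fun h => hb (Subtype.ext h)), mul_zero]
    · intro hn; exact absurd hi hn
  exact Set.finite_coe_iff.mp hli.finite

end Cfsg.Agent.OddOrderCharacters.VChar
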