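import Mathlib.RepresentationTheory.Character
import Mathlib.Analysis.Complex.Basic
import Mathlib.Analysis.Complex.Polynomial.Basic
import Mathlib.GroupTheory.Index
import Mathlib.GroupTheory.FiniteAbelian.Duality
import Mathlib.GroupTheory.SchurZassenhaus
import Mathlib.RingTheory.RootsOfUnity.AlgebraicallyClosed
import Cfsg.Prelude.Def_Characters
import Cfsg.Agent.Characters.Core
import Cfsg.Agent.Characters.Linear
set_option linter.all false

/-!
# Induction from a normal subgroup with abelian inertia quotient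

Let `N` be a normal subgroup of the finite group `T` with `T/N` abelian, and let `θ` be a
`T`-invariant irreducible character of `N`.  Then the induced function is `e` times a sum of
distinct irreducible characters, each restricting to `e • θ` on `N`.
-/

set_option autoImplicit false

open Cfsg
open scoped ComplexConjugate

namespace Cfsg.Agent.OddOrderCharacters.InertiaAbelian

open Cfsg.Agent.Characters.Core

/-! ### Generalities on induced functions -/

section gen

variable {G : Type*} [Group G]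

theorem extendByZero_mem (H : Subgroup G) (θ : H → ℂ) (x : G) (hx : x ∈ H) :
    extendByZero H θ x = θ ⟨x, hx⟩ := by
  unfold extendByZero
  exact Subtype.val_injective.extend_apply θ 0 ⟨x, hx⟩

theorem extendByZero_not_mem (H : Subgroup G) (θ : H → ℂ) (x : G) (hx : x ∉ H) :
    extendByZero H θ x = 0 := by
  unfold extendByZero
  rw [Function.extend_apply' _ _ _ (fun ⟨a, ha⟩ => hx (ha ▸ a.2))]
  rfl

theorem indFun_apply [Fintype G] (H : Subgroup G) (θ : H → ℂ) (g : G) :
    indFun H θ g = (Nat.card H : ℂ)⁻¹ * ∑ x : G, extendByZero H θ (x⁻¹ * g * x) := rfl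

theorem indFun_isClassFunction [Fintype G] (H : Subgroup G) (θ : H → ℂ) :
    IsClassFunction G (indFun H θ) := by
  intro g h
  rw [indFun_apply, indFun_apply]
  congr 1
  refine Fintype.sum_equiv (Equiv.mulLeft h⁻¹) _ _ (fun x => ?_)
  simp only [Equiv.coe_mulLeft]
  congr 1
  group

theorem classInner_apply [Fintype G] (φ ψ : G → ℂ) :
    classInner φ ψ = (Nat.card G : ℂ)⁻¹ * ∑ g : G, φ g * conj (ψ g) := rfl

end gen

/-- Sum over all linear characters of a finite abelian group. -/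
theorem sum_hom_apply {A : Type*} [CommGroup A] [Finite A] [Fintype (A →* ℂˣ)] (a : A) :
    (∑ f : A →* ℂˣ, (f a : ℂ)) = (open Classical in if a = 1 then (Nat.card A : ℂ) else 0) := by
  classical
  split_ifs with h
  · subst h
    simp only [map_one, Units.val_one, Finset.sum_const, Finset.card_univ, nsmul_eq_mul, mul_one]
    rw [← Nat.card_eq_fintype_card, CommGroup.card_monoidHom_of_hasEnoughRootsOfUnity A ℂ]
  · obtain ⟨φ, hφ⟩ := CommGroup.exists_apply_ne_one_of_hasEnoughRootsOfUnity A ℂ h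
    have h1 : (∑ f : A →* ℂˣ, (f a : ℂ)) = (φ a : ℂ) * ∑ f : A →* ℂˣ, (f a : ℂ) := by
      rw [Finset.mul_sum]
      refine (Fintype.sum_equiv (Equiv.mulLeft φ) _ _ (fun f => ?_)).symm
      simp
    have h2 : ((φ a : ℂ) - 1) * ∑ f : A →* ℂˣ, (f a : ℂ) = 0 := by
      rw [sub_mul, ← h1, one_mul, sub_self]
    rcases mul_eq_zero.1 h2 with h3 | h3
    · exact absurd (Units.ext (by simpa using sub_eq_zero.1 h3)) hφ
    · exact h3

/-- multiplying an irreducible character by a linear one -/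
theorem isIrr_mul_hom {T : Type*} [Group T] [Finite T] (f : T →* ℂˣ) {ψ : T → ℂ}
    (hψ : IsIrrCharacter T ψ) : IsIrrCharacter T (fun t => (f t : ℂ) * ψ t) := by
  classical
  have := Fintype.ofFinite T
  have hc : IsCharacter T ((fun t => (f t : ℂ)) * ψ) :=
    isCharacter_mul (Cfsg.Agent.Characters.Linear.isCharacter_hom f) (isIrr_isCharacter hψ)
  have hnorm : ∀ t : T, (f t : ℂ) * conj (f t : ℂ) = 1 := by
    intro t
    have h1 := isCharacter_apply_inv (Cfsg.Agent.Characters.Linear.isCharacter_hom f) t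
    rw [← h1]
    simp
  refine (isIrr_iff_classInner_self hc).2 ?_
  rw [← classInner_irr_self hψ, classInner_apply, classInner_apply]
  congr 1
  refine Finset.sum_congr rfl (fun t _ => ?_)
  simp only [Pi.mul_apply, map_mul]
  calc (f t : ℂ) * ψ t * (conj (f t : ℂ) * conj (ψ t))
      = ((f t : ℂ) * conj (f t : ℂ)) * (ψ t * conj (ψ t)) := by ring
    _ = ψ t * conj (ψ t) := by rw [hnorm, one_mul]

/-- A function on a finite group constant on the left cosets of a subgroup `K` has sum divisible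
by the order of `K`. -/
theorem card_dvd_sum {M : Type*} [Group M] [Fintype M] (K : Subgroup M) (n : M → ℕ)
    (hn : ∀ x : M, ∀ k ∈ K, n (x * k) = n x) : Nat.card K ∣ ∑ x : M, n x := by
  classical
  obtain ⟨S, hS, _⟩ := K.exists_isComplement_left 1
  have := Fintype.ofFinite S
  have := Fintype.ofFinite K
  have h1 : ∑ x : M, n x = ∑ y : S × K, n ((y.1 : M) * y.2) :=
    (Fintype.sum_equiv (Equiv.ofBijective _ hS) _ _ (fun y => rfl)).symm
  rw [h1, Fintype.sum_prod_type]
  refine Finset.dvd_sum (fun s _ => ?_)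
  have h2 : ∀ k : K, n ((s : M) * k) = n s := fun k => hn s k k.2
  rw [Finset.sum_congr rfl (fun k _ => h2 k), Finset.sum_const, Finset.card_univ,
    ← Nat.card_eq_fintype_card, smul_eq_mul]
  exact Dvd.intro _ rfl

/-! ### The induced function of an invariant function of a normal subgroup -/

section normal

variable {T : Type*} [Group T] [Fintype T]

theorem indFun_normal_mem (N : Subgroup T) [hN : N.Normal] (θ : N → ℂ)
    (hinv : ∀ t : T, ∀ n : N, θ ⟨t * n * t⁻¹, hN.conj_mem n n.2 t⟩ = θ n) (n : N) :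
    indFun N θ n = (N.index : ℂ) * θ n := by
  rw [indFun_apply]
  have h1 : ∀ x : T, extendByZero N θ (x⁻¹ * n * x) = θ n := by
    intro x
    have hx : x⁻¹ * (n : T) * x ∈ N := by
      have := hN.conj_mem n n.2 x⁻¹
      simpa using this
    rw [extendByZero_mem N θ _ hx]
    have h2 := hinv x⁻¹ n
    rw [← h2]
    congr 1
    apply Subtype.ext
    simp
  rw [Finset.sum_congr rfl (fun x _ => h1 x), Finset.sum_const, Finset.card_univ, nsmul_eq_mul,
    ← Nat.card_eq_fintype_card, ← N.card_mul_index]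
  have h3 : (Nat.card N : ℂ) ≠ 0 := by
    exact_mod_cast Nat.card_pos.ne'
  push_cast
  field_simp

theorem indFun_normal_not_mem (N : Subgroup T) [hN : N.Normal] (θ : N → ℂ) (t : T) (ht : t ∉ N) :
    indFun N θ t = 0 := by
  rw [indFun_apply]
  have h1 : ∀ x : T, extendByZero N θ (x⁻¹ * t * x) = 0 := by
    intro x
    refine extendByZero_not_mem N θ _ (fun hx => ht ?_)
    have := hN.conj_mem _ hx x
    simpa [mul_assoc] using this
  rw [Finset.sum_congr rfl (fun x _ => h1 x), Finset.sum_const_zero, mul_zero]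

/-- Frobenius reciprocity for a normal subgroup and an invariant function. -/
theorem frobenius_normal (N : Subgroup T) [hN : N.Normal] [Fintype N] (θ : N → ℂ)
    (hinv : ∀ t : T, ∀ n : N, θ ⟨t * n * t⁻¹, hN.conj_mem n n.2 t⟩ = θ n) (ψ : T → ℂ) :
    classInner (indFun N θ) ψ = classInner θ (fun n : N => ψ n) := by
  classical
  rw [classInner_apply, classInner_apply]
  have h1 : (∑ t : T, indFun N θ t * conj (ψ t)) =
      ∑ n : N, ((N.index : ℂ) * θ n) * conj (ψ n) := by
    rw [← Finset.sum_subset (Finset.subset_univ (Finset.univ.filter (fun t : T => t ∈ N)))]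
    · refine (Finset.sum_subtype (p := fun t : T => t ∈ N) (F := ‹Fintype N›)
        (Finset.univ.filter (fun t : T => t ∈ N)) (by simp) _).trans ?_
      refine Fintype.sum_congr _ _ (fun n => ?_)
      rw [indFun_normal_mem N θ hinv n]
    · intro t _ ht
      rw [indFun_normal_not_mem N θ t (by simpa using ht), zero_mul]
  rw [h1, ← N.card_mul_index]
  have h3 : (Nat.card N : ℂ) ≠ 0 := by
    exact_mod_cast Nat.card_pos.ne'
  have h4 : (N.index : ℂ) ≠ 0 := by
    exact_mod_cast N.index_ne_zero_of_finite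
  simp only [mul_assoc, ← Finset.mul_sum]
  push_cast
  field_simp

/-- Multiplicity data for the induced function of an invariant irreducible character of a normal
subgroup with abelian quotient. -/
theorem exists_decomp (N : Subgroup T) [hN : N.Normal] (θ : N → ℂ) (hθ : IsIrrCharacter N θ)
    (hinv : ∀ t : T, ∀ n : N, θ ⟨t * n * t⁻¹, hN.conj_mem n n.2 t⟩ = θ n)
    (hab : ∀ x y : T, x * y * x⁻¹ * y⁻¹ ∈ N) :
    ∃ (e : ℕ) (S : Finset (T → ℂ)), 0 < e ∧ (∀ ψ ∈ S, IsIrrCharacter T ψ) ∧ S.Nonempty ∧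
      (∀ ψ ∈ S, ∀ n : N, ψ n = (e : ℂ) * θ n) ∧ e ^ 2 * S.card = N.index ∧
      indFun N θ = (e : ℂ) • ∑ ψ ∈ S, ψ ∧
      ∀ ψ ∈ S, Nat.card {f : (T ⧸ N) →* ℂˣ // ∀ t : T, (f (t : T ⧸ N) : ℂ) * ψ t = ψ t} = e ^ 2 := by
  classical
  have := finite_irr (G := T)
  have := Fintype.ofFinite (IrrCharacter T)
  have := Fintype.ofFinite N
  have := finite_irr (G := N)
  have := Fintype.ofFinite (IrrCharacter N)
  have hcN : (Nat.card N : ℂ) ≠ 0 := by exact_mod_cast Nat.card_pos.ne'
  have hcT : (Nat.card T : ℂ) ≠ 0 := by exact_mod_cast Nat.card_pos.ne'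
  have hidx : (N.index : ℂ) ≠ 0 := by exact_mod_cast N.index_ne_zero_of_finite
  -- restrictions are characters
  have hres : ∀ ψ : T → ℂ, IsCharacter T ψ → IsCharacter N (fun n : N => ψ n) := fun ψ hψ =>
    isCharacter_comp N.subtype hψ
  -- multiplicities
  have hm : ∀ ψ : IrrCharacter T, ∃ k : ℕ, classInner (indFun N θ) (ψ : T → ℂ) = k := by
    intro ψ
    rw [frobenius_normal N θ hinv]
    exact classInner_isNat (isIrr_isCharacter hθ) (hres _ (isIrr_isCharacter ψ.2))
  choose m hm using hm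
  have hexp : indFun N θ = ∑ ψ : IrrCharacter T, (m ψ : ℂ) • (ψ : T → ℂ) := by
    refine (classFunction_eq_sum (indFun_isClassFunction N θ)).trans ?_
    exact Finset.sum_congr rfl (fun ψ _ => by rw [hm ψ])
  -- constituents restrict to multiples of θ
  have hrestr : ∀ ψ : IrrCharacter T, m ψ ≠ 0 → ∀ n : N, (ψ : T → ℂ) n = (m ψ : ℂ) * θ n := by
    intro ψ hψ
    have hχ := hres _ (isIrr_isCharacter ψ.2)
    have hk : ∀ (χ : IrrCharacter N) (φ : IrrCharacter T), ∃ k : ℕ,
        classInner (fun n : N => (φ : T → ℂ) n) (χ : N → ℂ) = k := fun χ φ =>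
      classInner_isNat (hres _ (isIrr_isCharacter φ.2)) (isIrr_isCharacter χ.2)
    choose k hk using hk
    have h0 : ∀ χ : IrrCharacter N, (χ : N → ℂ) ≠ θ → k χ ψ = 0 := by
      intro χ hχθ
      have h1 : classInner (fun n : N => indFun N θ n) (χ : N → ℂ) = 0 := by
        have : (fun n : N => indFun N θ n) = (N.index : ℂ) • θ := by
          funext n
          rw [indFun_normal_mem N θ hinv n]; rfl
        rw [this, classInner_smul_left, classInner_irr_ne hθ χ.2 (Ne.symm hχθ), mul_zero]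
      have h2 : (fun n : N => indFun N θ n) =
          ∑ φ : IrrCharacter T, (m φ : ℂ) • (fun n : N => (φ : T → ℂ) n) := by
        funext n
        rw [hexp]
        simp [Finset.sum_apply]
      rw [h2, classInner_sum_left] at h1
      simp only [classInner_smul_left, hk] at h1
      have h3 : ∑ φ : IrrCharacter T, m φ * k χ φ = 0 := by exact_mod_cast h1
      have h4 := (Finset.sum_eq_zero_iff.1 h3) ψ (Finset.mem_univ _)
      rcases mul_eq_zero.1 h4 with h5 | h5
      · exact absurd h5 hψ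
      · exact h5
    have h1 := classFunction_eq_sum (isCharacter_isClassFunction hχ)
    have h2 : (∑ χ : IrrCharacter N, classInner (fun n : N => (ψ : T → ℂ) n) (χ : N → ℂ) •
        (χ : N → ℂ)) = (m ψ : ℂ) • θ := by
      rw [Finset.sum_eq_single (⟨θ, hθ⟩ : IrrCharacter N)]
      · have : classInner (fun n : N => (ψ : T → ℂ) n) θ = (m ψ : ℂ) := by
          rw [← classInner_conj_symm, ← frobenius_normal N θ hinv, hm]
          simp
        rw [this]
      · intro χ _ hχ'
        rw [hk, h0 χ (fun h => hχ' (Subtype.ext h))]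
        simp
      · intro h; exact absurd (Finset.mem_univ _) h
    intro n
    have h3 := congrFun (h1.trans h2) n
    simpa using h3
  -- norm of the induced function
  have hnorm : classInner (indFun N θ) (indFun N θ) = (N.index : ℂ) := by
    rw [frobenius_normal N θ hinv]
    have : (fun n : N => indFun N θ n) = (N.index : ℂ) • θ := by
      funext n
      rw [indFun_normal_mem N θ hinv n]; rfl
    rw [this, classInner_smul_right, classInner_irr_self hθ]
    simp
  -- a constituent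
  obtain ⟨ψ₀, hψ₀⟩ : ∃ ψ : IrrCharacter T, m ψ ≠ 0 := by
    by_contra hcon
    push Not at hcon
    have : indFun N θ = 0 := by
      rw [hexp]
      exact Finset.sum_eq_zero (fun ψ _ => by rw [hcon ψ]; simp)
    rw [this, classInner_zero_left] at hnorm
    exact hidx hnorm.symm
  -- quotient is commutative
  let _ : CommGroup (T ⧸ N) :=
    { (inferInstance : Group (T ⧸ N)) with
      mul_comm := by
        intro a b
        obtain ⟨x, rfl⟩ := QuotientGroup.mk_surjective a
        obtain ⟨y, rfl⟩ := QuotientGroup.mk_surjective b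
        rw [← QuotientGroup.mk_mul, ← QuotientGroup.mk_mul]
        refine (QuotientGroup.eq.2 ?_)
        have := hab y⁻¹ x⁻¹
        simpa [mul_assoc] using this }
  have := Fintype.ofFinite ((T ⧸ N) →* ℂˣ)
  have htw : ∀ (f : (T ⧸ N) →* ℂˣ) (φ : IrrCharacter T),
      IsIrrCharacter T (fun t : T => (f (t : T ⧸ N) : ℂ) * (φ : T → ℂ) t) := fun f φ =>
    isIrr_mul_hom (f.comp (QuotientGroup.mk' N)) φ.2
  have hcount : ∀ φ ψ : IrrCharacter T, m φ ≠ 0 → m φ * m ψ =
      (Finset.univ.filter (fun f : (T ⧸ N) →* ℂˣ =>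
        (fun t : T => (f (t : T ⧸ N) : ℂ) * (φ : T → ℂ) t) = (ψ : T → ℂ))).card := by
    intro φ ψ hφ
    have h1 : (m φ : ℂ) • indFun N θ =
        ∑ f : (T ⧸ N) →* ℂˣ, (fun t : T => (f (t : T ⧸ N) : ℂ) * (φ : T → ℂ) t) := by
      funext t
      rw [Finset.sum_apply, ← Finset.sum_mul, sum_hom_apply, Pi.smul_apply, smul_eq_mul]
      by_cases ht : t ∈ N
      · rw [if_pos ((QuotientGroup.eq_one_iff t).2 ht)]
        have h2 := indFun_normal_mem N θ hinv ⟨t, ht⟩
        have h3 := hrestr φ hφ ⟨t, ht⟩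
        simp only at h2 h3
        rw [h2, h3, ← Subgroup.index_eq_card]
        ring
      · rw [if_neg (fun h => ht ((QuotientGroup.eq_one_iff t).1 h)),
          indFun_normal_not_mem N θ t ht]
        ring
    have h2 : (m φ : ℂ) * (m ψ : ℂ) = classInner ((m φ : ℂ) • indFun N θ) (ψ : T → ℂ) := by
      rw [classInner_smul_left, hm]
    rw [h1, classInner_sum_left] at h2
    have h3 : ∀ f : (T ⧸ N) →* ℂˣ,
        classInner (fun t : T => (f (t : T ⧸ N) : ℂ) * (φ : T → ℂ) t) (ψ : T → ℂ) =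
        if (fun t : T => (f (t : T ⧸ N) : ℂ) * (φ : T → ℂ) t) = (ψ : T → ℂ) then 1 else 0 := by
      intro f
      rw [classInner_irr (htw f φ) ψ.2]
    rw [Finset.sum_congr rfl (fun f _ => h3 f), Finset.sum_boole] at h2
    exact_mod_cast h2
  obtain ⟨d, hd, hθ1⟩ := isIrr_apply_one hθ
  have hθ1' : θ 1 ≠ 0 := by rw [hθ1]; exact_mod_cast hd.ne'
  have hall : ∀ ψ : IrrCharacter T, m ψ ≠ 0 → m ψ = m ψ₀ := by
    intro ψ hψ
    have h1 := hcount ψ₀ ψ hψ₀
    have h2 : (Finset.univ.filter (fun f : (T ⧸ N) →* ℂˣ =>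
        (fun t : T => (f (t : T ⧸ N) : ℂ) * (ψ₀ : T → ℂ) t) = (ψ : T → ℂ))).Nonempty := by
      rw [← Finset.card_pos, ← h1]
      exact Nat.pos_of_ne_zero (mul_ne_zero hψ₀ hψ)
    obtain ⟨f, hf⟩ := h2
    have hf' := (Finset.mem_filter.1 hf).2
    have h3 := congrFun hf' 1
    have h4 := hrestr ψ hψ 1
    have h5 := hrestr ψ₀ hψ₀ 1
    simp only [QuotientGroup.mk_one, map_one, Units.val_one, one_mul] at h3
    rw [OneMemClass.coe_one] at h4 h5
    rw [← h3, h5] at h4
    exact_mod_cast (mul_right_cancel₀ hθ1' h4).symm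
  refine ⟨m ψ₀, (Finset.univ.filter (fun ψ : IrrCharacter T => m ψ ≠ 0)).map
    (Function.Embedding.subtype _), Nat.pos_of_ne_zero hψ₀, ?_, ?_, ?_, ?_, ?_, ?_⟩
  · intro ψ hψ
    obtain ⟨φ, _, rfl⟩ := Finset.mem_map.1 hψ
    exact φ.2
  · exact ⟨ψ₀, Finset.mem_map.2 ⟨ψ₀, by simp [hψ₀], rfl⟩⟩
  · intro ψ hψ
    obtain ⟨φ, hφ, rfl⟩ := Finset.mem_map.1 hψ
    have hφ' := (Finset.mem_filter.1 hφ).2
    rw [← hall φ hφ']
    exact hrestr φ hφ'
  · rw [Finset.card_map]
    have h1 : classInner (indFun N θ) (indFun N θ) =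
        ∑ ψ : IrrCharacter T, (m ψ : ℂ) * (m ψ : ℂ) := by
      have h1' : classInner (indFun N θ) (indFun N θ) =
          classInner (∑ ψ : IrrCharacter T, (m ψ : ℂ) • (ψ : T → ℂ)) (indFun N θ) := by
        rw [← hexp]
      rw [h1', classInner_sum_left]
      refine Finset.sum_congr rfl (fun ψ _ => ?_)
      rw [classInner_smul_left, ← classInner_conj_symm, hm]
      simp
    have h2 : ∑ ψ : IrrCharacter T, m ψ * m ψ =
        (Finset.univ.filter (fun ψ : IrrCharacter T => m ψ ≠ 0)).card * (m ψ₀ * m ψ₀) := by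
      rw [← smul_eq_mul, ← Finset.sum_const, Finset.sum_filter]
      refine Finset.sum_congr rfl (fun ψ _ => ?_)
      split_ifs with h
      · rw [hall ψ h]
      · push Not at h
        rw [h, mul_zero]
    rw [hnorm] at h1
    have h3 : N.index = ∑ ψ : IrrCharacter T, m ψ * m ψ := by exact_mod_cast h1
    rw [h3, h2]
    ring
  · rw [Finset.sum_map, Finset.smul_sum, Finset.sum_filter]
    refine hexp.trans (Finset.sum_congr rfl (fun ψ _ => ?_))
    split_ifs with h
    · rw [hall ψ h]; rfl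
    · push Not at h
      rw [h]; simp
  · intro ψ hψ
    obtain ⟨φ, hφ, rfl⟩ := Finset.mem_map.1 hψ
    have hφ' := (Finset.mem_filter.1 hφ).2
    have h1 := hcount φ φ hφ'
    rw [hall φ hφ', ← sq] at h1
    rw [h1, Nat.card_eq_fintype_card, Fintype.card_subtype]
    congr 1
    ext f
    simp only [Finset.mem_filter, Finset.mem_univ, true_and]
    exact ⟨fun h => funext h, fun h => congrFun h⟩

/-- If the order of `N` is coprime to its index then the ramification index is one. -/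
theorem mult_eq_one (N : Subgroup T) [hN : N.Normal] (θ : N → ℂ) (hθ : IsIrrCharacter N θ)
    (hdvd : ∀ d : ℕ, θ 1 = d → d ∣ Nat.card N)
    (hab : ∀ x y : T, x * y * x⁻¹ * y⁻¹ ∈ N) (hcop : Nat.Coprime (Nat.card N) N.index)
    (e : ℕ) (he : 0 < e) (hedvd : e ∣ N.index) (ψ : T → ℂ) (hψ : IsIrrCharacter T ψ)
    (hrestr : ∀ n : N, ψ n = (e : ℂ) * θ n)
    (hcard : Nat.card {f : (T ⧸ N) →* ℂˣ // ∀ t : T, (f (t : T ⧸ N) : ℂ) * ψ t = ψ t} = e ^ 2) :
    e = 1 := by
  classical
  obtain ⟨A, hA⟩ := Subgroup.exists_right_complement'_of_coprime hcop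
  have := Fintype.ofFinite A
  -- quotient is commutative
  let _ : CommGroup (T ⧸ N) :=
    { (inferInstance : Group (T ⧸ N)) with
      mul_comm := by
        intro a b
        obtain ⟨x, rfl⟩ := QuotientGroup.mk_surjective a
        obtain ⟨y, rfl⟩ := QuotientGroup.mk_surjective b
        rw [← QuotientGroup.mk_mul, ← QuotientGroup.mk_mul]
        refine (QuotientGroup.eq.2 ?_)
        have := hab y⁻¹ x⁻¹
        simpa [mul_assoc] using this }
  let _ : CommGroup A :=
    { (inferInstance : Group A) with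
      mul_comm := by
        intro a b
        have h1 : (a : T) * b * (a : T)⁻¹ * (b : T)⁻¹ ∈ N ⊓ A :=
          ⟨hab a b, A.mul_mem (A.mul_mem (A.mul_mem a.2 b.2) (A.inv_mem a.2)) (A.inv_mem b.2)⟩
        rw [hA.disjoint.eq_bot, Subgroup.mem_bot] at h1
        apply Subtype.ext
        exact mul_inv_eq_iff_eq_mul.1 (mul_inv_eq_one.1 h1) }
  have := Fintype.ofFinite (A →* ℂˣ)
  have := Fintype.ofFinite ((T ⧸ N) →* ℂˣ)
  -- the restriction homomorphism
  let r : ((T ⧸ N) →* ℂˣ) →* (A →* ℂˣ) :=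
    { toFun := fun f => (f.comp (QuotientGroup.mk' N)).comp A.subtype
      map_one' := rfl
      map_mul' := fun _ _ => rfl }
  have hr : ∀ (f : (T ⧸ N) →* ℂˣ) (a : A), r f a = f ((a : T) : T ⧸ N) := fun f a => rfl
  have hrinj : Function.Injective r := by
    rw [injective_iff_map_eq_one]
    intro f hf
    refine MonoidHom.ext (fun q => ?_)
    obtain ⟨t, rfl⟩ := QuotientGroup.mk_surjective q
    obtain ⟨⟨n, a⟩, hna⟩ := hA.2 t
    have h1 : (t : T ⧸ N) = ((a : T) : T ⧸ N) := by
      have h2 : (n : T) * (a : T) = t := hna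
      rw [← h2, QuotientGroup.mk_mul, (QuotientGroup.eq_one_iff (n : T)).2 n.2, one_mul]
    rw [h1, ← hr, hf]
    rfl
  let K : Subgroup ((T ⧸ N) →* ℂˣ) :=
    { carrier := {f | ∀ t : T, (f (t : T ⧸ N) : ℂ) * ψ t = ψ t}
      one_mem' := fun t => by simp
      mul_mem' := by
        intro f g hf hg t
        rw [MonoidHom.mul_apply, Units.val_mul, mul_assoc, hg t, hf t]
      inv_mem' := by
        intro f hf t
        have h1 := hf t
        rw [MonoidHom.inv_apply]
        conv_lhs => rw [← h1]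
        rw [← mul_assoc, Units.inv_mul, one_mul] }
  have hKcard : Nat.card K = e ^ 2 := hcard
  have hK'card : Nat.card (K.map r) = e ^ 2 := by
    rw [← hKcard]
    exact (Nat.card_congr (K.equivMapOfInjective r hrinj).toEquiv).symm
  have hψA : IsCharacter A (fun a : A => ψ a) := isCharacter_comp A.subtype (isIrr_isCharacter hψ)
  have hn : ∀ μ : A →* ℂˣ, ∃ k : ℕ,
      classInner (fun a : A => ψ a) (fun a : A => (μ a : ℂ)) = k := fun μ =>
    classInner_isNat hψA (Cfsg.Agent.Characters.Linear.isCharacter_hom μ)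
  choose n hn using hn
  have hunit : ∀ (μ : A →* ℂˣ) (a : A), (μ a : ℂ) * conj (μ a : ℂ) = 1 := by
    intro μ a
    have h1 := isCharacter_apply_inv (Cfsg.Agent.Characters.Linear.isCharacter_hom μ) a
    rw [← h1]
    simp
  have hinvn : ∀ μ : A →* ℂˣ, ∀ k ∈ K.map r, n (μ * k) = n μ := by
    rintro μ _ ⟨f, hf, rfl⟩
    have h1 : (n (μ * r f) : ℂ) = n μ := by
      rw [← hn, ← hn, classInner_apply, classInner_apply]
      congr 1
      refine Finset.sum_congr rfl (fun a _ => ?_)
      have h2 : (f ((a : T) : T ⧸ N) : ℂ) * ψ a = ψ a := hf a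
      rw [MonoidHom.mul_apply, Units.val_mul, map_mul]
      have h3 : ψ a * conj ((r f) a : ℂ) = ψ a := by
        conv_lhs => rw [← h2]
        rw [← hr]
        calc ((r f) a : ℂ) * ψ a * conj ((r f) a : ℂ)
            = ((r f) a : ℂ) * conj ((r f) a : ℂ) * ψ a := by ring
          _ = ψ a := by rw [hunit, one_mul]
      calc ψ a * (conj (μ a : ℂ) * conj ((r f) a : ℂ))
          = (ψ a * conj ((r f) a : ℂ)) * conj (μ a : ℂ) := by ring
        _ = ψ a * conj (μ a : ℂ) := by rw [h3]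
    exact_mod_cast h1
  have hdvd1 : e ^ 2 ∣ ∑ μ : A →* ℂˣ, n μ := by
    rw [← hK'card]
    exact card_dvd_sum _ n hinvn
  obtain ⟨d, hd, hθ1⟩ := isIrr_apply_one hθ
  have hsum : ((∑ μ : A →* ℂˣ, n μ : ℕ) : ℂ) = ψ 1 := by
    push_cast
    simp only [← hn, classInner_apply]
    rw [← Finset.mul_sum, Finset.sum_comm]
    have h1 : ∀ a : A, ∑ μ : A →* ℂˣ, ψ a * conj (μ a : ℂ) =
        if a = 1 then (Nat.card A : ℂ) * ψ 1 else 0 := by
      intro a
      rw [← Finset.mul_sum, ← map_sum, sum_hom_apply]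
      split_ifs with h
      · rw [h]; simp [mul_comm]
      · simp
    rw [Finset.sum_congr rfl (fun a _ => h1 a), Finset.sum_ite_eq' Finset.univ (1 : A)]
    simp
  have h1 : ψ 1 = ((e * d : ℕ) : ℂ) := by
    have := hrestr 1
    rw [OneMemClass.coe_one, hθ1] at this
    rw [this]; push_cast; ring
  have h2 : (∑ μ : A →* ℂˣ, n μ) = e * d := by
    rw [h1] at hsum
    exact_mod_cast hsum
  rw [h2, sq] at hdvd1
  have h3 : e ∣ d := (Nat.mul_dvd_mul_iff_left he).1 hdvd1
  have h4 : e ∣ Nat.card N := h3.trans (hdvd d hθ1)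
  exact Nat.eq_one_of_dvd_coprimes hcop h4 hedvd

end normal

/-! ### The whole group -/

section main

variable {G : Type*} [Group G] [Fintype G]

/-- Frobenius reciprocity for functions. -/
theorem frobenius (H : Subgroup G) [Fintype H] (θ : H → ℂ) (χ : G → ℂ)
    (hχ : IsClassFunction G χ) :
    classInner (indFun H θ) χ = classInner θ (fun h : H => χ h) := by
  classical
  have hG : (Nat.card G : ℂ) ≠ 0 := by exact_mod_cast Nat.card_pos.ne'
  have h1 : ∀ x : G, ∑ g : G, extendByZero H θ (x⁻¹ * g * x) * conj (χ g) =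
      ∑ g : G, extendByZero H θ g * conj (χ g) := by
    intro x
    refine Fintype.sum_equiv (MulAut.conj x⁻¹).toEquiv _ _ (fun g => ?_)
    have h2 : (MulAut.conj x⁻¹).toEquiv g = x⁻¹ * g * x := by simp
    rw [h2]
    congr 2
    have h3 := hχ g x⁻¹
    rw [inv_inv] at h3
    exact h3.symm
  have h2 : ∑ g : G, extendByZero H θ g * conj (χ g) = ∑ h : H, θ h * conj (χ h) := by
    rw [← Finset.sum_subset (Finset.subset_univ (Finset.univ.filter (fun g : G => g ∈ H)))]
    · refine (Finset.sum_subtype (p := fun g : G => g ∈ H) (F := ‹Fintype H›)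
        (Finset.univ.filter (fun g : G => g ∈ H)) (by simp) _).trans ?_
      refine Fintype.sum_congr _ _ (fun h => ?_)
      rw [extendByZero_mem H θ h h.2]
    · intro g _ hg
      rw [extendByZero_not_mem H θ g (by simpa using hg), zero_mul]
  rw [classInner_apply, classInner_apply]
  have h3 : ∑ g : G, indFun H θ g * conj (χ g) =
      (Nat.card H : ℂ)⁻¹ * ((Nat.card G : ℂ) * ∑ h : H, θ h * conj (χ h)) := by
    calc ∑ g : G, indFun H θ g * conj (χ g)
        = ∑ g : G, (Nat.card H : ℂ)⁻¹ *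
            ∑ x : G, extendByZero H θ (x⁻¹ * g * x) * conj (χ g) := by
          refine Finset.sum_congr rfl (fun g _ => ?_)
          rw [indFun_apply, mul_assoc, Finset.sum_mul]
      _ = (Nat.card H : ℂ)⁻¹ *
            ∑ x : G, ∑ g : G, extendByZero H θ (x⁻¹ * g * x) * conj (χ g) := by
          rw [← Finset.mul_sum, Finset.sum_comm]
      _ = (Nat.card H : ℂ)⁻¹ * ((Nat.card G : ℂ) * ∑ h : H, θ h * conj (χ h)) := by
          rw [Finset.sum_congr rfl (fun x _ => h1 x), h2, Finset.sum_const, Finset.card_univ,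
            nsmul_eq_mul, ← Nat.card_eq_fintype_card]
  rw [h3]
  field_simp

theorem indFun_isCharacter (H : Subgroup G) (θ : H → ℂ) (hθ : IsCharacter H θ) :
    IsCharacter G (indFun H θ) := by
  classical
  have := finite_irr (G := G)
  have := Fintype.ofFinite (IrrCharacter G)
  have := Fintype.ofFinite H
  have hm : ∀ χ : IrrCharacter G, ∃ k : ℕ, classInner (indFun H θ) (χ : G → ℂ) = k := by
    intro χ
    rw [frobenius H θ χ (isIrr_isClassFunction χ.2)]
    exact classInner_isNat hθ (isCharacter_comp H.subtype (isIrr_isCharacter χ.2))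
  choose m hm using hm
  refine isCharacter_iff.2 ⟨m, ?_⟩
  refine (classFunction_eq_sum (indFun_isClassFunction H θ)).trans ?_
  refine Finset.sum_congr rfl (fun χ _ => ?_)
  rw [hm]
  exact Nat.cast_smul_eq_nsmul ℂ _ _

theorem indFun_one (H : Subgroup G) (θ : H → ℂ) : indFun H θ 1 = (H.index : ℂ) * θ 1 := by
  have hH : (Nat.card H : ℂ) ≠ 0 := by exact_mod_cast Nat.card_pos.ne'
  rw [indFun_apply]
  have h1 : ∀ x : G, extendByZero H θ (x⁻¹ * 1 * x) = θ 1 := by
    intro x
    have : x⁻¹ * 1 * x = 1 := by group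
    rw [this, extendByZero_mem H θ 1 H.one_mem]
    rfl
  rw [Finset.sum_congr rfl (fun x _ => h1 x), Finset.sum_const, Finset.card_univ, nsmul_eq_mul,
    ← Nat.card_eq_fintype_card, ← H.card_mul_index]
  push_cast
  field_simp

theorem indFun_smul_sum (T : Subgroup G) (c : ℂ) (S : Finset (T → ℂ)) :
    indFun T (c • ∑ ψ ∈ S, ψ) = c • ∑ ψ ∈ S, indFun T ψ := by
  have hext : ∀ y : G, extendByZero T (c • ∑ ψ ∈ S, ψ) y =
      c * ∑ ψ ∈ S, extendByZero T ψ y := by
    intro y
    by_cases hy : y ∈ T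
    · rw [extendByZero_mem T _ _ hy]
      simp only [Pi.smul_apply, Finset.sum_apply, smul_eq_mul]
      congr 1
      refine Finset.sum_congr rfl (fun ψ _ => ?_)
      rw [extendByZero_mem T _ _ hy]
    · rw [extendByZero_not_mem T _ _ hy, Finset.sum_eq_zero, mul_zero]
      intro ψ _
      rw [extendByZero_not_mem T _ _ hy]
  funext g
  simp only [Pi.smul_apply, Finset.sum_apply, smul_eq_mul, indFun_apply, hext]
  rw [← Finset.mul_sum, ← Finset.mul_sum, Finset.sum_comm]
  ring

/-- Transitivity of induction. -/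
theorem indFun_trans (H T : Subgroup G) [Fintype T] (hHT : H ≤ T) (θ : H → ℂ) :
    indFun T (indFun (H.subgroupOf T) (fun x => θ ⟨(x : T), Subgroup.mem_subgroupOf.mp x.2⟩)) =
      indFun H θ := by
  classical
  funext g
  have hT : (Nat.card T : ℂ) ≠ 0 := by exact_mod_cast Nat.card_pos.ne'
  set θ' : H.subgroupOf T → ℂ := fun x => θ ⟨(x : T), Subgroup.mem_subgroupOf.mp x.2⟩ with hθ'
  have hcard : Nat.card (H.subgroupOf T) = Nat.card H :=
    Nat.card_congr (Subgroup.subgroupOfEquivOfLe hHT).toEquiv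
  have hext : ∀ t : T, extendByZero (H.subgroupOf T) θ' t = extendByZero H θ (t : G) := by
    intro t
    by_cases ht : (t : G) ∈ H
    · rw [extendByZero_mem H θ _ ht, extendByZero_mem (H.subgroupOf T) θ' t
        (Subgroup.mem_subgroupOf.2 ht)]
    · rw [extendByZero_not_mem H θ _ ht, extendByZero_not_mem (H.subgroupOf T) θ' t
        (fun h => ht (Subgroup.mem_subgroupOf.1 h))]
  have hkey : ∀ y : G, extendByZero T (indFun (H.subgroupOf T) θ') y =
      (Nat.card H : ℂ)⁻¹ * ∑ t : T, extendByZero H θ ((t : G)⁻¹ * y * t) := by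
    intro y
    by_cases hy : y ∈ T
    · rw [extendByZero_mem T _ y hy, indFun_apply, hcard]
      congr 1
      refine Finset.sum_congr rfl (fun t _ => ?_)
      rw [hext]
      rfl
    · rw [extendByZero_not_mem T _ y hy]
      symm
      rw [mul_eq_zero]
      right
      refine Finset.sum_eq_zero (fun t _ => ?_)
      refine extendByZero_not_mem H θ _ (fun h => hy ?_)
      have h1 := T.mul_mem (T.mul_mem t.2 (hHT h)) (T.inv_mem t.2)
      have h2 : (t : G) * ((t : G)⁻¹ * y * t) * (t : G)⁻¹ = y := by group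
      rwa [h2] at h1
  rw [indFun_apply, indFun_apply]
  have h1 : ∑ x : G, extendByZero T (indFun (H.subgroupOf T) θ') (x⁻¹ * g * x) =
      (Nat.card H : ℂ)⁻¹ * ((Nat.card T : ℂ) * ∑ x : G, extendByZero H θ (x⁻¹ * g * x)) := by
    rw [Finset.sum_congr rfl (fun x _ => hkey (x⁻¹ * g * x)), ← Finset.mul_sum, Finset.sum_comm]
    congr 1
    have h2 : ∀ t : T, ∑ x : G, extendByZero H θ ((t : G)⁻¹ * (x⁻¹ * g * x) * t) =
        ∑ x : G, extendByZero H θ (x⁻¹ * g * x) := by
      intro t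
      refine Fintype.sum_equiv (Equiv.mulRight (t : G)) _ _ (fun x => ?_)
      simp only [Equiv.coe_mulRight]
      congr 1
      group
    rw [Finset.sum_congr rfl (fun t _ => h2 t), Finset.sum_const, Finset.card_univ, nsmul_eq_mul,
      Nat.card_eq_fintype_card]
  rw [h1]
  field_simp

/-- The norm of the function induced from an irreducible character of a normal subgroup. -/
theorem norm_indFun (H T : Subgroup G) [hN : H.Normal] (θ : H → ℂ) (hθ : IsIrrCharacter H θ)
    (hT : ∀ g : G, g ∈ T ↔ ∀ h : H, θ ⟨g * h * g⁻¹, hN.conj_mem h h.2 g⟩ = θ h) :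
    (Nat.card H : ℂ) * classInner (indFun H θ) (indFun H θ) = (Nat.card T : ℂ) := by
  classical
  have := Fintype.ofFinite H
  have hH : (Nat.card H : ℂ) ≠ 0 := by exact_mod_cast Nat.card_pos.ne'
  rw [frobenius H θ _ (indFun_isClassFunction H θ)]
  let θx : G → H → ℂ := fun x h => θ ⟨x⁻¹ * h * x⁻¹⁻¹, hN.conj_mem h h.2 x⁻¹⟩
  have hirr : ∀ x : G, IsIrrCharacter H (θx x) := by
    intro x
    have h1 := isIrr_comp (MulAut.conjNormal x⁻¹ : H ≃* H).toMonoidHom
      (MulAut.conjNormal x⁻¹ : H ≃* H).surjective hθ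
    have h2 : θ ∘ (MulAut.conjNormal x⁻¹ : H ≃* H).toMonoidHom = θx x := by
      funext h
      show θ ((MulAut.conjNormal x⁻¹ : H ≃* H) h) = θ _
      congr 1
    rwa [h2] at h1
  have hres : (fun h : H => indFun H θ h) = (Nat.card H : ℂ)⁻¹ • ∑ x : G, θx x := by
    funext h
    rw [indFun_apply, Pi.smul_apply, smul_eq_mul, Finset.sum_apply]
    congr 1
    refine Finset.sum_congr rfl (fun x _ => ?_)
    have hx : x⁻¹ * (h : G) * x ∈ H := by
      have := hN.conj_mem h h.2 x⁻¹
      simpa using this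
    rw [extendByZero_mem H θ _ hx]
    show θ _ = θ _
    congr 1
    apply Subtype.ext
    simp
  rw [hres, classInner_smul_right, classInner_sum_right]
  have h1 : ∀ x : G, classInner θ (θx x) = if x ∈ T then 1 else 0 := by
    intro x
    rw [classInner_irr hθ (hirr x)]
    have h2 : (θ = θx x) ↔ x ∈ T := by
      rw [← T.inv_mem_iff, hT]
      exact ⟨fun h k => (congrFun h k).symm, fun h => funext (fun k => (h k).symm)⟩
    simp only [h2]
  rw [Finset.sum_congr rfl (fun x _ => h1 x), Finset.sum_boole, map_inv₀, Complex.conj_natCast,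
    ← mul_assoc, mul_inv_cancel₀ hH, one_mul]
  congr 1
  rw [Nat.card_eq_fintype_card, Fintype.card_subtype]

theorem main (H T : Subgroup G) [hN : H.Normal] (θ : H → ℂ) (hθ : IsIrrCharacter H θ)
    (hT : ∀ g : G, g ∈ T ↔ ∀ h : H, θ ⟨g * h * g⁻¹, hN.conj_mem h h.2 g⟩ = θ h)
    (hab : ∀ x ∈ T, ∀ y ∈ T, x * y * x⁻¹ * y⁻¹ ∈ H) :
    ∃ (e : ℕ) (C : Finset (G → ℂ)), 0 < e ∧ (∀ χ ∈ C, IsIrrCharacter G χ) ∧
      e ^ 2 * C.card * Nat.card H = Nat.card T ∧ indFun H θ = (e : ℂ) • ∑ χ ∈ C, χ ∧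
      (∀ χ ∈ C, χ 1 = (T.index : ℂ) * e * θ 1) ∧
      ((∀ d : ℕ, θ 1 = d → d ∣ Nat.card H) → Nat.Coprime (Nat.card H) (H.relIndex T) →
        e = 1) := by
  classical
  have := Fintype.ofFinite T
  have hH0 : (Nat.card H : ℂ) ≠ 0 := by exact_mod_cast Nat.card_pos.ne'
  have hT0 : (Nat.card T : ℂ) ≠ 0 := by exact_mod_cast Nat.card_pos.ne'
  have hTi0 : (T.index : ℂ) ≠ 0 := by exact_mod_cast T.index_ne_zero_of_finite
  have hHT : H ≤ T := by
    intro x hx
    rw [hT]
    intro h
    exact isIrr_isClassFunction hθ h ⟨x, hx⟩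
  set θ' : H.subgroupOf T → ℂ := fun x => θ ⟨(x : T), Subgroup.mem_subgroupOf.mp x.2⟩ with hθ'def
  have hθ' : IsIrrCharacter (H.subgroupOf T) θ' :=
    isIrr_comp (Subgroup.subgroupOfEquivOfLe hHT).toMonoidHom
      (Subgroup.subgroupOfEquivOfLe hHT).surjective hθ
  have hcard' : Nat.card (H.subgroupOf T) = Nat.card H :=
    Nat.card_congr (Subgroup.subgroupOfEquivOfLe hHT).toEquiv
  have hindex : (H.subgroupOf T).index * Nat.card H = Nat.card T := by
    rw [← hcard']; exact (H.subgroupOf T).index_mul_card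
  have hNT : (H.subgroupOf T).Normal := inferInstance
  have hinv : ∀ t : T, ∀ n : H.subgroupOf T,
      θ' ⟨t * n * t⁻¹, hNT.conj_mem n n.2 t⟩ = θ' n := by
    intro t n
    exact (hT t).1 t.2 ⟨(n : T), Subgroup.mem_subgroupOf.mp n.2⟩
  have hab' : ∀ x y : T, x * y * x⁻¹ * y⁻¹ ∈ H.subgroupOf T := by
    intro x y
    rw [Subgroup.mem_subgroupOf]
    exact hab x x.2 y y.2
  obtain ⟨e, S, he, hSirr, hSne, hSrestr, hScard, hSsum, hSstab⟩ :=
    exists_decomp (H.subgroupOf T) θ' hθ' hinv hab'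
  have he0 : (e : ℂ) ≠ 0 := by exact_mod_cast he.ne'
  -- the induced characters
  have hSc : ∀ ψ ∈ S, IsCharacter G (indFun T ψ) := fun ψ hψ =>
    indFun_isCharacter T ψ (isIrr_isCharacter (hSirr ψ hψ))
  have hSone : ∀ ψ ∈ S, indFun T ψ 1 = (T.index : ℂ) * e * θ 1 := by
    intro ψ hψ
    rw [indFun_one]
    have h1 := hSrestr ψ hψ 1
    rw [OneMemClass.coe_one] at h1
    rw [h1, mul_assoc]
    rfl
  obtain ⟨d, hd, hθ1⟩ := isIrr_apply_one hθ
  have hSone0 : ∀ ψ ∈ S, indFun T ψ 1 ≠ 0 := by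
    intro ψ hψ
    rw [hSone ψ hψ, hθ1]
    have hd0 : (d : ℂ) ≠ 0 := by exact_mod_cast hd.ne'
    exact mul_ne_zero (mul_ne_zero hTi0 he0) hd0
  -- inner products are natural numbers
  have ha : ∀ ψ φ : T → ℂ, ∃ k : ℕ, ψ ∈ S → φ ∈ S →
      classInner (indFun T ψ) (indFun T φ) = k := by
    intro ψ φ
    by_cases h : ψ ∈ S ∧ φ ∈ S
    · obtain ⟨k, hk⟩ := classInner_isNat (hSc ψ h.1) (hSc φ h.2)
      exact ⟨k, fun _ _ => hk⟩
    · exact ⟨0, fun h1 h2 => absurd ⟨h1, h2⟩ h⟩
  choose a ha using ha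
  have hself : ∀ ψ ∈ S, 1 ≤ a ψ ψ := by
    intro ψ hψ
    rw [Nat.one_le_iff_ne_zero]
    intro h0
    have h1 := ha ψ ψ hψ hψ
    rw [h0, Nat.cast_zero] at h1
    exact hSone0 ψ hψ (congrFun (classInner_self_eq_zero h1) 1)
  -- linearity of induction
  have hind : indFun H θ = (e : ℂ) • ∑ ψ ∈ S, indFun T ψ := by
    rw [← indFun_trans H T hHT θ, ← hθ'def, hSsum, indFun_smul_sum]
  have hnorm := norm_indFun H T θ hθ hT
  have hsum : ∑ ψ ∈ S, ∑ φ ∈ S, a ψ φ = S.card := by
    have h1 : classInner (indFun H θ) (indFun H θ) =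
        (e : ℂ) * ((e : ℂ) * ∑ ψ ∈ S, ∑ φ ∈ S, (a ψ φ : ℂ)) := by
      rw [hind, classInner_smul_left, classInner_smul_right, classInner_sum_left,
        Complex.conj_natCast]
      congr 2
      refine Finset.sum_congr rfl (fun ψ hψ => ?_)
      rw [classInner_sum_right]
      exact Finset.sum_congr rfl (fun φ hφ => ha ψ φ hψ hφ)
    have h2 : (Nat.card H : ℂ) * ((e : ℂ) * ((e : ℂ) * ∑ ψ ∈ S, ∑ φ ∈ S, (a ψ φ : ℂ))) =
        (Nat.card H : ℂ) * ((e : ℂ) * ((e : ℂ) * (S.card : ℂ))) := by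
      rw [← h1, hnorm, ← hindex, ← hScard]
      push_cast
      ring
    have h3 := mul_left_cancel₀ he0 (mul_left_cancel₀ he0 (mul_left_cancel₀ hH0 h2))
    exact_mod_cast h3
  have hrow : ∀ ψ ∈ S, ∑ φ ∈ S, a ψ φ = 1 := by
    have h1 : ∀ ψ ∈ S, 1 ≤ ∑ φ ∈ S, a ψ φ := fun ψ hψ =>
      (hself ψ hψ).trans (Finset.single_le_sum (f := fun φ => a ψ φ) (fun _ _ => Nat.zero_le _) hψ)
    have h2 : ∑ ψ ∈ S, 1 = ∑ ψ ∈ S, ∑ φ ∈ S, a ψ φ := by
      rw [hsum]; simp
    intro ψ hψ
    exact ((Finset.sum_eq_sum_iff_of_le h1).1 h2 ψ hψ).symm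
  have haa : ∀ ψ ∈ S, a ψ ψ = 1 := by
    intro ψ hψ
    refine le_antisymm ?_ (hself ψ hψ)
    rw [← hrow ψ hψ]
    exact Finset.single_le_sum (f := fun φ => a ψ φ) (fun _ _ => Nat.zero_le _) hψ
  have hab0 : ∀ ψ ∈ S, ∀ φ ∈ S, φ ≠ ψ → a ψ φ = 0 := by
    intro ψ hψ φ hφ hne
    have h1 := hrow ψ hψ
    rw [← Finset.add_sum_erase S _ hψ, haa ψ hψ] at h1
    have h2 : ∑ x ∈ S.erase ψ, a ψ x = 0 := by omega
    exact (Finset.sum_eq_zero_iff.1 h2) φ (Finset.mem_erase.2 ⟨hne, hφ⟩)
  have hinj : Set.InjOn (indFun T) (S : Set (T → ℂ)) := by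
    intro ψ hψ φ hφ heq
    by_contra hne
    have h1 := ha ψ φ hψ hφ
    rw [hab0 ψ hψ φ hφ (Ne.symm hne), ← heq, ha ψ ψ hψ hψ, haa ψ hψ] at h1
    norm_num at h1
  refine ⟨e, S.image (indFun T), he, ?_, ?_, ?_, ?_, ?_⟩
  · intro χ hχ
    obtain ⟨ψ, hψ, rfl⟩ := Finset.mem_image.1 hχ
    refine (isIrr_iff_classInner_self (hSc ψ hψ)).2 ?_
    rw [ha ψ ψ hψ hψ, haa ψ hψ, Nat.cast_one]
  · rw [Finset.card_image_of_injOn hinj, hScard, hindex]
  · rw [Finset.sum_image hinj, hind]
  · intro χ hχ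
    obtain ⟨ψ, hψ, rfl⟩ := Finset.mem_image.1 hχ
    exact hSone ψ hψ
  · intro hdvd hcop
    obtain ⟨ψ, hψ⟩ := hSne
    refine mult_eq_one (H.subgroupOf T) θ' hθ' ?_ hab' ?_ e he ?_ ψ (hSirr ψ hψ)
      (hSrestr ψ hψ) (hSstab ψ hψ)
    · intro d hd
      rw [hcard']
      exact hdvd d hd
    · rw [hcard']
      exact hcop
    · rw [← hScard, sq, mul_assoc]
      exact Dvd.intro _ rfl

end main

end Cfsg.Agent.OddOrderCharacters.InertiaAbelian
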