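import Cfsg.Prelude.Def_OddOrderChar
import Cfsg.Prelude.Def_OddOrderLocal
set_option linter.all false

/-!
# Shared vocabulary for the character-theoretic half of the odd order theorem (Peterfalvi §4–§14)

Definitions only (plus trivial lemmas).  The direct product `W = W₁ × W₂` is a separate variable `W` with
`W₁ ⊔ W₂ = W`, so that the same type `↥W →* ℂˣ` of linear characters serves both orders `(W₁, W₂)`
and `(W₂, W₁)`.  `lin₁` (trivial on `W₂`) is the index set `i`, `lin₂` (trivial on `W₁`) the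
index set `j`; `ω = φ * ψ` with `φ ∈ lin₁`, `ψ ∈ lin₂` is `ω_ij`.
-/

set_option autoImplicit false

open scoped ComplexConjugate
open Cfsg

namespace Cfsg.Agent.OddOrderCharacters.PFDefs

universe u

section general

variable {L : Type u} [Group L] [Fintype L]

/-- `seqIndD K X Y`: the functions on `L` induced from the irreducible characters of `K` whose kernel
does not contain `X ⊓ K` and contains `Y ⊓ K`. -/
def seqIndD (K X Y : Subgroup L) : Set (L → ℂ) :=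
  {φ | ∃ θ : ↥K → ℂ, IsIrrCharacter ↥K θ ∧ (∃ x : ↥K, (x : L) ∈ X ∧ θ x ≠ θ 1) ∧
    (∀ y : ↥K, (y : L) ∈ Y → θ y = θ 1) ∧ φ = indFun K θ}

end general

section groups

variable {G : Type u} [Group G]

/-- `seqIndOf M K X Y` for subgroups `K X Y ≤ M` of `G`: the set `seqIndD` inside `↥M`. -/
def seqIndOf (M K X Y : Subgroup G) [Fintype ↥M] : Set (↥M → ℂ) :=
  seqIndD (K.subgroupOf M) (X.subgroupOf M) (Y.subgroupOf M)

/-- The linear characters of `W` trivial on `W₂` (the index `i`). -/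
def lin₁ (W W₂ : Subgroup G) : Set (↥W →* ℂˣ) := {φ | ∀ w : ↥W, (w : G) ∈ W₂ → φ w = 1}

/-- The linear characters of `W` trivial on `W₁` (the index `j`). -/
abbrev lin₂ (W W₁ : Subgroup G) : Set (↥W →* ℂˣ) := lin₁ W W₁

/-- `∑_i f (ω_i0 * ω)`: the sum over the linear characters `φ` of `W` trivial on `W₂`.  With
`f = μ` this is `μ_j`, with `f = η` the column sum `∑_i η_ij`, `j` the restriction of `ω` to `W₂`. -/
noncomputable def colSum {X : Type*} (W W₂ : Subgroup G) (f : (↥W →* ℂˣ) → (X → ℂ))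
    (ω : ↥W →* ℂˣ) : X → ℂ :=
  ∑ᶠ φ ∈ lin₁ W W₂, f (φ * ω)

/-- The cyclic TI set `V = W \ (W₁ ∪ W₂)`. -/
def cycTIset (W W₁ W₂ : Subgroup G) : Set G := (W : Set G) \ (↑W₁ ∪ ↑W₂)

/-- Union of the `M`-conjugates of a set. -/
def classSupport (V : Set G) (M : Subgroup G) : Set G :=
  {g | ∃ m ∈ M, ∃ v ∈ V, g = m * v * m⁻¹}

/-- Peterfalvi (3.1): `W = W₁ × W₂` of odd order, `IsSelfNormalizingCyclic`. -/
structure CyclicTIHyp (W W₁ W₂ : Subgroup G) : Prop where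
  sup_eq : W₁ ⊔ W₂ = W
  odd : Odd (Nat.card ↥W)
  selfNormalizing : IsSelfNormalizingCyclic W₁ W₂

/-- Same as `Cfsg.IsCyclicTIFamily`, with `W` a variable. -/
structure CyclicTIFam [Fintype G] (W W₁ W₂ : Subgroup G) (η : (↥W →* ℂˣ) → (G → ℂ)) : Prop where
  sup_eq : W₁ ⊔ W₂ = W
  irr_or_neg : ∀ ω, IsIrrCharacter G (η ω) ∨ IsIrrCharacter G (-η ω)
  orthonormal : ∀ ω ω', classInner (η ω) (η ω') =
    @ite ℂ (ω = ω') (Classical.propDecidable (ω = ω')) 1 0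
  map_one : η 1 = fun _ => 1
  eq_on : ∀ ω, ∀ w : ↥W, (w : G) ∉ W₁ → (w : G) ∉ W₂ → η ω w = (ω w : ℂ)
  induced_eq : ∀ φ ψ : ↥W →* ℂˣ, φ ≠ 1 → ψ ≠ 1 →
    (∀ w : ↥W, (w : G) ∈ W₂ → φ w = 1) → (∀ w : ↥W, (w : G) ∈ W₁ → ψ w = 1) →
    indFun W (fun w => 1 - (φ w : ℂ) - (ψ w : ℂ) + (φ w : ℂ) * (ψ w : ℂ)) =
      fun g => 1 - η φ g - η ψ g + η (φ * ψ) g

theorem cyclicTIFam_of [Fintype G] {W₁ W₂ : Subgroup G}
    {χ : (↥(W₁ ⊔ W₂) →* ℂˣ) → (G → ℂ)} (h : IsCyclicTIFamily W₁ W₂ χ) :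
    CyclicTIFam (W₁ ⊔ W₂) W₁ W₂ χ :=
  ⟨rfl, h.irr_or_neg, h.orthonormal, h.map_one, h.eq_on, h.induced_eq⟩

theorem cyclicTIFam_to [Fintype G] {W₁ W₂ : Subgroup G}
    {χ : (↥(W₁ ⊔ W₂) →* ℂˣ) → (G → ℂ)} (h : CyclicTIFam (W₁ ⊔ W₂) W₁ W₂ χ) :
    IsCyclicTIFamily W₁ W₂ χ :=
  ⟨h.irr_or_neg, h.orthonormal, h.map_one, h.eq_on, h.induced_eq⟩

theorem CyclicTIFam.symm [Fintype G] {W W₁ W₂ : Subgroup G} {η : (↥W →* ℂˣ) → (G → ℂ)}
    (h : CyclicTIFam W W₁ W₂ η) : CyclicTIFam W W₂ W₁ η where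
  sup_eq := by rw [sup_comm]; exact h.sup_eq
  irr_or_neg := h.irr_or_neg
  orthonormal := h.orthonormal
  map_one := h.map_one
  eq_on := fun ω w h2 h1 => h.eq_on ω w h1 h2
  induced_eq := fun φ ψ hφ hψ h1 h2 => by
    have := h.induced_eq ψ φ hψ hφ h2 h1
    have e1 : (fun w : ↥W => 1 - (φ w : ℂ) - (ψ w : ℂ) + (φ w : ℂ) * (ψ w : ℂ)) =
        fun w : ↥W => 1 - (ψ w : ℂ) - (φ w : ℂ) + (ψ w : ℂ) * (φ w : ℂ) := by
      funext w; ring
    rw [e1, this]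
    funext g
    rw [mul_comm ψ φ]
    ring

/-- Peterfalvi (4.2): `L = K ⋊ W₁` with `W₁ ≠ 1` a cyclic Hall subgroup of `L`, `1 ≠ W₂ ≤ K`
cyclic, `C_K(x) = W₂` for `x ∈ W₁ \ 1`, `W = W₁W₂` of odd order.  All groups are subgroups of `G`. -/
structure PrimeTIHyp (L K W W₁ W₂ : Subgroup G) : Prop where
  sup_eq : W₁ ⊔ W₂ = W
  le : K ≤ L
  normal : ∀ x ∈ L, ∀ k ∈ K, x * k * x⁻¹ ∈ K
  inf_eq : K ⊓ W₁ = ⊥
  sup_L : K ⊔ W₁ = L
  W₁_ne : W₁ ≠ ⊥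
  W₁_cyclic : IsCyclic W₁
  W₁_hall : Nat.Coprime (Nat.card W₁) (W₁.relIndex L)
  W₂_ne : W₂ ≠ ⊥
  W₂_cyclic : IsCyclic W₂
  W₂_le : W₂ ≤ K
  centralizer_eq : ∀ x ∈ W₁, x ≠ 1 → K ⊓ Subgroup.centralizer ({x} : Set G) = W₂
  odd : Odd (Nat.card ↥W)

/-- Peterfalvi (4.3)–(4.5): the irreducible characters `μ_ij` of `L` and the signs `δ_j`, indexed by the
linear characters `ω = ω_ij` of `W`.  `δ ω` and the restriction of `μ ω` to `K` depend only on the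
restriction of `ω` to `W₂` (the index `j`). -/
structure PrimeTIFam [Fintype G] (L K W W₁ W₂ : Subgroup G) [Fintype ↥L]
    (μ : (↥W →* ℂˣ) → (↥L → ℂ)) (δ : (↥W →* ℂˣ) → ℤ) : Prop where
  injective : Function.Injective μ
  irr : ∀ ω, IsIrrCharacter ↥L (μ ω)
  map_one : μ 1 = fun _ => 1
  sign : ∀ ω, δ ω = 1 ∨ δ ω = -1
  sign_one : δ 1 = 1
  sign_congr : ∀ ω ω' : ↥W →* ℂˣ, (∀ w : ↥W, (w : G) ∈ W₂ → ω w = ω' w) → δ ω = δ ω'
  restrict_congr : ∀ ω ω' : ↥W →* ℂˣ, (∀ w : ↥W, (w : G) ∈ W₂ → ω w = ω' w) →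
    ∀ k : ↥L, (k : G) ∈ K → μ ω k = μ ω' k
  restrict_irr : ∀ ω, IsIrrCharacter ↥(K.subgroupOf L) (fun k => μ ω k)
  ind_restrict : ∀ ω, indFun (K.subgroupOf L) (fun k => μ ω k) = colSum W W₂ μ ω
  eq_on : ∀ ω, ∀ (w : ↥W) (hw : (w : G) ∈ L), (w : G) ∉ W₂ → μ ω ⟨w, hw⟩ = δ ω * (ω w : ℂ)
  ind_sub : ∀ ω ω' : ↥W →* ℂˣ, (∀ w : ↥W, (w : G) ∈ W₂ → ω w = ω' w) →
    ∀ α : ↥(W.subgroupOf L) → ℂ, (∀ (w : ↥(W.subgroupOf L)) (hw : ((w : ↥L) : G) ∈ W),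
      α w = (ω ⟨_, hw⟩ : ℂ) - (ω' ⟨_, hw⟩ : ℂ)) →
    indFun (W.subgroupOf L) α = (δ ω : ℂ) • (μ ω - μ ω')
  degree : ∀ ω, ∃ n : ℤ, μ ω 1 - δ ω = n * (Nat.card W₁ : ℂ)
  vanish : ∀ θ : ↥L → ℂ, IsIrrCharacter ↥L θ → (∀ ω, θ ≠ μ ω) →
    ∀ (w : ↥W) (hw : (w : G) ∈ L), (w : G) ∉ W₂ → θ ⟨w, hw⟩ = 0
  other_induced : ∀ θ : ↥L → ℂ, IsIrrCharacter ↥L θ → (∀ ω, θ ≠ μ ω) →
    ∃ φ : ↥(K.subgroupOf L) → ℂ, IsIrrCharacter ↥(K.subgroupOf L) φ ∧ θ = indFun (K.subgroupOf L) φ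

/-- Peterfalvi, Hypothesis (4.6) ("prime Dade hypothesis"), with `R` the choice of subgroups in the Dade
hypothesis for `(A₀, L)`. -/
structure PrimeDadeHyp (L K H : Subgroup G) (A A₀ : Set G) (W W₁ W₂ : Subgroup G)
    (R : G → Subgroup G) : Prop where
  cyclicTI : CyclicTIHyp W W₁ W₂
  primeTI : PrimeTIHyp L K W W₁ W₂
  dade : DadeHypothesis A₀ L R
  H_normal : ∀ x ∈ L, ∀ h ∈ H, x * h * x⁻¹ ∈ H
  W₂_le : W₂ ≤ H
  H_le : H ≤ K
  A_normal : ∀ x ∈ L, ∀ a ∈ A, x * a * x⁻¹ ∈ A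
  centralizer_sub : ∀ h ∈ H, h ≠ 1 → ∀ k ∈ K, k ≠ 1 → k * h = h * k → k ∈ A
  A_sub : ∀ a ∈ A, a ∈ K ∧ a ≠ 1
  A₀_eq : A₀ = A ∪ classSupport (cycTIset W W₁ W₂) L

open Classical in
/-- Peterfalvi (7.1): `χ ↦ χ^ρ`, the average over the cosets `a R(a)`, `a ∈ A`, and `0` off `A`. -/
noncomputable def rho (A : Set G) (L : Subgroup G) (R : G → Subgroup G) (χ : G → ℂ) : ↥L → ℂ :=
  fun a => if (a : G) ∈ A then (Nat.card (R a) : ℂ)⁻¹ * ∑ᶠ u ∈ (R a : Set G), χ (a * u) else 0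

/-- The support `Ã` of the Dade map: the elements conjugate into a coset `a R(a)`, `a ∈ A`. -/
def dadeSupport (A : Set G) (R : G → Subgroup G) : Set G :=
  {g | ∃ a ∈ A, ∃ u ∈ R a, ∃ x : G, x * g * x⁻¹ = a * u}

/-! ### Weak type I and the sets `A(M)`, `A₀(M)` used in the proof of the odd order theorem

`Cfsg.IsOfTypeI` asks in its third alternative for `O_{p'}(M)` cyclic, Peterfalvi's definition only for
`O_{p'}(M_F)` cyclic, and only the latter can be established by local analysis.  So the chain uses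
`IsOfTypeI'`, and the sets `typeA'`, `typeA0'`, which switch on `IsOfTypeP` (every maximal subgroup of a
minimal simple group of odd order is of exactly one of the types I' and P). -/

/-- Type I in the sense of Peterfalvi: of Frobenius type and, with `H = M_F`, `H` is a TI-subset, or
abelian of rank 2, or the exponent of `M/H` divides `p - 1` for each prime `p` dividing `#H` and
`O_{p'}(H)` is cyclic for some such `p`. -/
def IsOfTypeI' (M : Subgroup G) : Prop :=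
  IsOfTypeF M ∧
  ( IsTISubset (fittingHallOf M : Set G) ∨
    (IsMulCommutative (fittingHallOf M) ∧ RankLE 2 (fittingHallOf M) ∧
      ¬ RankLE 1 (fittingHallOf M)) ∨
    ((∀ p : ℕ, p.Prime → p ∣ Nat.card (fittingHallOf M) →
        Monoid.exponent (M ⧸ fittingHall M) ∣ p - 1) ∧
      ∃ p : ℕ, p.Prime ∧ p ∣ Nat.card (fittingHallOf M) ∧
        IsCyclic (pPrimeCore p (fittingHallOf M))) )

open scoped Classical in
/-- `A(M)`, with the switch on type P. -/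
noncomputable def typeA' (M : Subgroup G) : Set G :=
  if IsOfTypeP M then
    {a | a ∈ ⁅M, M⁆ ∧ a ≠ 1 ∧ ∃ x ∈ typeCore M, x ≠ 1 ∧ a * x = x * a}
  else
    {a | a ∈ M ∧ a ≠ 1 ∧ ∃ x ∈ fittingHallOf M, x ≠ 1 ∧ a * x = x * a}

theorem typeA'_of_typeP {M : Subgroup G} (h : IsOfTypeP M) :
    typeA' M = {a | a ∈ ⁅M, M⁆ ∧ a ≠ 1 ∧ ∃ x ∈ typeCore M, x ≠ 1 ∧ a * x = x * a} := if_pos h

theorem typeA'_of_not_typeP {M : Subgroup G} (h : ¬ IsOfTypeP M) :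
    typeA' M = {a | a ∈ M ∧ a ≠ 1 ∧ ∃ x ∈ fittingHallOf M, x ≠ 1 ∧ a * x = x * a} := if_neg h

/-- `A₀(M)`: `A(M)` and the `M`-conjugates of the elements of `W₁W₂ \ (W₁ ∪ W₂)`. -/
noncomputable def typeA0' (M : Subgroup G) : Set G :=
  typeA' M ∪ {v | ∃ W₁ U W₂ : Subgroup G, IsTypePWith M W₁ U W₂ ∧
    ∃ m ∈ M, ∃ w ∈ W₁ ⊔ W₂, w ∉ W₁ ∧ w ∉ W₂ ∧ v = m * w * m⁻¹}

theorem typeA0'_of_not_typeP {M : Subgroup G} (h : ¬ IsOfTypeP M) : typeA0' M = typeA' M := by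
  refine Set.union_eq_self_of_subset_right ?_
  rintro v ⟨W₁, U, W₂, hP, -⟩
  exact absurd ⟨W₁, U, W₂, hP⟩ h

/-- The maximal subgroup `L` supports `M` (relative to `typeA0'`). -/
def Supports' (L M : Subgroup G) : Prop :=
  IsCoatom L ∧ ∃ x ∈ typeA0' M, ¬ Subgroup.centralizer ({x} : Set G) ≤ M ∧
    Subgroup.centralizer ({x} : Set G) ≤ L

/-- The Dade map of a maximal subgroup `M`: always relative to `A₀(M)`. -/
noncomputable def tauOf (M : Subgroup G) : (↥M → ℂ) → (G → ℂ) :=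
  dadeIsometry (typeA0' M) M (supportR M)

/-- The full set of "non-kernel" characters of a maximal subgroup `M`: for type P the functions induced
from the irreducible characters of `M'` whose kernel does not contain `M_s`, otherwise (type I) the
functions induced from the nonprincipal irreducible characters of `M_F`. -/
noncomputable def calS (M : Subgroup G) [Fintype ↥M] : Set (↥M → ℂ) :=
  haveI := Classical.propDecidable (IsOfTypeP M)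
  if IsOfTypeP M then seqIndOf M ⁅M, M⁆ (typeCore M) ⊥
  else seqIndOf M (fittingHallOf M) (fittingHallOf M) ⊥

theorem calS_of_typeP {M : Subgroup G} [Fintype ↥M] (h : IsOfTypeP M) :
    calS M = seqIndOf M ⁅M, M⁆ (typeCore M) ⊥ := if_pos h

theorem calS_of_not_typeP {M : Subgroup G} [Fintype ↥M] (h : ¬ IsOfTypeP M) :
    calS M = seqIndOf M (fittingHallOf M) (fittingHallOf M) ⊥ := if_neg h

end groups

end Cfsg.Agent.OddOrderCharacters.PFDefs
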