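import Mathlib
import Cfsg.Prelude.Def_Characters
import Cfsg.Agent.Characters.Core
set_option linter.all false

/-!
# Virtual characters of small norm

A virtual character of norm two that vanishes at `1` is a difference of two distinct irreducible
characters.
-/

set_option autoImplicit false

open scoped ComplexConjugate
open Cfsg

namespace Cfsg.Agent.OddOrderCharacters.NormTwo

open Cfsg.Agent.Characters.Core

universe u

/-- An integer vector of squared length two has exactly two nonzero entries, both of them signs. -/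
theorem exists_of_sum_sq_eq_two {ι : Type*} [Fintype ι] (m : ι → ℤ)
    (h : ∑ i, m i ^ 2 = 2) :
    ∃ i j, i ≠ j ∧ m i ^ 2 = 1 ∧ m j ^ 2 = 1 ∧ ∀ k, k ≠ i → k ≠ j → m k = 0 := by
  classical
  have hsq : ∀ x : ℤ, x ≠ 0 → x ^ 2 ≤ 2 → x ^ 2 = 1 := by
    intro x hx hx2
    have h1 : x ≤ 1 := by nlinarith
    have h2 : -1 ≤ x := by nlinarith
    interval_cases x <;> simp_all
  obtain ⟨i, hi⟩ : ∃ i, m i ≠ 0 := by
    by_contra hcon
    push Not at hcon
    simp [hcon] at h
  have e1 : m i ^ 2 + ∑ k ∈ Finset.univ.erase i, m k ^ 2 = ∑ k, m k ^ 2 :=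
    Finset.add_sum_erase Finset.univ (fun i => m i ^ 2) (Finset.mem_univ i)
  have nn1 : 0 ≤ ∑ k ∈ Finset.univ.erase i, m k ^ 2 := Finset.sum_nonneg fun k _ => sq_nonneg _
  have hi1 : m i ^ 2 = 1 := hsq _ hi (by omega)
  have e2 : ∑ k ∈ Finset.univ.erase i, m k ^ 2 = 1 := by omega
  obtain ⟨j, hj, hj0⟩ : ∃ j ∈ Finset.univ.erase i, m j ≠ 0 := by
    by_contra hcon
    push Not at hcon
    rw [Finset.sum_eq_zero (fun k hk => by rw [hcon k hk]; simp)] at e2
    omega
  have e3 : m j ^ 2 + ∑ k ∈ (Finset.univ.erase i).erase j, m k ^ 2 =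
      ∑ k ∈ Finset.univ.erase i, m k ^ 2 :=
    Finset.add_sum_erase (Finset.univ.erase i) (fun i => m i ^ 2) hj
  have nn2 : 0 ≤ ∑ k ∈ (Finset.univ.erase i).erase j, m k ^ 2 :=
    Finset.sum_nonneg fun k _ => sq_nonneg _
  have hj1 : m j ^ 2 = 1 := hsq _ hj0 (by omega)
  have e4 : ∑ k ∈ (Finset.univ.erase i).erase j, m k ^ 2 = 0 := by omega
  refine ⟨i, j, (Finset.ne_of_mem_erase hj).symm, hi1, hj1, fun k hki hkj => ?_⟩
  have := (Finset.sum_eq_zero_iff_of_nonneg (fun k _ => sq_nonneg (m k))).1 e4 k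
    (by simp [hki, hkj])
  exact pow_eq_zero_iff (two_ne_zero) |>.1 this

variable {G : Type u} [Group G]

/-- Inner product of two integer combinations of irreducible characters. -/
theorem classInner_intSum [Fintype G] [Fintype (IrrCharacter G)] (m n : IrrCharacter G → ℤ) :
    classInner (∑ ψ : IrrCharacter G, m ψ • (ψ : G → ℂ))
      (∑ ψ : IrrCharacter G, n ψ • (ψ : G → ℂ)) = ((∑ ψ, m ψ * n ψ : ℤ) : ℂ) := by
  classical
  rw [classInner_sum_left]
  push_cast
  refine Finset.sum_congr rfl fun ψ _ => ?_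
  rw [classInner_sum_right, Finset.sum_eq_single ψ]
  · rw [← Int.cast_smul_eq_zsmul ℂ, ← Int.cast_smul_eq_zsmul ℂ, classInner_smul_left,
      classInner_smul_right, classInner_irr_self ψ.2]
    simp
  · intro φ _ hφ
    rw [← Int.cast_smul_eq_zsmul ℂ, ← Int.cast_smul_eq_zsmul ℂ, classInner_smul_left,
      classInner_smul_right, classInner_irr_ne ψ.2 φ.2 (fun h => hφ (Subtype.ext h.symm))]
    simp
  · intro h
    exact absurd (Finset.mem_univ _) h

/-- A virtual character of norm two that vanishes at `1` is the difference of two distinct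
irreducible characters. -/
theorem exists_sub_of_norm_two [Fintype G] {θ : G → ℂ} (hθ : IsGeneralizedCharacter G θ)
    (h2 : classInner θ θ = 2) (h1 : θ 1 = 0) :
    ∃ μ ν : G → ℂ, IsIrrCharacter G μ ∧ IsIrrCharacter G ν ∧ μ ≠ ν ∧ θ = μ - ν := by
  classical
  have : Finite (IrrCharacter G) := finite_irr
  have : Fintype (IrrCharacter G) := Fintype.ofFinite _
  obtain ⟨m, rfl⟩ := isGeneralizedCharacter_iff.1 hθ
  rw [classInner_intSum] at h2
  have h2' : ∑ ψ, m ψ ^ 2 = 2 := by
    have : (∑ ψ, m ψ * m ψ : ℤ) = 2 := by exact_mod_cast h2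
    simpa [sq] using this
  obtain ⟨i, j, hij, hi, hj, hk⟩ := exists_of_sum_sq_eq_two m h2'
  have hsum : ∑ ψ : IrrCharacter G, m ψ • (ψ : G → ℂ) = m i • (i : G → ℂ) + m j • (j : G → ℂ) := by
    rw [← Finset.sum_pair (f := fun ψ : IrrCharacter G => m ψ • (ψ : G → ℂ)) hij]
    symm
    apply Finset.sum_subset (Finset.subset_univ _)
    intro k _ hk'
    simp only [Finset.mem_insert, Finset.mem_singleton, not_or] at hk'
    rw [hk k hk'.1 hk'.2, zero_smul]
  rw [hsum] at h1 ⊢
  obtain ⟨a, ha, hia⟩ := isIrr_apply_one i.2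
  obtain ⟨b, hb, hjb⟩ := isIrr_apply_one j.2
  have hval : m i * a + m j * b = 0 := by
    have : ((m i * a + m j * b : ℤ) : ℂ) = 0 := by
      rw [← h1]
      simp [hia, hjb]
    exact_mod_cast this
  have hij' : (i : G → ℂ) ≠ j := fun h => hij (Subtype.ext h)
  have ha' : (0 : ℤ) < a := by exact_mod_cast ha
  have hb' : (0 : ℤ) < b := by exact_mod_cast hb
  rw [sq, mul_self_eq_one_iff] at hi hj
  rcases hi with hi | hi <;> rcases hj with hj | hj
  · rw [hi, hj] at hval; omega
  · exact ⟨i, j, i.2, j.2, hij', by rw [hi, hj]; simp [sub_eq_add_neg]⟩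
  · exact ⟨j, i, j.2, i.2, hij'.symm, by rw [hi, hj]; simp [sub_eq_add_neg, add_comm]⟩
  · rw [hi, hj] at hval; omega

end Cfsg.Agent.OddOrderCharacters.NormTwo
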