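import Cfsg.Agent.Characters.Core
import Cfsg.Agent.OddOrderCharacters.VChar
import Cfsg.Agent.S0161
set_option linter.all false

/-!
# Real generalized characters of groups of odd order
-/

set_option autoImplicit false

open scoped ComplexConjugate
open Cfsg Cfsg.Agent.Characters.Core Cfsg.Agent.OddOrderCharacters.VChar

namespace Cfsg.Agent.OddOrderCharacters.OddReal

variable {G : Type*} [Group G] [Fintype G]

/-- Complex conjugation on the irreducible characters. -/
noncomputable def conjIrr (χ : IrrCharacter G) : IrrCharacter G :=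
  ⟨conjFun (χ : G → ℂ), isIrr_conjFun χ.2⟩

theorem conjIrr_coe (χ : IrrCharacter G) : ((conjIrr χ : IrrCharacter G) : G → ℂ) = conjFun χ := rfl

theorem conjIrr_conjIrr (χ : IrrCharacter G) : conjIrr (conjIrr χ) = χ :=
  Subtype.ext (conjFun_conjFun _)

/-- The principal character. -/
noncomputable def oneIrr (G : Type*) [Group G] [Fintype G] : IrrCharacter G := ⟨1, isIrr_one⟩

theorem conjIrr_ne (hodd : Odd (Nat.card G)) {χ : IrrCharacter G} (hχ : χ ≠ oneIrr G) :
    conjIrr χ ≠ χ := by
  intro h
  apply hχ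
  apply Subtype.ext
  have h1 : ∀ g : G, ((χ : G → ℂ) g).im = 0 := by
    intro g
    have h2 : conj ((χ : G → ℂ) g) = (χ : G → ℂ) g := congrFun (congrArg Subtype.val h) g
    exact Complex.conj_eq_iff_im.1 h2
  exact Cfsg.Agent.S0161.result hodd χ h1

theorem conjIrr_one : conjIrr (oneIrr G) = oneIrr G := by
  apply Subtype.ext
  funext g
  show conj (1 : ℂ) = 1
  simp

/-- A function on the irreducible characters of a group of odd order which is invariant under complex
conjugation has a sum of the parity of its value at the principal character. -/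
theorem sum_parity [Fintype (IrrCharacter G)] (hodd : Odd (Nat.card G)) (f : IrrCharacter G → ℤ)
    (hf : ∀ χ, f (conjIrr χ) = f χ) : ∃ k : ℤ, ∑ χ, f χ = f (oneIrr G) + 2 * k := by
  classical
  rw [← Finset.add_sum_erase Finset.univ f (Finset.mem_univ (oneIrr G))]
  have h : ((2 : ℕ) : ℤ) ∣ ∑ χ ∈ Finset.univ.erase (oneIrr G), f χ := by
    rw [← ZMod.intCast_zmod_eq_zero_iff_dvd]
    push_cast
    refine Finset.sum_involution (fun χ _ => conjIrr χ) ?_ ?_ ?_ ?_
    · intro χ _
      rw [hf χ]
      have : (2 : ZMod 2) = 0 := rfl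
      rw [← two_mul, this, zero_mul]
    · intro χ hχ _
      exact conjIrr_ne hodd (Finset.mem_erase.1 hχ).1
    · intro χ hχ
      rw [Finset.mem_erase] at hχ ⊢
      refine ⟨?_, Finset.mem_univ _⟩
      intro h
      apply hχ.1
      rw [← conjIrr_conjIrr χ, h, conjIrr_one]
    · intro χ _
      exact conjIrr_conjIrr χ
  obtain ⟨k, hk⟩ := h
  exact ⟨k, by rw [hk]; norm_num⟩

theorem parity (hodd : Odd (Nat.card G)) {x y : G → ℂ} (hx : IsGeneralizedCharacter G x)
    (hy : IsGeneralizedCharacter G y) (hxr : conjFun x = x) (hyr : conjFun y = y) :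
    ∃ a b k : ℤ, classInner x (fun _ => 1) = a ∧ classInner y (fun _ => 1) = b ∧
      classInner x y = a * b + 2 * k := by
  classical
  have := finite_irr (G := G)
  have := Fintype.ofFinite (IrrCharacter G)
  obtain ⟨m, hm⟩ := isGeneralizedCharacter_iff.1 hx
  obtain ⟨n, hn⟩ := isGeneralizedCharacter_iff.1 hy
  have hmc : ∀ χ : IrrCharacter G, classInner x (χ : G → ℂ) = m χ := fun χ => by
    rw [hm, classInner_sum_zsmul_irr]
  have hnc : ∀ χ : IrrCharacter G, classInner y (χ : G → ℂ) = n χ := fun χ => by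
    rw [hn, classInner_sum_zsmul_irr]
  have hmi : ∀ χ : IrrCharacter G, m (conjIrr χ) = m χ := fun χ => by
    have h1 := hmc (conjIrr χ)
    rw [conjIrr_coe, ← hxr, classInner_conjFun, hmc χ] at h1
    simpa using h1.symm
  have hni : ∀ χ : IrrCharacter G, n (conjIrr χ) = n χ := fun χ => by
    have h1 := hnc (conjIrr χ)
    rw [conjIrr_coe, ← hyr, classInner_conjFun, hnc χ] at h1
    simpa using h1.symm
  obtain ⟨k, hk⟩ := sum_parity hodd (fun χ => m χ * n χ) (fun χ => by rw [hmi χ, hni χ])
  refine ⟨m (oneIrr G), n (oneIrr G), k, hmc (oneIrr G), hnc (oneIrr G), ?_⟩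
  have h1 : classInner x y = ((∑ χ, m χ * n χ : ℤ) : ℂ) := by
    rw [hn, classInner_sum_right]
    push_cast
    refine Finset.sum_congr rfl fun χ _ => ?_
    rw [classInner_zsmul_right, hmc χ, mul_comm]
  rw [h1, hk]
  push_cast
  ring

/-- Two generalized characters of norm one are orthogonal, equal or opposite. -/
theorem unit_cases {μ ν : G → ℂ} (hμ : IsGeneralizedCharacter G μ) (hν : IsGeneralizedCharacter G ν)
    (hμ1 : classInner μ μ = 1) (hν1 : classInner ν ν = 1) :
    classInner μ ν = 0 ∨ μ = ν ∨ μ = -ν := by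
  rcases isIrr_of_generalized hμ hμ1 with h | h <;> rcases isIrr_of_generalized hν hν1 with h' | h'
  · by_cases he : μ = ν
    · exact Or.inr (Or.inl he)
    · exact Or.inl (classInner_irr_ne h h' he)
  · by_cases he : μ = -ν
    · exact Or.inr (Or.inr he)
    · left
      have := classInner_irr_ne h h' he
      rw [classInner_neg_right] at this
      exact neg_eq_zero.1 this
  · by_cases he : -μ = ν
    · exact Or.inr (Or.inr (by rw [← he, neg_neg]))
    · left
      have := classInner_irr_ne h h' he
      rw [classInner_neg_left] at this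
      exact neg_eq_zero.1 this
  · by_cases he : -μ = -ν
    · exact Or.inr (Or.inl (neg_injective he))
    · left
      have := classInner_irr_ne h h' he
      rw [classInner_neg_left, classInner_neg_right, neg_neg] at this
      exact this

/-- A generalized character of norm one does not equal minus its conjugate. -/
theorem conjFun_ne_neg {μ : G → ℂ} (hμ : IsGeneralizedCharacter G μ) (hμ1 : classInner μ μ = 1) :
    conjFun μ ≠ -μ := by
  intro h
  have h1 : conj (μ 1) = - μ 1 := congrFun h 1
  have h2 : ∃ n : ℤ, μ 1 = n ∧ n ≠ 0 := by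
    rcases isIrr_of_generalized hμ hμ1 with h | h
    · obtain ⟨n, hn, h3⟩ := isIrr_apply_one h
      exact ⟨n, by simpa using h3, by omega⟩
    · obtain ⟨n, hn, h3⟩ := isIrr_apply_one h
      refine ⟨-n, ?_, by omega⟩
      have h4 : - μ 1 = n := h3
      rw [← neg_neg (μ 1), h4]
      simp
  obtain ⟨n, hn, hn0⟩ := h2
  rw [hn, map_intCast] at h1
  have h3 : n = -n := by exact_mod_cast h1
  omega

theorem conjFun_eq_of_sub {μ μ' : G → ℂ} (gμ : IsGeneralizedCharacter G μ)
    (gμ' : IsGeneralizedCharacter G μ') (hμ : classInner μ μ = 1) (hμ' : classInner μ' μ' = 1)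
    (h : classInner μ μ' = 0) (hr : conjFun (μ - μ') = μ' - μ) : conjFun μ = μ' := by
  have h1 : classInner (conjFun μ) (conjFun μ) = 1 := by rw [classInner_conjFun, hμ]; simp
  have h1' : classInner (conjFun μ') (conjFun μ') = 1 := by rw [classInner_conjFun, hμ']; simp
  have h2 : classInner (conjFun μ - conjFun μ') μ' = 1 := by
    rw [← conjFun_sub, hr, classInner_sub_left, hμ', h, sub_zero]
  rw [classInner_sub_left] at h2
  have h3 : classInner (conjFun μ') μ' = 0 ∨ classInner (conjFun μ') μ' = 1 := by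
    rcases unit_cases (gen_conjFun gμ') gμ' h1' hμ' with h3 | h3 | h3
    · exact Or.inl h3
    · right; rw [h3, hμ']
    · exact absurd h3 (conjFun_ne_neg gμ' hμ')
  rcases unit_cases (gen_conjFun gμ) gμ' h1 hμ' with h4 | h4 | h4
  · rw [h4] at h2
    rcases h3 with h3 | h3 <;> rw [h3] at h2 <;> norm_num at h2
  · exact h4
  · rw [h4, classInner_neg_left, hμ'] at h2
    rcases h3 with h3 | h3 <;> rw [h3] at h2 <;> norm_num at h2

theorem inner_eq_zero {μ μ' ν ν' : G → ℂ} (gμ : IsGeneralizedCharacter G μ)
    (gμ' : IsGeneralizedCharacter G μ') (gν : IsGeneralizedCharacter G ν)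
    (gν' : IsGeneralizedCharacter G ν') (hμ : classInner μ μ = 1) (hμ' : classInner μ' μ' = 1)
    (h : classInner μ μ' = 0) (hν : classInner ν ν = 1) (hν' : classInner ν' ν' = 1)
    (h' : classInner ν ν' = 0) (hr : conjFun (μ - μ') = μ' - μ) (hr' : conjFun (ν - ν') = ν' - ν)
    (h0 : classInner (μ - μ') (ν - ν') = 0) : classInner μ ν = 0 := by
  have c := conjFun_eq_of_sub gμ gμ' hμ hμ' h hr
  have c' := conjFun_eq_of_sub gν gν' hν hν' h' hr'
  have hnorm : classInner (ν - ν') (ν - ν') = 2 := by
    rw [classInner_sub_left, classInner_sub_right, classInner_sub_right, hν, hν', h',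
      classInner_comm_eq_zero h']
    norm_num
  rcases unit_cases gμ gν hμ hν with h1 | h1 | h1
  · exact h1
  · exfalso
    have h2 : μ' = ν' := by rw [← c, ← c', h1]
    rw [h1, h2, hnorm] at h0
    norm_num at h0
  · exfalso
    have h2 : μ' = -ν' := by rw [← c, ← c', h1, conjFun_neg]
    have h3 : μ - μ' = -(ν - ν') := by rw [h1, h2]; abel
    rw [h3, classInner_neg_left, hnorm] at h0
    norm_num at h0

end Cfsg.Agent.OddOrderCharacters.OddReal
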