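import Mathlib
import Cfsg.Prelude.Def_Characters
import Cfsg.Prelude.Def_OddOrderChar
import Cfsg.Prelude.Def_OddOrderLocal
import Cfsg.Agent.S0150
set_option linter.all false

/-!
# Self-normalising cyclic subgroups `W = W₁ × W₂`: linear characters, the functions
`(1 - φ)(1 - ψ)`, and the trivial-intersection property

Basic facts used by the statements about the cyclic TI set-up.
-/

set_option autoImplicit false
open Cfsg
open scoped ComplexConjugate

namespace Cfsg.Agent.OddOrderCharacters.CyclicTI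

section hom

variable {W : Type*} [Group W]

theorem norm_hom_apply [Finite W] (f : W →* ℂˣ) (g : W) : ‖(f g : ℂ)‖ = 1 := by
  have hn : 0 < Nat.card W := Nat.card_pos
  have h : ((f g : ℂ)) ^ Nat.card W = 1 := by
    rw [← Units.val_pow_eq_pow_val, ← map_pow, pow_card_eq_one']
    simp
  have h2 : ‖(f g : ℂ)‖ ^ Nat.card W = 1 := by rw [← norm_pow, h, norm_one]
  exact (pow_eq_one_iff_of_nonneg (norm_nonneg _) hn.ne').mp h2

/-- the complex conjugate of the value of a linear character is the value of its inverse -/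
theorem conj_hom_apply [Finite W] (f : W →* ℂˣ) (g : W) : conj (f g : ℂ) = ((f⁻¹) g : ℂ) := by
  have h := norm_hom_apply f g
  rw [MonoidHom.inv_apply, Units.val_inv_eq_inv_val]
  exact (Complex.inv_eq_conj h).symm

/-- Orthogonality of linear characters, as an unnormalised sum. -/
theorem sum_hom_mul_conj [Fintype W] (ω ω' : W →* ℂˣ) [Decidable (ω = ω')] :
    ∑ w : W, (ω w : ℂ) * conj (ω' w : ℂ) = if ω = ω' then (Nat.card W : ℂ) else 0 := by
  classical
  have h1 : ∀ w : W, (ω w : ℂ) * conj (ω' w : ℂ) = ((Units.coeHom ℂ).comp (ω * ω'⁻¹)) w := by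
    intro w
    rw [conj_hom_apply]
    simp
  rw [Finset.sum_congr rfl (fun w _ => h1 w), sum_hom_units]
  have h2 : (Units.coeHom ℂ).comp (ω * ω'⁻¹) = 1 ↔ ω = ω' := by
    rw [← mul_inv_eq_one (a := ω) (b := ω')]
    constructor
    · intro h
      ext w
      have := DFunLike.congr_fun h w
      simpa using this
    · intro h
      rw [h]
      ext w
      simp
  simp only [h2, Nat.card_eq_fintype_card]
  split_ifs <;> simp

/-- Orthogonality of linear characters. -/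
theorem classInner_hom [Fintype W] (ω ω' : W →* ℂˣ) [Decidable (ω = ω')] :
    classInner (fun w => (ω w : ℂ)) (fun w => (ω' w : ℂ)) = if ω = ω' then 1 else 0 := by
  have hW : (Nat.card W : ℂ) ≠ 0 := by exact_mod_cast Nat.card_pos.ne'
  show (Nat.card W : ℂ)⁻¹ * ∑ g : W, (ω g : ℂ) * conj (ω' g : ℂ) = _
  rw [sum_hom_mul_conj]
  split_ifs
  · exact inv_mul_cancel₀ hW
  · exact mul_zero _

/-- Second orthogonality, for a subgroup `X` of the group of linear characters: the sum of the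
values at `a` is the order of `X` if all members of `X` are trivial at `a`, and `0` otherwise. -/
theorem sum_subgroup_hom [Finite W] (X : Subgroup (W →* ℂˣ)) [Fintype X] (a : W)
    [Decidable (∀ f ∈ X, f a = 1)] :
    ∑ f : X, ((f : W →* ℂˣ) a : ℂ) = if (∀ f ∈ X, f a = 1) then (Nat.card X : ℂ) else 0 := by
  classical
  let ev : X →* ℂ :=
    { toFun := fun f => ((f : W →* ℂˣ) a : ℂ)
      map_one' := by simp
      map_mul' := by intro f f'; simp }
  have h := sum_hom_units ev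
  have h2 : ev = 1 ↔ ∀ f ∈ X, f a = 1 := by
    constructor
    · intro he f hf
      have := DFunLike.congr_fun he ⟨f, hf⟩
      exact Units.ext (by simpa [ev] using this)
    · intro he
      ext f
      have := he f f.2
      simp [ev, this]
  simp only [h2] at h
  have h3 : ∑ f : X, ((f : W →* ℂˣ) a : ℂ) = ∑ f : X, ev f := rfl
  rw [h3, h, Nat.card_eq_fintype_card]
  split_ifs <;> simp

end hom

section pair

variable {G : Type*} [Group G]

/-- every element of `W₁ ⊔ W₂` is a product, when the two subgroups commute elementwise -/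
theorem exists_mul_of_mem_sup {W₁ W₂ : Subgroup G} (hcomm : ∀ a ∈ W₁, ∀ b ∈ W₂, a * b = b * a)
    {w : G} (hw : w ∈ W₁ ⊔ W₂) : ∃ a ∈ W₁, ∃ b ∈ W₂, a * b = w := by
  have hle : W₁ ≤ Subgroup.normalizer (W₂ : Set G) := by
    intro a ha
    rw [Subgroup.mem_normalizer_iff]
    intro b
    constructor
    · intro hb
      rw [hcomm a ha b hb]
      simpa using hb
    · intro hb
      have h2 := hcomm a ha _ hb
      have h3 : b = a * b * a⁻¹ := by
        have : a * (a * b * a⁻¹) = a * b * a⁻¹ * a := h2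
        simp only [inv_mul_cancel_right] at this
        exact (mul_left_cancel this).symm
      rwa [h3]
  have h := Subgroup.coe_mul_of_left_le_normalizer_right W₁ W₂ hle
  have hw' : w ∈ ((W₁ ⊔ W₂ : Subgroup G) : Set G) := hw
  rw [h] at hw'
  obtain ⟨a, ha, b, hb, rfl⟩ := Set.mem_mul.mp hw'
  exact ⟨a, ha, b, hb, rfl⟩

/-- A linear character of `W₁ ⊔ W₂` trivial on both factors is trivial. -/
theorem hom_eq_one {W₁ W₂ : Subgroup G} (hcomm : ∀ a ∈ W₁, ∀ b ∈ W₂, a * b = b * a)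
    {M : Type*} [Monoid M] {ω : ↥(W₁ ⊔ W₂) →* M}
    (h₁ : ∀ w : ↥(W₁ ⊔ W₂), (w : G) ∈ W₁ → ω w = 1)
    (h₂ : ∀ w : ↥(W₁ ⊔ W₂), (w : G) ∈ W₂ → ω w = 1) : ω = 1 := by
  ext ⟨w, hw⟩
  obtain ⟨a, ha, b, hb, rfl⟩ := exists_mul_of_mem_sup hcomm hw
  have ha' : a ∈ W₁ ⊔ W₂ := Subgroup.mem_sup_left ha
  have hb' : b ∈ W₁ ⊔ W₂ := Subgroup.mem_sup_right hb
  have : (⟨a * b, hw⟩ : ↥(W₁ ⊔ W₂)) = ⟨a, ha'⟩ * ⟨b, hb'⟩ := rfl
  rw [this, map_mul, h₁ ⟨a, ha'⟩ ha, h₂ ⟨b, hb'⟩ hb, one_mul]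
  rfl

/-- If `φ φ'⁻¹ = ψ' ψ⁻¹`, with `φ, φ'` trivial on `W₂` and `ψ, ψ'` trivial on `W₁`, then
`φ = φ'` and `ψ = ψ'`. -/
theorem mul_eq_mul_iff {W₁ W₂ : Subgroup G} (hcomm : ∀ a ∈ W₁, ∀ b ∈ W₂, a * b = b * a)
    {φ φ' ψ ψ' : ↥(W₁ ⊔ W₂) →* ℂˣ}
    (hφ : ∀ w : ↥(W₁ ⊔ W₂), (w : G) ∈ W₂ → φ w = 1)
    (hφ' : ∀ w : ↥(W₁ ⊔ W₂), (w : G) ∈ W₂ → φ' w = 1)
    (hψ : ∀ w : ↥(W₁ ⊔ W₂), (w : G) ∈ W₁ → ψ w = 1)
    (hψ' : ∀ w : ↥(W₁ ⊔ W₂), (w : G) ∈ W₁ → ψ' w = 1) :
    φ * ψ = φ' * ψ' ↔ φ = φ' ∧ ψ = ψ' := by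
  constructor
  · intro h
    have h1 : φ * φ'⁻¹ = 1 := by
      refine hom_eq_one hcomm ?_ ?_
      · intro w hw
        have := DFunLike.congr_fun h w
        simp only [MonoidHom.mul_apply, hψ w hw, hψ' w hw, mul_one] at this
        simp [this]
      · intro w hw
        simp [hφ w hw, hφ' w hw]
    have h2 : φ = φ' := mul_inv_eq_one.mp h1
    subst h2
    exact ⟨rfl, mul_left_cancel h⟩
  · rintro ⟨rfl, rfl⟩
    rfl

/-- `(1 - φ)(1 - ψ)` vanishes on `W₁ ∪ W₂`. -/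
theorem alpha_eq_zero {W₁ W₂ : Subgroup G} {φ ψ : ↥(W₁ ⊔ W₂) →* ℂˣ}
    (hφ : ∀ w : ↥(W₁ ⊔ W₂), (w : G) ∈ W₂ → φ w = 1)
    (hψ : ∀ w : ↥(W₁ ⊔ W₂), (w : G) ∈ W₁ → ψ w = 1) (w : ↥(W₁ ⊔ W₂))
    (hw : (w : G) ∈ W₁ ∨ (w : G) ∈ W₂) :
    (1 - (φ w : ℂ) - (ψ w : ℂ) + (φ w : ℂ) * (ψ w : ℂ)) = 0 := by
  rcases hw with hw | hw
  · rw [hψ w hw]; simp
  · rw [hφ w hw]; simp

end pair

section ti

variable {G : Type*} [Group G]

/-- `Ŵ = W \ (W₁ ∪ W₂)`; the centraliser of any of its elements is `W`. -/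
theorem centralizer_eq {W₁ W₂ : Subgroup G} (hW : IsSelfNormalizingCyclic W₁ W₂) {w : G}
    (hw : w ∈ W₁ ⊔ W₂) (hw₁ : w ∉ W₁) (hw₂ : w ∉ W₂) :
    Subgroup.centralizer ({w} : Set G) = W₁ ⊔ W₂ := by
  obtain ⟨-, -, -, -, -, hN⟩ := hW
  have h := hN {w} (by
    rintro x hx
    rw [Set.mem_singleton_iff] at hx
    subst hx
    exact ⟨hw, fun h => h.elim hw₁ hw₂⟩) ⟨w, rfl⟩
  rw [← h]
  ext g
  rw [Subgroup.mem_centralizer_singleton_iff]
  change _ ↔ ∀ n, n ∈ ({w} : Set G) ↔ g * n * g⁻¹ ∈ ({w} : Set G)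
  constructor
  · intro hg n
    have hg' : g * w = w * g := hg
    constructor
    · intro hn
      rw [Set.mem_singleton_iff] at hn ⊢
      rw [hn, hg', mul_inv_cancel_right]
    · intro hn
      rw [Set.mem_singleton_iff] at hn ⊢
      have h2 : g * n = w * g := by rw [← hn, inv_mul_cancel_right]
      rw [← hg'] at h2
      exact mul_left_cancel h2
  · intro hg
    have h2 := (hg w).mp rfl
    rw [Set.mem_singleton_iff] at h2
    show g * w = w * g
    rw [← h2]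
    simp [mul_assoc] at h2 ⊢
    exact h2

/-- In a cyclic group a subgroup `H` of finite order is the set of solutions of
`x ^ |H| = 1`. -/
theorem mem_iff_pow_card_eq_one {W : Type*} [Group W] [Finite W] [IsCyclic W] (H : Subgroup W)
    (x : W) : x ∈ H ↔ x ^ Nat.card H = 1 := by
  classical
  have := Fintype.ofFinite W
  constructor
  · intro hx
    exact congrArg (Subtype.val : H → W) (pow_card_eq_one' (x := (⟨x, hx⟩ : H)))
  · intro hx
    have hc := IsCyclic.card_pow_eq_one_le (α := W) (n := Nat.card H) Nat.card_pos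
    have hsub : (Finset.univ.filter (fun y : W => y ∈ H)) ⊆
        Finset.univ.filter (fun y : W => y ^ Nat.card H = 1) := by
      intro y hy
      rw [Finset.mem_filter] at hy ⊢
      exact ⟨hy.1, congrArg (Subtype.val : H → W) (pow_card_eq_one' (x := (⟨y, hy.2⟩ : H)))⟩
    have hcard : (Finset.univ.filter (fun y : W => y ∈ H)).card = Nat.card H := by
      rw [Nat.card_eq_fintype_card, Fintype.card_subtype]
    have heq := Finset.eq_of_subset_of_card_le hsub (by rw [hcard]; exact hc)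
    have hx' : x ∈ Finset.univ.filter (fun y : W => y ^ Nat.card H = 1) := by
      rw [Finset.mem_filter]; exact ⟨Finset.mem_univ _, hx⟩
    rw [← heq, Finset.mem_filter] at hx'
    exact hx'.2

theorem mem_iff_pow_card_eq_one' [Finite G] {W H : Subgroup G} (hc : IsCyclic W) (hH : H ≤ W)
    {x : G} (hx : x ∈ W) : x ∈ H ↔ x ^ Nat.card H = 1 := by
  have h := mem_iff_pow_card_eq_one (W := W) (H.subgroupOf W) ⟨x, hx⟩
  have hcard : Nat.card (H.subgroupOf W) = Nat.card H :=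
    Nat.card_congr (Subgroup.subgroupOfEquivOfLe hH).toEquiv
  rw [hcard, Subgroup.mem_subgroupOf] at h
  rw [show (((⟨x, hx⟩ : W) : G) = x) from rfl] at h
  rw [h]
  constructor
  · intro h2
    have := congrArg (Subtype.val : W → G) h2
    simpa using this
  · intro h2
    exact Subtype.ext (by simpa using h2)

/-- The trivial-intersection property of `Ŵ = W \ (W₁ ∪ W₂)`. -/
theorem mem_of_conj_mem [Finite G] {W₁ W₂ : Subgroup G} (hW : IsSelfNormalizingCyclic W₁ W₂)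
    {g w : G} (hw : w ∈ W₁ ⊔ W₂) (hw₁ : w ∉ W₁) (hw₂ : w ∉ W₂)
    (hg : g * w * g⁻¹ ∈ W₁ ⊔ W₂) (hg₁ : g * w * g⁻¹ ∉ W₁) (hg₂ : g * w * g⁻¹ ∉ W₂) :
    g ∈ W₁ ⊔ W₂ := by
  have hc1 := centralizer_eq hW hw hw₁ hw₂
  have hc2 := centralizer_eq hW hg hg₁ hg₂
  have hconj : ∀ x, x ∈ W₁ ⊔ W₂ ↔ g * x * g⁻¹ ∈ W₁ ⊔ W₂ := by
    intro x
    constructor
    · intro hx
      rw [← hc1, Subgroup.mem_centralizer_singleton_iff] at hx
      rw [← hc2, Subgroup.mem_centralizer_singleton_iff]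
      have hx' : x * w = w * x := hx
      show g * x * g⁻¹ * (g * w * g⁻¹) = g * w * g⁻¹ * (g * x * g⁻¹)
      calc g * x * g⁻¹ * (g * w * g⁻¹) = g * (x * w) * g⁻¹ := by group
        _ = g * (w * x) * g⁻¹ := by rw [hx']
        _ = _ := by group
    · intro hx
      rw [← hc2, Subgroup.mem_centralizer_singleton_iff] at hx
      rw [← hc1, Subgroup.mem_centralizer_singleton_iff]
      have hx' : g * x * g⁻¹ * (g * w * g⁻¹) = g * w * g⁻¹ * (g * x * g⁻¹) := hx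
      show x * w = w * x
      calc x * w = g⁻¹ * (g * x * g⁻¹ * (g * w * g⁻¹)) * g := by group
        _ = g⁻¹ * (g * w * g⁻¹ * (g * x * g⁻¹)) * g := by rw [hx']
        _ = _ := by group
  have hcyc : IsCyclic ↥(W₁ ⊔ W₂) := hW.2.2.2.2.1
  have hpow : ∀ (x : G) (n : ℕ), (g * x * g⁻¹) ^ n = 1 ↔ x ^ n = 1 := by
    intro x n
    rw [conj_pow]
    constructor
    · intro h
      have : x ^ n = g⁻¹ * (g * x ^ n * g⁻¹) * g := by group
      rw [this, h]; group
    · intro h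
      rw [h]; group
  have hH : ∀ H : Subgroup G, H ≤ W₁ ⊔ W₂ → ∀ x ∈ W₁ ⊔ W₂, (x ∈ H ↔ g * x * g⁻¹ ∈ H) := by
    intro H hle x hx
    rw [mem_iff_pow_card_eq_one' hcyc hle hx,
      mem_iff_pow_card_eq_one' hcyc hle ((hconj x).mp hx), hpow]
  have hN := hW.2.2.2.2.2 ((↑(W₁ ⊔ W₂) : Set G) \ (↑W₁ ∪ ↑W₂)) (le_refl _)
    ⟨w, hw, fun h => h.elim hw₁ hw₂⟩
  rw [← hN]
  change ∀ x, x ∈ ((↑(W₁ ⊔ W₂) : Set G) \ (↑W₁ ∪ ↑W₂)) ↔
    g * x * g⁻¹ ∈ ((↑(W₁ ⊔ W₂) : Set G) \ (↑W₁ ∪ ↑W₂))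
  intro x
  constructor
  · rintro ⟨hx, hx'⟩
    refine ⟨(hconj x).mp hx, fun h => hx' ?_⟩
    rcases h with h | h
    · exact Or.inl ((hH W₁ le_sup_left x hx).mpr h)
    · exact Or.inr ((hH W₂ le_sup_right x hx).mpr h)
  · rintro ⟨hx, hx'⟩
    have hxW : x ∈ W₁ ⊔ W₂ := (hconj x).mpr hx
    refine ⟨hxW, fun h => hx' ?_⟩
    rcases h with h | h
    · exact Or.inl ((hH W₁ le_sup_left x hxW).mp h)
    · exact Or.inr ((hH W₂ le_sup_right x hxW).mp h)

end ti

end Cfsg.Agent.OddOrderCharacters.CyclicTI
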