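import Mathlib
import Cfsg.Prelude.Def_Characters
import Cfsg.Prelude.Def_OddOrderChar
import Cfsg.Prelude.Def_OddOrderLocal
set_option linter.all false

/-!
Coefficients `⟨θ, χ ω⟩` of a class function `θ` that vanishes on `W` outside `W₁ ∪ W₂`, for a family
`χ` with `Cfsg.IsCyclicTIFamily W₁ W₂ χ`: the rectangle rule in the form
`a (φ ψ) + a 1 = a φ + a ψ`.
-/

set_option autoImplicit false

namespace Cfsg.Agent.OddOrderCharacters.CyclicTICoeff

open Cfsg
open scoped ComplexConjugate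

universe u

/-- Frobenius reciprocity for `indFun` against a class function on the left. -/
theorem classInner_indFun {G : Type u} [Group G] [Fintype G] (H : Subgroup G) (θ : G → ℂ)
    (hθ : IsClassFunction G θ) (α : H → ℂ) :
    classInner θ (indFun H α) =
      (Nat.card H : ℂ)⁻¹ * ∑ g : G, θ g * conj (extendByZero H α g) := by
  classical
  have hG : (Nat.card G : ℂ) ≠ 0 := by
    exact_mod_cast Nat.card_pos.ne'
  unfold classInner indFun
  have h1 : ∀ g : G, θ g * conj ((Nat.card H : ℂ)⁻¹ * ∑ x : G, extendByZero H α (x⁻¹ * g * x)) =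
      (Nat.card H : ℂ)⁻¹ * ∑ x : G, θ g * conj (extendByZero H α (x⁻¹ * g * x)) := by
    intro g
    rw [map_mul, map_sum, ← Finset.mul_sum, map_inv₀, map_natCast]
    ring
  rw [Finset.sum_congr rfl fun g _ => h1 g, ← Finset.mul_sum, Finset.sum_comm]
  have h2 : ∀ x : G, ∑ g : G, θ g * conj (extendByZero H α (x⁻¹ * g * x)) =
      ∑ g : G, θ g * conj (extendByZero H α g) := by
    intro x
    refine Fintype.sum_equiv (MulAut.conj x⁻¹).toEquiv _ _ fun g => ?_
    have : (MulAut.conj x⁻¹).toEquiv g = x⁻¹ * g * x := by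
      simp
    rw [this]
    have h3 : θ (x⁻¹ * g * x) = θ g := by
      have := hθ g x⁻¹
      rwa [inv_inv] at this
    rw [h3]
  rw [Finset.sum_congr rfl fun x _ => h2 x, Finset.sum_const, Finset.card_univ,
    ← Nat.card_eq_fintype_card, nsmul_eq_mul]
  field_simp

/-- If `θ` is a class function and `θ w * conj (α w) = 0` for every `w ∈ H`, then `θ` is orthogonal to the
function induced from `α`. -/
theorem classInner_indFun_eq_zero {G : Type u} [Group G] [Fintype G] (H : Subgroup G) (θ : G → ℂ)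
    (hθ : IsClassFunction G θ) (α : H → ℂ) (h : ∀ w : H, θ w = 0 ∨ α w = 0) :
    classInner θ (indFun H α) = 0 := by
  rw [classInner_indFun H θ hθ α]
  rw [Finset.sum_eq_zero, mul_zero]
  intro g _
  by_cases hg : g ∈ H
  · have he : extendByZero H α g = α ⟨g, hg⟩ := by
      unfold extendByZero
      exact Subtype.val_injective.extend_apply α 0 ⟨g, hg⟩
    rw [he]
    rcases h ⟨g, hg⟩ with h' | h'
    · change θ g = 0 at h'
      rw [h', zero_mul]
    · rw [h', map_zero, mul_zero]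
  · have he : extendByZero H α g = 0 := by
      unfold extendByZero
      rw [Function.extend_apply']
      · rfl
      · rintro ⟨a, rfl⟩
        exact hg a.2
    rw [he, map_zero, mul_zero]

/-- The basic relation between the coefficients. -/
theorem coeff_mul {G : Type u} [Group G] [Fintype G] (W₁ W₂ : Subgroup G)
    (χ : (↥(W₁ ⊔ W₂) →* ℂˣ) → (G → ℂ)) (hχ : IsCyclicTIFamily W₁ W₂ χ) (θ : G → ℂ)
    (hθ : IsClassFunction G θ)
    (hθV : ∀ w : ↥(W₁ ⊔ W₂), (w : G) ∉ W₁ → (w : G) ∉ W₂ → θ w = 0)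
    (φ ψ : ↥(W₁ ⊔ W₂) →* ℂˣ) (hφ : ∀ w : ↥(W₁ ⊔ W₂), (w : G) ∈ W₂ → φ w = 1)
    (hψ : ∀ w : ↥(W₁ ⊔ W₂), (w : G) ∈ W₁ → ψ w = 1) :
    classInner θ (χ (φ * ψ)) + classInner θ (χ 1) =
      classInner θ (χ φ) + classInner θ (χ ψ) := by
  classical
  by_cases hφ1 : φ = 1
  · subst hφ1
    have h1 : (1 : ↥(W₁ ⊔ W₂) →* ℂˣ) * ψ = ψ := by
      apply MonoidHom.ext
      intro w
      change (1 : ↥(W₁ ⊔ W₂) →* ℂˣ) w * ψ w = ψ w
      rw [MonoidHom.one_apply, one_mul]
    rw [h1, add_comm]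
  by_cases hψ1 : ψ = 1
  · subst hψ1
    have h1 : φ * (1 : ↥(W₁ ⊔ W₂) →* ℂˣ) = φ := by
      apply MonoidHom.ext
      intro w
      change φ w * (1 : ↥(W₁ ⊔ W₂) →* ℂˣ) w = φ w
      rw [MonoidHom.one_apply, mul_one]
    rw [h1]
  have h0 := classInner_indFun_eq_zero (W₁ ⊔ W₂) θ hθ
    (fun w => 1 - (φ w : ℂ) - (ψ w : ℂ) + (φ w : ℂ) * (ψ w : ℂ)) (fun w => by
      by_cases h1 : (w : G) ∈ W₁
      · right
        simp [hψ w h1]
      · by_cases h2 : (w : G) ∈ W₂
        · right
          simp [hφ w h2]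
        · left
          exact hθV w h1 h2)
  rw [hχ.induced_eq φ ψ hφ1 hψ1 hφ hψ] at h0
  have hχ1 := hχ.map_one
  have key : classInner θ (fun g => 1 - χ φ g - χ ψ g + χ (φ * ψ) g) =
      classInner θ (χ 1) - classInner θ (χ φ) - classInner θ (χ ψ) + classInner θ (χ (φ * ψ)) := by
    rw [hχ1]
    unfold classInner
    rw [← mul_sub, ← mul_sub, ← mul_add, ← Finset.sum_sub_distrib, ← Finset.sum_sub_distrib,
      ← Finset.sum_add_distrib]
    congr 1
    refine Finset.sum_congr rfl fun g _ => ?_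
    simp only [map_add, map_sub, map_one]
    ring
  rw [key] at h0
  linear_combination h0

end Cfsg.Agent.OddOrderCharacters.CyclicTICoeff
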