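import Mathlib
import Cfsg.Agent.OddOrderCharacters.PFDefs
import Cfsg.Agent.OddOrderCharacters.CyclicTI
import Cfsg.Agent.OddOrderCharacters.CyclicTIAlpha
import Cfsg.Agent.OddOrderCharacters.CyclicTIChars
import Cfsg.Agent.OddOrderLocal.TICount
set_option linter.all false

/-!
# Peterfalvi §3, basic facts on the cyclic TI set-up `W = W₁ × W₂`

Orders, the set `V = cycTIset W W₁ W₂`, its class support, and the linear characters of `W`
(`lin₁ W W₂` : those trivial on `W₂`).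
-/

set_option autoImplicit false

open scoped ComplexConjugate
open Cfsg

namespace Cfsg.Agent.OddOrderCharacters.PF3bBasic

open Cfsg.Agent.OddOrderCharacters.PFDefs

universe u

variable {G : Type u} [Group G] {W W₁ W₂ : Subgroup G}

theorem selfNormalizing_symm (h : IsSelfNormalizingCyclic W₁ W₂) :
    IsSelfNormalizingCyclic W₂ W₁ := by
  obtain ⟨h1, h2, h3, h4, h5, h6⟩ := h
  refine ⟨h2, h1, by rw [inf_comm]; exact h3, fun a ha b hb => (h4 b hb a ha).symm,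
    by rw [sup_comm]; exact h5, ?_⟩
  intro X hX hne
  rw [sup_comm]
  refine h6 X ?_ hne
  rw [sup_comm, Set.union_comm]
  exact hX

theorem hyp_symm (h : CyclicTIHyp W W₁ W₂) : CyclicTIHyp W W₂ W₁ :=
  ⟨by rw [sup_comm]; exact h.sup_eq, h.odd, selfNormalizing_symm h.selfNormalizing⟩

theorem le₁ (h : CyclicTIHyp W W₁ W₂) : W₁ ≤ W := h.sup_eq ▸ le_sup_left

theorem le₂ (h : CyclicTIHyp W W₁ W₂) : W₂ ≤ W := h.sup_eq ▸ le_sup_right

theorem cyclic (h : CyclicTIHyp W W₁ W₂) : IsCyclic W := by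
  have := h.selfNormalizing.2.2.2.2.1
  rw [h.sup_eq] at this
  exact this

theorem comm (h : CyclicTIHyp W W₁ W₂) {a b : G} (ha : a ∈ W) (hb : b ∈ W) : a * b = b * a := by
  have hc := cyclic h
  let := IsCyclic.commGroup (α := W)
  have := mul_comm (⟨a, ha⟩ : W) ⟨b, hb⟩
  exact congrArg Subtype.val this

theorem comm' (h : CyclicTIHyp W W₁ W₂) (a b : W) : a * b = b * a :=
  Subtype.ext (comm h a.2 b.2)

theorem inf_eq (h : CyclicTIHyp W W₁ W₂) : W₁ ⊓ W₂ = ⊥ := h.selfNormalizing.2.2.1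

theorem ne₁ (h : CyclicTIHyp W W₁ W₂) : W₁ ≠ ⊥ := h.selfNormalizing.1

theorem ne₂ (h : CyclicTIHyp W W₁ W₂) : W₂ ≠ ⊥ := h.selfNormalizing.2.1

theorem eq_one_of_mem (h : CyclicTIHyp W W₁ W₂) {x : G} (h1 : x ∈ W₁) (h2 : x ∈ W₂) : x = 1 := by
  have : x ∈ W₁ ⊓ W₂ := ⟨h1, h2⟩
  rw [inf_eq h, Subgroup.mem_bot] at this
  exact this

/-- Every element of `W` is a product. -/
theorem exists_mul (h : CyclicTIHyp W W₁ W₂) {w : G} (hw : w ∈ W) :
    ∃ a ∈ W₁, ∃ b ∈ W₂, a * b = w := by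
  rw [← h.sup_eq] at hw
  exact CyclicTI.exists_mul_of_mem_sup h.selfNormalizing.2.2.2.1 hw

theorem card_eq (h : CyclicTIHyp W W₁ W₂) : Nat.card W = Nat.card W₁ * Nat.card W₂ := by
  have e := CyclicTIChars.prodEquiv W₁ W₂ (inf_eq h) h.selfNormalizing.2.2.2.1
  have := Nat.card_congr e.toEquiv
  rw [Nat.card_prod, h.sup_eq] at this
  exact this.symm

theorem odd₁ (h : CyclicTIHyp W W₁ W₂) : Odd (Nat.card W₁) :=
  h.odd.of_dvd_nat (Subgroup.card_dvd_of_le (le₁ h))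

theorem odd₂ (h : CyclicTIHyp W W₁ W₂) : Odd (Nat.card W₂) :=
  h.odd.of_dvd_nat (Subgroup.card_dvd_of_le (le₂ h))

section fin

variable [Finite G]

theorem three_le₁ (h : CyclicTIHyp W W₁ W₂) : 3 ≤ Nat.card W₁ := by
  have h1 : Nat.card W₁ ≠ 1 := fun h0 => ne₁ h (Subgroup.card_eq_one.mp h0)
  have h2 : 0 < Nat.card W₁ := Nat.card_pos
  obtain ⟨k, hk⟩ := odd₁ h
  omega

theorem three_le₂ (h : CyclicTIHyp W W₁ W₂) : 3 ≤ Nat.card W₂ :=
  three_le₁ (hyp_symm h)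

/-- The orders of `W₁` and `W₂` are coprime. -/
theorem coprime (h : CyclicTIHyp W W₁ W₂) : Nat.Coprime (Nat.card W₁) (Nat.card W₂) := by
  classical
  have hc := cyclic h
  have hcard := card_eq h
  -- the exponent of `W` divides the lcm of the orders
  obtain ⟨g, hg⟩ := hc.exists_generator
  have h1 : orderOf g = Nat.card W := orderOf_eq_card_of_forall_mem_zpowers hg
  obtain ⟨a, ha, b, hb, hab⟩ := exists_mul h g.2
  have h2 : g ^ (Nat.lcm (Nat.card W₁) (Nat.card W₂)) = 1 := by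
    apply Subtype.ext
    have hcomm : Commute a b := comm h (le₁ h ha) (le₂ h hb)
    have ha1 : a ^ Nat.card W₁ = 1 := by
      have := pow_card_eq_one' (x := (⟨a, ha⟩ : W₁))
      exact congrArg Subtype.val this
    have hb1 : b ^ Nat.card W₂ = 1 := by
      have := pow_card_eq_one' (x := (⟨b, hb⟩ : W₂))
      exact congrArg Subtype.val this
    rw [Subgroup.coe_pow, ← hab, hcomm.mul_pow]
    obtain ⟨c, hc⟩ := Nat.dvd_lcm_left (Nat.card W₁) (Nat.card W₂)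
    obtain ⟨d, hd⟩ := Nat.dvd_lcm_right (Nat.card W₁) (Nat.card W₂)
    conv_lhs => rw [show a ^ (Nat.card W₁).lcm (Nat.card W₂) = (a ^ Nat.card W₁) ^ c by
      rw [← pow_mul, ← hc], show b ^ (Nat.card W₁).lcm (Nat.card W₂) = (b ^ Nat.card W₂) ^ d by
      rw [← pow_mul, ← hd]]
    rw [ha1, hb1]
    simp
  have h3 := orderOf_dvd_of_pow_eq_one h2
  rw [h1, hcard] at h3
  have h4 : Nat.gcd (Nat.card W₁) (Nat.card W₂) * Nat.lcm (Nat.card W₁) (Nat.card W₂) =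
      Nat.card W₁ * Nat.card W₂ := Nat.gcd_mul_lcm _ _
  have h5 : 0 < Nat.card W₁ := Nat.card_pos
  have h6 : 0 < Nat.card W₂ := Nat.card_pos
  have h7 : 0 < Nat.lcm (Nat.card W₁) (Nat.card W₂) := Nat.lcm_pos h5 h6
  have h8 := Nat.le_of_dvd h7 h3
  have h9 : 0 < Nat.gcd (Nat.card W₁) (Nat.card W₂) := Nat.gcd_pos_of_pos_left _ h5
  by_contra hne
  have h10 : 2 ≤ Nat.gcd (Nat.card W₁) (Nat.card W₂) := by
    have : Nat.gcd (Nat.card W₁) (Nat.card W₂) ≠ 1 := hne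
    omega
  nlinarith

theorem card_ne (h : CyclicTIHyp W W₁ W₂) : Nat.card W₁ ≠ Nat.card W₂ := by
  intro heq
  have h1 := coprime h
  rw [heq, Nat.coprime_self] at h1
  have := three_le₂ h
  omega

end fin

/-! ### The set `V` -/

theorem mem_cycTIset {x : G} : x ∈ cycTIset W W₁ W₂ ↔ x ∈ W ∧ x ∉ W₁ ∧ x ∉ W₂ := by
  constructor
  · rintro ⟨h1, h2⟩
    exact ⟨h1, fun h => h2 (Or.inl h), fun h => h2 (Or.inr h)⟩
  · rintro ⟨h1, h2, h3⟩
    exact ⟨h1, fun h => h.elim h2 h3⟩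

theorem cycTIset_symm : cycTIset W W₁ W₂ = cycTIset W W₂ W₁ := by
  ext x
  rw [mem_cycTIset, mem_cycTIset]
  tauto

theorem mem_classSupport {V : Set G} {M : Subgroup G} {g : G} :
    g ∈ classSupport V M ↔ ∃ m ∈ M, ∃ v ∈ V, g = m * v * m⁻¹ := Iff.rfl

theorem subset_classSupport (V : Set G) (M : Subgroup G) : V ⊆ classSupport V M :=
  fun v hv => ⟨1, M.one_mem, v, hv, by simp⟩

theorem classSupport_mono {V V' : Set G} {M M' : Subgroup G} (hV : V ⊆ V') (hM : M ≤ M') :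
    classSupport V M ⊆ classSupport V' M' := by
  rintro g ⟨m, hm, v, hv, rfl⟩
  exact ⟨m, hM hm, v, hV hv, rfl⟩

theorem conj_mem_classSupport {V : Set G} {M : Subgroup G} {g m : G} (hm : m ∈ M)
    (hg : g ∈ classSupport V M) : m * g * m⁻¹ ∈ classSupport V M := by
  obtain ⟨n, hn, v, hv, rfl⟩ := hg
  exact ⟨m * n, M.mul_mem hm hn, v, hv, by group⟩

theorem conj_mem_classSupport_iff {V : Set G} {M : Subgroup G} {g m : G} (hm : m ∈ M) :
    m * g * m⁻¹ ∈ classSupport V M ↔ g ∈ classSupport V M := by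
  refine ⟨fun h => ?_, conj_mem_classSupport hm⟩
  have := conj_mem_classSupport (M.inv_mem hm) h
  have e : m⁻¹ * (m * g * m⁻¹) * m⁻¹⁻¹ = g := by group
  rwa [e] at this

theorem classSupport_subset {V : Set G} {M N : Subgroup G} (hV : V ⊆ (N : Set G)) (hM : M ≤ N) :
    classSupport V M ⊆ (N : Set G) := by
  rintro g ⟨m, hm, v, hv, rfl⟩
  exact N.mul_mem (N.mul_mem (hM hm) (hV hv)) (N.inv_mem (hM hm))

theorem one_notMem_cycTIset : (1 : G) ∉ cycTIset W W₁ W₂ := by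
  intro h
  exact (mem_cycTIset.mp h).2.1 W₁.one_mem

theorem one_notMem_classSupport {V : Set G} (hV : (1 : G) ∉ V) (M : Subgroup G) :
    (1 : G) ∉ classSupport V M := by
  rintro ⟨m, -, v, hv, h⟩
  apply hV
  have h1 : m⁻¹ * 1 * m = m⁻¹ * (m * v * m⁻¹) * m := by rw [← h]
  have h2 : m⁻¹ * 1 * m = 1 := by group
  have h3 : m⁻¹ * (m * v * m⁻¹) * m = v := by group
  rw [h2, h3] at h1
  rw [h1]
  exact hv

theorem cycTIset_subset : cycTIset W W₁ W₂ ⊆ (W : Set G) := fun _ h => h.1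

/-- A product of non-identity elements of the factors lies in `V`. -/
theorem mul_mem_cycTIset (h : CyclicTIHyp W W₁ W₂) {a b : G} (ha : a ∈ W₁) (hb : b ∈ W₂)
    (ha1 : a ≠ 1) (hb1 : b ≠ 1) : a * b ∈ cycTIset W W₁ W₂ := by
  rw [mem_cycTIset]
  refine ⟨W.mul_mem (le₁ h ha) (le₂ h hb), ?_, ?_⟩
  · intro hab
    have hb' : b ∈ W₁ := by
      have := W₁.mul_mem (W₁.inv_mem ha) hab
      rwa [inv_mul_cancel_left] at this
    exact hb1 (eq_one_of_mem h hb' hb)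
  · intro hab
    have ha' : a ∈ W₂ := by
      have := W₂.mul_mem hab (W₂.inv_mem hb)
      rwa [mul_inv_cancel_right] at this
    exact ha1 (eq_one_of_mem h ha ha')

theorem mul_mem_cycTIset_iff (h : CyclicTIHyp W W₁ W₂) {a b : G} (ha : a ∈ W₁) (hb : b ∈ W₂) :
    a * b ∈ cycTIset W W₁ W₂ ↔ a ≠ 1 ∧ b ≠ 1 := by
  constructor
  · intro hab
    rw [mem_cycTIset] at hab
    constructor
    · rintro rfl
      rw [one_mul] at hab
      exact hab.2.2 hb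
    · rintro rfl
      rw [mul_one] at hab
      exact hab.2.1 ha
  · rintro ⟨h1, h2⟩
    exact mul_mem_cycTIset h ha hb h1 h2

theorem cycTIset_nonempty (h : CyclicTIHyp W W₁ W₂) : (cycTIset W W₁ W₂).Nonempty := by
  obtain ⟨a, ha, ha1⟩ := (Subgroup.bot_or_exists_ne_one W₁).resolve_left (ne₁ h)
  obtain ⟨b, hb, hb1⟩ := (Subgroup.bot_or_exists_ne_one W₂).resolve_left (ne₂ h)
  exact ⟨a * b, mul_mem_cycTIset h ha hb ha1 hb1⟩

/-- `V` is the set of products `a b` with `1 ≠ a ∈ W₁`, `1 ≠ b ∈ W₂`. -/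
theorem mem_cycTIset_iff_exists (h : CyclicTIHyp W W₁ W₂) {x : G} :
    x ∈ cycTIset W W₁ W₂ ↔ ∃ a ∈ W₁, a ≠ 1 ∧ ∃ b ∈ W₂, b ≠ 1 ∧ x = a * b := by
  constructor
  · intro hx
    obtain ⟨a, ha, b, hb, rfl⟩ := exists_mul h (mem_cycTIset.mp hx).1
    obtain ⟨h1, h2⟩ := (mul_mem_cycTIset_iff h ha hb).mp hx
    exact ⟨a, ha, h1, b, hb, h2, rfl⟩
  · rintro ⟨a, ha, ha1, b, hb, hb1, rfl⟩
    exact mul_mem_cycTIset h ha hb ha1 hb1

theorem ncard_cycTIset [Finite G] (h : CyclicTIHyp W W₁ W₂) :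
    (cycTIset W W₁ W₂).ncard = (Nat.card W₁ - 1) * (Nat.card W₂ - 1) := by
  classical
  have hinj : Set.InjOn (fun p : G × G => p.1 * p.2) ((W₁ : Set G) ×ˢ (W₂ : Set G)) := by
    rintro ⟨a, b⟩ ⟨ha, hb⟩ ⟨c, d⟩ ⟨hc, hd⟩ hab
    have ha' : a ∈ W₁ := ha
    have hb' : b ∈ W₂ := hb
    have hc' : c ∈ W₁ := hc
    have hd' : d ∈ W₂ := hd
    have hab' : a * b = c * d := hab
    have h1 : c⁻¹ * a = d * b⁻¹ := by
      have : a = c * d * b⁻¹ := by rw [← hab']; group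
      rw [this]; group
    have h2 : c⁻¹ * a = 1 := eq_one_of_mem h (W₁.mul_mem (W₁.inv_mem hc') ha')
      (h1 ▸ W₂.mul_mem hd' (W₂.inv_mem hb'))
    have h3 : a = c := by
      have := congrArg (fun x => c * x) h2
      simpa using this
    subst h3
    have h4 : b = d := mul_left_cancel hab'
    rw [h4]
  have himg : cycTIset W W₁ W₂ =
      (fun p : G × G => p.1 * p.2) '' (((W₁ : Set G) \ {1}) ×ˢ ((W₂ : Set G) \ {1})) := by
    ext x
    rw [mem_cycTIset_iff_exists h, Set.mem_image]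
    constructor
    · rintro ⟨a, ha, ha1, b, hb, hb1, rfl⟩
      exact ⟨(a, b), ⟨⟨ha, ha1⟩, ⟨hb, hb1⟩⟩, rfl⟩
    · rintro ⟨⟨a, b⟩, ⟨⟨ha, ha1⟩, ⟨hb, hb1⟩⟩, rfl⟩
      exact ⟨a, ha, ha1, b, hb, hb1, rfl⟩
  rw [himg, (hinj.mono
    (Set.prod_mono Set.sdiff_subset Set.sdiff_subset)).ncard_image, Set.ncard_prod]
  rw [Set.ncard_sdiff_singleton_of_mem (show (1 : G) ∈ (W₁ : Set G) from W₁.one_mem),
    Set.ncard_sdiff_singleton_of_mem (show (1 : G) ∈ (W₂ : Set G) from W₂.one_mem)]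
  rfl

/-- The centraliser of an element of `V` is `W`. -/
theorem centralizer_eq (h : CyclicTIHyp W W₁ W₂) {v : G} (hv : v ∈ cycTIset W W₁ W₂) :
    Subgroup.centralizer ({v} : Set G) = W := by
  obtain ⟨h1, h2, h3⟩ := mem_cycTIset.mp hv
  have := CyclicTI.centralizer_eq h.selfNormalizing (h.sup_eq.symm ▸ h1) h2 h3
  rw [this, h.sup_eq]

/-- `V` is a trivial-intersection subset. -/
theorem mem_of_conj_mem [Finite G] (h : CyclicTIHyp W W₁ W₂) {g v : G}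
    (hv : v ∈ cycTIset W W₁ W₂) (hg : g * v * g⁻¹ ∈ cycTIset W W₁ W₂) : g ∈ W := by
  obtain ⟨h1, h2, h3⟩ := mem_cycTIset.mp hv
  obtain ⟨g1, g2, g3⟩ := mem_cycTIset.mp hg
  have := CyclicTI.mem_of_conj_mem h.selfNormalizing (h.sup_eq.symm ▸ h1) h2 h3
    (h.sup_eq.symm ▸ g1) g2 g3
  rwa [h.sup_eq] at this

theorem conj_eq_of_mem (h : CyclicTIHyp W W₁ W₂) {g w : G} (hg : g ∈ W) (hw : w ∈ W) :
    g * w * g⁻¹ = w := by
  rw [comm h hg hw, mul_inv_cancel_right]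

/-- Two elements of `V` conjugate in `G` are equal. -/
theorem eq_of_conj_mem [Finite G] (h : CyclicTIHyp W W₁ W₂) {g v : G}
    (hv : v ∈ cycTIset W W₁ W₂) (hg : g * v * g⁻¹ ∈ cycTIset W W₁ W₂) : g * v * g⁻¹ = v :=
  conj_eq_of_mem h (mem_of_conj_mem h hv hg) hv.1

theorem normalizer_cycTIset (h : CyclicTIHyp W W₁ W₂) :
    Subgroup.normalizer (cycTIset W W₁ W₂) = W := by
  have := h.selfNormalizing.2.2.2.2.2 (cycTIset W W₁ W₂) (by
    rw [h.sup_eq]; exact le_refl _) (cycTIset_nonempty h)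
  rw [this, h.sup_eq]

theorem isTISubset_cycTIset [Finite G] (h : CyclicTIHyp W W₁ W₂) :
    IsTISubset (cycTIset W W₁ W₂) := by
  intro g hg x hx hgx
  exfalso
  apply hg
  rw [normalizer_cycTIset h]
  exact mem_of_conj_mem h hx hgx

/-- An element of `V` has no conjugate in `W₁`. -/
theorem conj_notMem₁ [Finite G] (h : CyclicTIHyp W W₁ W₂) {v : G} (hv : v ∈ cycTIset W W₁ W₂)
    (g : G) : g * v * g⁻¹ ∉ W₁ := by
  intro hg
  obtain ⟨h1, h2, -⟩ := mem_cycTIset.mp hv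
  apply h2
  rw [CyclicTI.mem_iff_pow_card_eq_one' (cyclic h) (le₁ h) h1]
  rw [CyclicTI.mem_iff_pow_card_eq_one' (cyclic h) (le₁ h) (le₁ h hg), conj_pow] at hg
  have : v ^ Nat.card W₁ = g⁻¹ * (g * v ^ Nat.card W₁ * g⁻¹) * g := by group
  rw [this, hg]
  group

theorem conj_notMem₂ [Finite G] (h : CyclicTIHyp W W₁ W₂) {v : G} (hv : v ∈ cycTIset W W₁ W₂)
    (g : G) : g * v * g⁻¹ ∉ W₂ := by
  rw [cycTIset_symm] at hv
  exact conj_notMem₁ (hyp_symm h) hv g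

theorem notMem_classSupport₁ [Finite G] (h : CyclicTIHyp W W₁ W₂) (M : Subgroup G) {x : G}
    (hx : x ∈ W₁) : x ∉ classSupport (cycTIset W W₁ W₂) M := by
  rintro ⟨m, -, v, hv, rfl⟩
  exact conj_notMem₁ h hv m hx

theorem notMem_classSupport₂ [Finite G] (h : CyclicTIHyp W W₁ W₂) (M : Subgroup G) {x : G}
    (hx : x ∈ W₂) : x ∉ classSupport (cycTIset W W₁ W₂) M := by
  rintro ⟨m, -, v, hv, rfl⟩
  exact conj_notMem₂ h hv m hx

/-- Elements of `W` in the class support of `V` lie in `V`. -/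
theorem mem_classSupport_iff_of_mem [Finite G] (h : CyclicTIHyp W W₁ W₂) (M : Subgroup G) {x : G}
    (hx : x ∈ W) : x ∈ classSupport (cycTIset W W₁ W₂) M ↔ x ∈ cycTIset W W₁ W₂ := by
  constructor
  · intro hx'
    rw [mem_cycTIset]
    exact ⟨hx, fun h1 => notMem_classSupport₁ h M h1 hx', fun h2 => notMem_classSupport₂ h M h2 hx'⟩
  · exact fun hx' => subset_classSupport _ M hx'

/-- The size of the class support of `V` in a subgroup `L` containing `W`. -/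
theorem ncard_classSupport [Finite G] (h : CyclicTIHyp W W₁ W₂) {L : Subgroup G} (hL : W ≤ L) :
    Nat.card W * (classSupport (cycTIset W W₁ W₂) L).ncard =
      (Nat.card W₁ - 1) * (Nat.card W₂ - 1) * Nat.card L := by
  classical
  -- work inside `L`
  let T : Set L := {x | (x : G) ∈ cycTIset W W₁ W₂}
  have hZ : ∀ z ∈ W.subgroupOf L, ∀ t ∈ T, z * t * z⁻¹ ∈ T := by
    intro z hz t ht
    have hz' : (z : G) ∈ W := Subgroup.mem_subgroupOf.mp hz
    show ((z * t * z⁻¹ : L) : G) ∈ cycTIset W W₁ W₂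
    have e : ((z * t * z⁻¹ : L) : G) = (t : G) := by
      rw [Subgroup.coe_mul, Subgroup.coe_mul, Subgroup.coe_inv]
      exact conj_eq_of_mem h hz' ht.1
    rw [e]
    exact ht
  have hTI : ∀ g : L, ∀ t ∈ T, g * t * g⁻¹ ∈ T → g ∈ W.subgroupOf L := by
    intro g t ht hgt
    rw [Subgroup.mem_subgroupOf]
    exact mem_of_conj_mem h ht hgt
  have hcount := OddOrderLocal.TICount.ncard_classSupport_of_TI (W.subgroupOf L) T hZ hTI
  have hW : Nat.card (W.subgroupOf L) = Nat.card W :=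
    Nat.card_congr (Subgroup.subgroupOfEquivOfLe hL).toEquiv
  have hT : T.ncard = (Nat.card W₁ - 1) * (Nat.card W₂ - 1) := by
    rw [← ncard_cycTIset h]
    have : cycTIset W W₁ W₂ = (Subtype.val : L → G) '' T := by
      ext x
      constructor
      · intro hx
        exact ⟨⟨x, hL hx.1⟩, hx, rfl⟩
      · rintro ⟨y, hy, rfl⟩
        exact hy
    rw [this, Set.ncard_image_of_injective _ Subtype.val_injective]
  have hS : (classSupport (cycTIset W W₁ W₂) L).ncard =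
      Set.ncard {a : L | ∃ g : L, ∃ t ∈ T, a = g * t * g⁻¹} := by
    have : classSupport (cycTIset W W₁ W₂) L =
        (Subtype.val : L → G) '' {a : L | ∃ g : L, ∃ t ∈ T, a = g * t * g⁻¹} := by
      ext x
      constructor
      · rintro ⟨m, hm, v, hv, rfl⟩
        exact ⟨⟨m, hm⟩ * ⟨v, hL hv.1⟩ * ⟨m, hm⟩⁻¹, ⟨⟨m, hm⟩, ⟨v, hL hv.1⟩, hv, rfl⟩, rfl⟩
      · rintro ⟨y, ⟨g, t, ht, rfl⟩, rfl⟩
        exact ⟨g, g.2, t, ht, rfl⟩
    rw [this, Set.ncard_image_of_injective _ Subtype.val_injective]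
  rw [hS, ← hW, hcount, hT]

/-! ### Linear characters -/

theorem mem_lin₁ {X : Subgroup G} {φ : ↥W →* ℂˣ} :
    φ ∈ lin₁ W X ↔ ∀ w : ↥W, (w : G) ∈ X → φ w = 1 := Iff.rfl

theorem one_mem_lin₁ (X : Subgroup G) : (1 : ↥W →* ℂˣ) ∈ lin₁ W X := fun _ _ => rfl

theorem mul_mem_lin₁ {X : Subgroup G} {φ ψ : ↥W →* ℂˣ} (hφ : φ ∈ lin₁ W X)
    (hψ : ψ ∈ lin₁ W X) : φ * ψ ∈ lin₁ W X := by
  intro w hw
  rw [MonoidHom.mul_apply, hφ w hw, hψ w hw, one_mul]

theorem inv_mem_lin₁ {X : Subgroup G} {φ : ↥W →* ℂˣ} (hφ : φ ∈ lin₁ W X) :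
    φ⁻¹ ∈ lin₁ W X := by
  intro w hw
  rw [MonoidHom.inv_apply, hφ w hw, inv_one]

/-- `lin₁ W X` as a subgroup of the group of linear characters. -/
def lin₁Sub (W X : Subgroup G) : Subgroup (↥W →* ℂˣ) where
  carrier := lin₁ W X
  mul_mem' := mul_mem_lin₁
  one_mem' := one_mem_lin₁ X
  inv_mem' := inv_mem_lin₁

theorem mem_lin₁Sub {X : Subgroup G} {φ : ↥W →* ℂˣ} : φ ∈ lin₁Sub W X ↔ φ ∈ lin₁ W X := Iff.rfl

theorem coe_lin₁Sub (W X : Subgroup G) : (lin₁Sub W X : Set (↥W →* ℂˣ)) = lin₁ W X := rfl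

theorem finite_hom [Finite G] (h : CyclicTIHyp W W₁ W₂) : Finite (↥W →* ℂˣ) :=
  CyclicTIChars.finite_hom (comm' h)

theorem card_hom [Finite G] (h : CyclicTIHyp W W₁ W₂) : Nat.card (↥W →* ℂˣ) = Nat.card W :=
  CyclicTIChars.card_hom (comm' h)

theorem finite_lin₁ [Finite G] (h : CyclicTIHyp W W₁ W₂) (X : Subgroup G) :
    (lin₁ W X).Finite := by
  have := finite_hom h
  exact Set.toFinite _

/-- A linear character trivial on both factors is trivial. -/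
theorem eq_one_of_mem_lin (h : CyclicTIHyp W W₁ W₂) {ω : ↥W →* ℂˣ} (h1 : ω ∈ lin₁ W W₁)
    (h2 : ω ∈ lin₁ W W₂) : ω = 1 := by
  obtain ⟨hsup, -, hsn⟩ := h
  subst hsup
  exact CyclicTI.hom_eq_one hsn.2.2.2.1 h1 h2

/-- Uniqueness of the factorisation `ω = φ ψ`. -/
theorem mul_eq_mul_iff (h : CyclicTIHyp W W₁ W₂) {φ φ' ψ ψ' : ↥W →* ℂˣ} (hφ : φ ∈ lin₁ W W₂)
    (hφ' : φ' ∈ lin₁ W W₂) (hψ : ψ ∈ lin₁ W W₁) (hψ' : ψ' ∈ lin₁ W W₁) :
    φ * ψ = φ' * ψ' ↔ φ = φ' ∧ ψ = ψ' := by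
  obtain ⟨hsup, -, hsn⟩ := h
  subst hsup
  exact CyclicTI.mul_eq_mul_iff hsn.2.2.2.1 hφ hφ' hψ hψ'

/-- Existence of the factorisation `ω = φ ψ`. -/
theorem exists_mul_eq (h : CyclicTIHyp W W₁ W₂) (ω : ↥W →* ℂˣ) :
    ∃ φ ∈ lin₁ W W₂, ∃ ψ ∈ lin₁ W W₁, φ * ψ = ω := by
  obtain ⟨hsup, -, hsn⟩ := h
  subst hsup
  obtain ⟨⟨α, β⟩, rfl⟩ := (CyclicTIChars.glue_bijective hsn.2.2.1 hsn.2.2.2.1).2 ω
  refine ⟨CyclicTIChars.glue W₁ W₂ hsn.2.2.1 hsn.2.2.2.1 α 1, ?_,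
    CyclicTIChars.glue W₁ W₂ hsn.2.2.1 hsn.2.2.2.1 1 β, ?_,
    (CyclicTIChars.glue_eq_mul hsn.2.2.1 hsn.2.2.2.1 α β).symm⟩
  · intro w hw
    rw [CyclicTIChars.glue_right _ _ _ _ w hw]
    rfl
  · intro w hw
    rw [CyclicTIChars.glue_left _ _ _ _ w hw]
    rfl

/-- Restriction to `W₂` identifies the linear characters of `W` modulo `lin₁ W W₂`. -/
theorem mul_inv_mem_lin₁_iff {X : Subgroup G} {ω ω' : ↥W →* ℂˣ} :
    ω * ω'⁻¹ ∈ lin₁ W X ↔ ∀ w : ↥W, (w : G) ∈ X → ω w = ω' w := by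
  constructor
  · intro h w hw
    have := h w hw
    rw [MonoidHom.mul_apply, MonoidHom.inv_apply] at this
    exact mul_inv_eq_one.mp this
  · intro h w hw
    rw [MonoidHom.mul_apply, MonoidHom.inv_apply, h w hw, mul_inv_cancel]

/-- `lin₁ W W₂` has `|W₁|` members. -/
theorem ncard_lin₁ [Finite G] (h : CyclicTIHyp W W₁ W₂) :
    (lin₁ W W₂).ncard = Nat.card W₁ := by
  classical
  obtain ⟨hsup, -, hsn⟩ := id h
  subst hsup
  have hc : ∀ a b : W₁, a * b = b * a := fun a b =>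
    Subtype.ext (comm h (le₁ h a.2) (le₁ h b.2))
  rw [← CyclicTIChars.card_hom hc, ← Nat.card_coe_set_eq]
  symm
  refine Nat.card_congr (Equiv.ofBijective (fun α : W₁ →* ℂˣ =>
    (⟨CyclicTIChars.glue W₁ W₂ hsn.2.2.1 hsn.2.2.2.1 α 1, fun w hw => by
      rw [CyclicTIChars.glue_right _ _ _ _ w hw]; rfl⟩ : lin₁ (W₁ ⊔ W₂) W₂)) ⟨?_, ?_⟩)
  · intro α β hαβ
    have h1 : CyclicTIChars.glue W₁ W₂ hsn.2.2.1 hsn.2.2.2.1 α 1 =
      CyclicTIChars.glue W₁ W₂ hsn.2.2.1 hsn.2.2.2.1 β 1 := congrArg Subtype.val hαβ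
    have h2 := (CyclicTIChars.glue_bijective hsn.2.2.1 hsn.2.2.2.1).1
      (a₁ := (α, 1)) (a₂ := (β, 1)) h1
    exact congrArg Prod.fst h2
  · rintro ⟨ω, hω⟩
    obtain ⟨⟨α, β⟩, rfl⟩ := (CyclicTIChars.glue_bijective hsn.2.2.1 hsn.2.2.2.1).2 ω
    refine ⟨α, Subtype.ext ?_⟩
    have hβ : β = 1 := by
      apply MonoidHom.ext
      intro w
      have := hω ⟨w, (le_sup_right : W₂ ≤ W₁ ⊔ W₂) w.2⟩ w.2
      rw [CyclicTIChars.glue_right _ _ _ _ _ w.2] at this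
      exact this
    subst hβ
    rfl

theorem natCard_lin₁Sub [Finite G] (h : CyclicTIHyp W W₁ W₂) :
    Nat.card (lin₁Sub W W₂) = Nat.card W₁ := by
  rw [← ncard_lin₁ h, ← Nat.card_coe_set_eq]
  rfl

/-- Only the trivial linear character is its own inverse (odd order). -/
theorem eq_one_of_sq_eq_one [Finite G] (h : CyclicTIHyp W W₁ W₂) {ω : ↥W →* ℂˣ}
    (hω : ω * ω = 1) : ω = 1 := by
  have hf := finite_hom h
  have h1 : orderOf ω ∣ 2 := orderOf_dvd_of_pow_eq_one (by rw [pow_two, hω])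
  have h2 : orderOf ω ∣ Nat.card (↥W →* ℂˣ) := orderOf_dvd_natCard ω
  rw [card_hom h] at h2
  have h3 : Nat.Coprime 2 (Nat.card W) := (Nat.coprime_two_left).mpr h.odd
  have h4 : orderOf ω = 1 := Nat.eq_one_of_dvd_coprimes h3 h1 h2
  exact orderOf_eq_one_iff.mp h4

theorem inv_ne_self [Finite G] (h : CyclicTIHyp W W₁ W₂) {ω : ↥W →* ℂˣ} (hω : ω ≠ 1) :
    ω⁻¹ ≠ ω := by
  intro h1
  apply hω
  apply eq_one_of_sq_eq_one h
  conv_lhs => rw [← h1]
  exact mul_inv_cancel ω ▸ (by rw [h1])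

/-- Elements of `W` are separated by the linear characters trivial on a subgroup. -/
theorem exists_lin₁_ne_one [Finite G] (h : CyclicTIHyp W W₁ W₂) (X : Subgroup G)
    {w : ↥W} (hw : (w : G) ∉ X) : ∃ φ ∈ lin₁ W X, φ w ≠ 1 := by
  by_contra hcon
  push Not at hcon
  apply hw
  have hc := cyclic h
  let := IsCyclic.commGroup (α := ↥W)
  have h1 := CommGroup.forall_monoidHom_apply_eq_one_iff ℂ (X.subgroupOf W) w
  rw [Subgroup.mem_subgroupOf] at h1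
  exact h1.mp fun φ hφ => hcon φ fun y hy => hφ y (Subgroup.mem_subgroupOf.mpr hy)

open scoped Classical in
/-- Orthogonality: the sum of the values at `w` of the linear characters trivial on `W₂`. -/
theorem finsum_lin₁_apply [Finite G] (h : CyclicTIHyp W W₁ W₂) (w : ↥W) :
    ∑ᶠ φ ∈ lin₁ W W₂, (φ w : ℂ) = if (w : G) ∈ W₂ then (Nat.card W₁ : ℂ) else 0 := by
  have hf := finite_hom h
  let _ := Fintype.ofFinite (↥W →* ℂˣ)
  let _ : Fintype (lin₁Sub W W₂) := Fintype.ofFinite _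
  have h1 := CyclicTI.sum_subgroup_hom (lin₁Sub W W₂) w
  have h2 : (∀ f ∈ lin₁Sub W W₂, f w = 1) ↔ (w : G) ∈ W₂ := by
    constructor
    · intro hall
      by_contra hw
      obtain ⟨φ, hφ, hne⟩ := exists_lin₁_ne_one h W₂ hw
      exact hne (hall φ hφ)
    · intro hw f hf
      exact hf w hw
  simp only [h2, natCard_lin₁Sub h] at h1
  rw [← h1]
  rw [finsum_mem_eq_finite_toFinset_sum _ (finite_lin₁ h W₂)]
  refine Finset.sum_subtype (p := fun x => x ∈ lin₁Sub W W₂) _ ?_ _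
  intro x
  rw [Set.Finite.mem_toFinset]
  exact Iff.rfl

end Cfsg.Agent.OddOrderCharacters.PF3bBasic
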