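import Mathlib
import Cfsg.Prelude.Def_OddOrderChar
import Cfsg.Agent.Characters.Core
set_option linter.all false

/-!
# Coherence toolkit

Closure lemmas for `zspan`, `zspanOn`, algebra of `IsLinearIsometryOn`, extension of a map given on an
orthogonal set `S` to a linear isometry on the integer combinations of `S`.
-/

set_option autoImplicit false

open Cfsg Cfsg.Agent.Characters.Core
open scoped ComplexConjugate

namespace Cfsg.Agent.OddOrderCharacters.CoherenceBasic

universe u v w

section zspan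

variable {X : Type u} {S T : Set (X → ℂ)} {A B : Set X} {a b : X → ℂ}

theorem mem_zspan_iff : a ∈ zspan S ↔ a ∈ Submodule.span ℤ S := Iff.rfl

theorem mem_zspan (h : a ∈ S) : a ∈ zspan S := Submodule.subset_span h

theorem zspan_zero : (0 : X → ℂ) ∈ zspan S := (Submodule.span ℤ S).zero_mem

theorem zspan_add (ha : a ∈ zspan S) (hb : b ∈ zspan S) : a + b ∈ zspan S :=
  (Submodule.span ℤ S).add_mem ha hb

theorem zspan_neg (ha : a ∈ zspan S) : -a ∈ zspan S :=
  (Submodule.span ℤ S).neg_mem ha

theorem zspan_sub (ha : a ∈ zspan S) (hb : b ∈ zspan S) : a - b ∈ zspan S :=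
  (Submodule.span ℤ S).sub_mem ha hb

theorem zspan_zsmul (n : ℤ) (ha : a ∈ zspan S) : n • a ∈ zspan S :=
  (Submodule.span ℤ S).smul_mem n ha

theorem zspan_nsmul (n : ℕ) (ha : a ∈ zspan S) : n • a ∈ zspan S := by
  have := zspan_zsmul (n : ℤ) ha
  rwa [natCast_zsmul] at this

theorem zspan_sum {ι : Type w} (s : Finset ι) {f : ι → X → ℂ} (h : ∀ i ∈ s, f i ∈ zspan S) :
    ∑ i ∈ s, f i ∈ zspan S :=
  (Submodule.span ℤ S).sum_mem h

theorem zspan_mono (h : S ⊆ T) (ha : a ∈ zspan S) : a ∈ zspan T :=
  Submodule.span_mono h ha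

/-- `zspan S` is contained in any set closed under the operations that contains `S`. -/
theorem zspan_le {T : Set (X → ℂ)} (h : ∀ x ∈ S, x ∈ zspan T) (ha : a ∈ zspan S) : a ∈ zspan T :=
  (Submodule.span_le (p := Submodule.span ℤ T)).2 h ha

theorem zspan_induction {p : (X → ℂ) → Prop} (mem : ∀ x ∈ S, p x) (zero : p 0)
    (add : ∀ a b, p a → p b → p (a + b)) (neg : ∀ a, p a → p (-a)) (ha : a ∈ zspan S) : p a := by
  have hz : ∀ (n : ℕ) (x : X → ℂ), p x → p (n • x) := by
    intro n x hx
    induction n with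
    | zero => simpa using zero
    | succ n ih => rw [succ_nsmul]; exact add _ _ ih hx
  refine Submodule.span_induction (p := fun x _ => p x) mem zero (fun x y _ _ hx hy => add x y hx hy)
    ?_ ha
  intro n x _ hx
  obtain ⟨m, rfl | rfl⟩ := n.eq_nat_or_neg
  · rw [natCast_zsmul]; exact hz m x hx
  · rw [neg_smul, natCast_zsmul]; exact neg _ (hz m x hx)

/-- An element of `zspan (S ∪ T)` is the sum of an element of `zspan S` and one of `zspan T`. -/
theorem mem_zspan_union : a ∈ zspan (S ∪ T) ↔ ∃ b ∈ zspan S, ∃ c ∈ zspan T, b + c = a := by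
  rw [mem_zspan_iff, Submodule.span_union, Submodule.mem_sup]
  rfl

theorem mem_zspan_insert : a ∈ zspan (insert b S) ↔ ∃ n : ℤ, ∃ c ∈ zspan S, a = n • b + c := by
  rw [mem_zspan_iff, Submodule.mem_span_insert]
  rfl

theorem zspanOn_zero : (0 : X → ℂ) ∈ zspanOn S A := ⟨zspan_zero, fun _ _ => rfl⟩

theorem zspanOn_zspan (ha : a ∈ zspanOn S A) : a ∈ zspan S := ha.1

theorem zspanOn_add (ha : a ∈ zspanOn S A) (hb : b ∈ zspanOn S A) : a + b ∈ zspanOn S A :=
  ⟨zspan_add ha.1 hb.1, fun x hx => by rw [Pi.add_apply, ha.2 x hx, hb.2 x hx, add_zero]⟩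

theorem zspanOn_neg (ha : a ∈ zspanOn S A) : -a ∈ zspanOn S A :=
  ⟨zspan_neg ha.1, fun x hx => by rw [Pi.neg_apply, ha.2 x hx, neg_zero]⟩

theorem zspanOn_sub (ha : a ∈ zspanOn S A) (hb : b ∈ zspanOn S A) : a - b ∈ zspanOn S A :=
  ⟨zspan_sub ha.1 hb.1, fun x hx => by rw [Pi.sub_apply, ha.2 x hx, hb.2 x hx, sub_zero]⟩

theorem zspanOn_zsmul (n : ℤ) (ha : a ∈ zspanOn S A) : n • a ∈ zspanOn S A :=
  ⟨zspan_zsmul n ha.1, fun x hx => by rw [Pi.smul_apply, ha.2 x hx, smul_zero]⟩

theorem zspanOn_sum {ι : Type w} (s : Finset ι) {f : ι → X → ℂ} (h : ∀ i ∈ s, f i ∈ zspanOn S A) :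
    ∑ i ∈ s, f i ∈ zspanOn S A :=
  ⟨zspan_sum s fun i hi => (h i hi).1, fun x hx => by
    rw [Finset.sum_apply]; exact Finset.sum_eq_zero fun i hi => (h i hi).2 x hx⟩

theorem zspanOn_mono (h : S ⊆ T) (ha : a ∈ zspanOn S A) : a ∈ zspanOn T A :=
  ⟨zspan_mono h ha.1, ha.2⟩

theorem zspanOn_mono_right (h : A ⊆ B) (ha : a ∈ zspanOn S A) : a ∈ zspanOn S B :=
  ⟨ha.1, fun x hx => ha.2 x fun hx' => hx (h hx')⟩

end zspan

section one

variable {N : Type u} [Group N] {S : Set (N → ℂ)} {a b : N → ℂ}

theorem mem_zspanOn_compl_one : a ∈ zspanOn S {1}ᶜ ↔ a ∈ zspan S ∧ a 1 = 0 := by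
  constructor
  · rintro ⟨h, h'⟩
    exact ⟨h, h' 1 (by simp)⟩
  · rintro ⟨h, h'⟩
    refine ⟨h, fun x hx => ?_⟩
    have : x = 1 := by simpa using hx
    rw [this, h']

theorem exists_int_apply_one (hS : ∀ ξ ∈ S, IsCharacter N ξ) (h : a ∈ zspan S) :
    ∃ n : ℤ, a 1 = n := by
  refine zspan_induction (p := fun x => ∃ n : ℤ, x 1 = n) ?_ ⟨0, by simp⟩ ?_ ?_ h
  · intro x hx
    obtain ⟨n, hn⟩ := isCharacter_apply_one (hS x hx)
    exact ⟨n, by rw [hn]; simp⟩
  · rintro x y ⟨m, hm⟩ ⟨n, hn⟩
    exact ⟨m + n, by rw [Pi.add_apply, hm, hn]; simp⟩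
  · rintro x ⟨m, hm⟩
    exact ⟨-m, by rw [Pi.neg_apply, hm]; simp⟩

/-- The degree-zero combination `b(1) a - a(1) b`. -/
theorem zspanOn_cross (ha : a ∈ zspan S) (hb : b ∈ zspan S) {d e : ℤ} (hd : a 1 = d) (he : b 1 = e) :
    e • a - d • b ∈ zspanOn S {1}ᶜ := by
  rw [mem_zspanOn_compl_one]
  refine ⟨zspan_sub (zspan_zsmul _ ha) (zspan_zsmul _ hb), ?_⟩
  rw [Pi.sub_apply, Pi.smul_apply, Pi.smul_apply, hd, he, zsmul_eq_mul, zsmul_eq_mul]
  ring

end one

section generalized

variable {G : Type u} [Group G] {a b : G → ℂ}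

theorem gen_of_character (h : IsCharacter G a) : IsGeneralizedCharacter G a :=
  ⟨a, 0, h, isCharacter_zero, by simp⟩

theorem gen_zero : IsGeneralizedCharacter G (0 : G → ℂ) := gen_of_character isCharacter_zero

theorem gen_add (ha : IsGeneralizedCharacter G a) (hb : IsGeneralizedCharacter G b) :
    IsGeneralizedCharacter G (a + b) := by
  obtain ⟨x, y, hx, hy, rfl⟩ := ha
  obtain ⟨x', y', hx', hy', rfl⟩ := hb
  exact ⟨x + x', y + y', isCharacter_add hx hx', isCharacter_add hy hy', by abel⟩

theorem gen_neg (ha : IsGeneralizedCharacter G a) : IsGeneralizedCharacter G (-a) := by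
  obtain ⟨x, y, hx, hy, rfl⟩ := ha
  exact ⟨y, x, hy, hx, by abel⟩

theorem gen_sub (ha : IsGeneralizedCharacter G a) (hb : IsGeneralizedCharacter G b) :
    IsGeneralizedCharacter G (a - b) := by
  rw [sub_eq_add_neg]; exact gen_add ha (gen_neg hb)

theorem gen_zsmul (n : ℤ) (ha : IsGeneralizedCharacter G a) : IsGeneralizedCharacter G (n • a) := by
  obtain ⟨x, y, hx, hy, rfl⟩ := ha
  obtain ⟨m, rfl | rfl⟩ := n.eq_nat_or_neg
  · exact ⟨m • x, m • y, isCharacter_nsmul m hx, isCharacter_nsmul m hy, by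
      rw [natCast_zsmul, nsmul_sub]⟩
  · exact ⟨m • y, m • x, isCharacter_nsmul m hy, isCharacter_nsmul m hx, by
      rw [neg_smul, natCast_zsmul, nsmul_sub, neg_sub]⟩

theorem gen_sum {ι : Type w} (s : Finset ι) {f : ι → G → ℂ}
    (h : ∀ i ∈ s, IsGeneralizedCharacter G (f i)) : IsGeneralizedCharacter G (∑ i ∈ s, f i) := by
  classical
  induction s using Finset.induction_on with
  | empty => simpa using gen_zero
  | insert i s hi ih =>
    rw [Finset.sum_insert hi]
    exact gen_add (h i (by simp)) (ih fun j hj => h j (by simp [hj]))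

theorem gen_of_mem_zspan {S : Set (G → ℂ)} (hS : ∀ ξ ∈ S, IsGeneralizedCharacter G ξ)
    (h : a ∈ zspan S) : IsGeneralizedCharacter G a :=
  zspan_induction hS gen_zero (fun _ _ => gen_add) (fun _ => gen_neg) h

/-- The inner product of two generalized characters is an integer. -/
theorem gen_inner_int [Fintype G] (ha : IsGeneralizedCharacter G a)
    (hb : IsGeneralizedCharacter G b) : ∃ n : ℤ, classInner a b = n := by
  obtain ⟨x, y, hx, hy, rfl⟩ := ha
  obtain ⟨x', y', hx', hy', rfl⟩ := hb
  obtain ⟨n₁, h₁⟩ := classInner_isNat hx hx'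
  obtain ⟨n₂, h₂⟩ := classInner_isNat hx hy'
  obtain ⟨n₃, h₃⟩ := classInner_isNat hy hx'
  obtain ⟨n₄, h₄⟩ := classInner_isNat hy hy'
  refine ⟨(n₁ : ℤ) - n₂ - (n₃ - n₄), ?_⟩
  rw [classInner_sub_left, classInner_sub_right, classInner_sub_right, h₁, h₂, h₃, h₄]
  push_cast
  ring

/-- The degree of a generalized character is an integer. -/
theorem gen_apply_one (ha : IsGeneralizedCharacter G a) : ∃ n : ℤ, a 1 = n := by
  obtain ⟨x, y, hx, hy, rfl⟩ := ha
  obtain ⟨m, hm⟩ := isCharacter_apply_one hx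
  obtain ⟨n, hn⟩ := isCharacter_apply_one hy
  exact ⟨m - n, by rw [Pi.sub_apply, hm, hn]; push_cast; ring⟩

theorem gen_isClassFunction (ha : IsGeneralizedCharacter G a) : IsClassFunction G a := by
  obtain ⟨x, y, hx, hy, rfl⟩ := ha
  intro g h
  rw [Pi.sub_apply, Pi.sub_apply, isCharacter_isClassFunction hx g h,
    isCharacter_isClassFunction hy g h]

end generalized

section inner

variable {G : Type u} [Group G] [Fintype G] {a b : G → ℂ}

theorem classInner_zsmul_left (n : ℤ) (a b : G → ℂ) :
    classInner (n • a) b = n * classInner a b := by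
  have : n • a = (n : ℂ) • a := by
    ext x; simp [zsmul_eq_mul]
  rw [this, classInner_smul_left]

theorem classInner_zsmul_right (n : ℤ) (a b : G → ℂ) :
    classInner a (n • b) = n * classInner a b := by
  have : n • b = (n : ℂ) • b := by
    ext x; simp [zsmul_eq_mul]
  rw [this, classInner_smul_right, map_intCast]

/-- Two irreducible characters up to sign are orthogonal, equal or opposite. -/
theorem signed_inner (ha : IsIrrCharacter G a ∨ IsIrrCharacter G (-a))
    (hb : IsIrrCharacter G b ∨ IsIrrCharacter G (-b)) :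
    classInner a b = 0 ∨ (a = b ∧ classInner a b = 1) ∨ (a = -b ∧ classInner a b = -1) := by
  rcases ha with ha | ha <;> rcases hb with hb | hb
  · by_cases h : a = b
    · right; left
      refine ⟨h, ?_⟩
      subst h
      exact classInner_irr_self ha
    · left; exact classInner_irr_ne ha hb h
  · by_cases h : a = -b
    · right; right
      refine ⟨h, ?_⟩
      have := classInner_irr_self ha
      nth_rewrite 2 [h] at this
      rw [classInner_neg_right] at this
      rw [← this, neg_neg]
    · left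
      have := classInner_irr_ne ha hb h
      rwa [classInner_neg_right, neg_eq_zero] at this
  · by_cases h : -a = b
    · right; right
      refine ⟨by rw [← h, neg_neg], ?_⟩
      have := classInner_irr_self hb
      nth_rewrite 1 [← h] at this
      rw [classInner_neg_left] at this
      rw [← this, neg_neg]
    · left
      have := classInner_irr_ne ha hb h
      rwa [classInner_neg_left, neg_eq_zero] at this
  · by_cases h : -a = -b
    · right; left
      have h' : a = b := neg_injective h
      refine ⟨h', ?_⟩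
      have := classInner_irr_self ha
      rw [classInner_neg_left, classInner_neg_right, neg_neg] at this
      rwa [← h']
    · left
      have := classInner_irr_ne ha hb h
      rwa [classInner_neg_left, classInner_neg_right, neg_neg] at this

omit [Fintype G] in
/-- The degree of an irreducible character up to sign is not zero. -/
theorem signed_apply_one_ne_zero (ha : IsIrrCharacter G a ∨ IsIrrCharacter G (-a)) : a 1 ≠ 0 := by
  rcases ha with ha | ha
  · obtain ⟨n, hn, h⟩ := isIrr_apply_one ha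
    rw [h]; exact_mod_cast hn.ne'
  · obtain ⟨n, hn, h⟩ := isIrr_apply_one ha
    intro h'
    rw [Pi.neg_apply, h', neg_zero] at h
    exact hn.ne' (by exact_mod_cast h.symm)

omit [Fintype G] in
theorem irr_ne_zero (ha : IsIrrCharacter G a) : a ≠ 0 := by
  rintro rfl
  exact signed_apply_one_ne_zero (Or.inl ha) rfl

/-- If every member of `S` is orthogonal to every member of `T`, so are the members of the spans. -/
theorem inner_zspan_eq_zero {S T : Set (G → ℂ)} (h : ∀ x ∈ S, ∀ y ∈ T, classInner x y = 0)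
    (ha : a ∈ zspan S) (hb : b ∈ zspan T) : classInner a b = 0 := by
  refine zspan_induction (p := fun x => classInner x b = 0) ?_ (classInner_zero_left _) ?_ ?_ ha
  · intro x hx
    refine zspan_induction (p := fun y => classInner x y = 0) (h x hx) (classInner_zero_right _)
      ?_ ?_ hb
    · intro y z hy hz; rw [classInner_add_right, hy, hz, add_zero]
    · intro y hy; rw [classInner_neg_right, hy, neg_zero]
  · intro y z hy hz; rw [classInner_add_left, hy, hz, add_zero]
  · intro y hy; rw [classInner_neg_left, hy, neg_zero]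

/-- An orthogonal set of nonzero functions is linearly independent. -/
theorem linearIndependent_of_orthogonal {S : Set (G → ℂ)}
    (horth : ∀ a ∈ S, ∀ b ∈ S, a ≠ b → classInner a b = 0) (hne : ∀ a ∈ S, a ≠ 0) :
    LinearIndependent ℂ (fun x : S => (x : G → ℂ)) := by
  classical
  rw [linearIndependent_iff']
  intro s c hc i hi
  have h0 : classInner (∑ j ∈ s, c j • (j : G → ℂ)) (i : G → ℂ) = 0 := by
    rw [hc, classInner_zero_left]
  rw [classInner_sum_left, Finset.sum_eq_single i] at h0
  · rw [classInner_smul_left] at h0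
    rcases mul_eq_zero.1 h0 with h | h
    · exact h
    · exact absurd (classInner_self_eq_zero h) (hne i i.2)
  · intro j _ hj
    rw [classInner_smul_left, horth j j.2 i i.2 (fun h => hj (Subtype.ext h)), mul_zero]
  · intro h; exact absurd hi h

end inner

section isometry

variable {N : Type u} [Group N] [Fintype N] {G : Type v} [Group G] [Fintype G]
variable {E : Set (N → ℂ)} {S : Set (N → ℂ)} {A : Set N} {τ : (N → ℂ) → (G → ℂ)} {a b : N → ℂ}

theorem isom_add (h : IsLinearIsometryOn E τ) (ha : a ∈ E) (hb : b ∈ E) :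
    τ (a + b) = τ a + τ b := h.1 a ha b hb

theorem isom_zsmul (h : IsLinearIsometryOn E τ) (n : ℤ) (ha : a ∈ E) :
    τ (n • a) = n • τ a := h.2.1 a ha n

theorem isom_inner (h : IsLinearIsometryOn E τ) (ha : a ∈ E) (hb : b ∈ E) :
    classInner (τ a) (τ b) = classInner a b := h.2.2.1 a ha b hb

theorem isom_gen (h : IsLinearIsometryOn E τ) (ha : a ∈ E) : IsGeneralizedCharacter G (τ a) :=
  h.2.2.2 a ha

theorem isom_neg (h : IsLinearIsometryOn E τ) (ha : a ∈ E) : τ (-a) = -τ a := by
  have := isom_zsmul h (-1) ha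
  rwa [neg_one_zsmul, neg_one_zsmul] at this

theorem isom_zero (h : IsLinearIsometryOn E τ) (ha : a ∈ E) : τ 0 = 0 := by
  have := isom_zsmul h 0 ha
  rwa [zero_zsmul, zero_zsmul] at this

theorem isom_sub (h : IsLinearIsometryOn (zspan S) τ) (ha : a ∈ zspan S) (hb : b ∈ zspan S) :
    τ (a - b) = τ a - τ b := by
  rw [sub_eq_add_neg, isom_add h ha (zspan_neg hb), isom_neg h hb, ← sub_eq_add_neg]

theorem isom_sum (h : IsLinearIsometryOn (zspan S) τ) {ι : Type w} (s : Finset ι) {f : ι → N → ℂ}
    (hf : ∀ i ∈ s, f i ∈ zspan S) : τ (∑ i ∈ s, f i) = ∑ i ∈ s, τ (f i) := by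
  classical
  induction s using Finset.induction_on with
  | empty => simpa using isom_zero h zspan_zero
  | insert i s hi ih =>
    rw [Finset.sum_insert hi, Finset.sum_insert hi, isom_add h (hf i (by simp))
      (zspan_sum s fun j hj => hf j (by simp [hj])), ih fun j hj => hf j (by simp [hj])]

theorem isomOn_sub (h : IsLinearIsometryOn (zspanOn S A) τ) (ha : a ∈ zspanOn S A)
    (hb : b ∈ zspanOn S A) : τ (a - b) = τ a - τ b := by
  rw [sub_eq_add_neg, isom_add h ha (zspanOn_neg hb), isom_neg h hb, ← sub_eq_add_neg]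

theorem isomOn_sum (h : IsLinearIsometryOn (zspanOn S A) τ) {ι : Type w} (s : Finset ι)
    {f : ι → N → ℂ} (hf : ∀ i ∈ s, f i ∈ zspanOn S A) : τ (∑ i ∈ s, f i) = ∑ i ∈ s, τ (f i) := by
  classical
  induction s using Finset.induction_on with
  | empty => simpa using isom_zero h zspanOn_zero
  | insert i s hi ih =>
    rw [Finset.sum_insert hi, Finset.sum_insert hi, isom_add h (hf i (by simp))
      (zspanOn_sum s fun j hj => hf j (by simp [hj])), ih fun j hj => hf j (by simp [hj])]

theorem isom_mono {F : Set (N → ℂ)} (h : IsLinearIsometryOn E τ) (hF : F ⊆ E) :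
    IsLinearIsometryOn F τ :=
  ⟨fun a ha b hb => h.1 a (hF ha) b (hF hb), fun a ha n => h.2.1 a (hF ha) n,
    fun a ha b hb => h.2.2.1 a (hF ha) b (hF hb), fun a ha => h.2.2.2 a (hF ha)⟩

/-- The image of an irreducible character under a linear isometry into virtual characters is
irreducible up to sign. -/
theorem isom_irr (h : IsLinearIsometryOn E τ) (ha : a ∈ E) (hirr : IsIrrCharacter N a) :
    IsIrrCharacter G (τ a) ∨ IsIrrCharacter G (-τ a) :=
  isIrr_of_generalized (isom_gen h ha) (by rw [isom_inner h ha ha, classInner_irr_self hirr])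

/-- Two linear isometries on `zspan S` that agree on `S` agree on `zspan S`. -/
theorem isom_ext {τ' : (N → ℂ) → (G → ℂ)} (h : IsLinearIsometryOn (zspan S) τ)
    (h' : IsLinearIsometryOn (zspan S) τ') (heq : ∀ a ∈ S, τ a = τ' a) (ha : a ∈ zspan S) :
    τ a = τ' a := by
  have key : a ∈ zspan S ∧ τ a = τ' a := by
    refine zspan_induction (p := fun x => x ∈ zspan S ∧ τ x = τ' x)
      (fun x hx => ⟨mem_zspan hx, heq x hx⟩)
      ⟨zspan_zero, by rw [isom_zero h zspan_zero, isom_zero h' zspan_zero]⟩ ?_ ?_ ha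
    · rintro x y ⟨hx, hx'⟩ ⟨hy, hy'⟩
      exact ⟨zspan_add hx hy, by rw [isom_add h hx hy, isom_add h' hx hy, hx', hy']⟩
    · rintro x ⟨hx, hx'⟩
      exact ⟨zspan_neg hx, by rw [isom_neg h hx, isom_neg h' hx, hx']⟩
  exact key.2

/-- **Extension lemma.** A map on an orthogonal set `S` of nonzero functions preserving inner products
of members of `S`, with virtual characters as values, extends to a `ℂ`-linear map which is a linear
isometry on the integer combinations of `S`. -/
theorem exists_linear_isometry_extending (S : Set (N → ℂ))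
    (horth : ∀ a ∈ S, ∀ b ∈ S, a ≠ b → classInner a b = 0) (hne : ∀ a ∈ S, a ≠ 0)
    (f : (N → ℂ) → (G → ℂ)) (hf : ∀ a ∈ S, ∀ b ∈ S, classInner (f a) (f b) = classInner a b)
    (hg : ∀ a ∈ S, IsGeneralizedCharacter G (f a)) :
    ∃ F : (N → ℂ) →ₗ[ℂ] (G → ℂ), IsLinearIsometryOn (zspan S) (F : (N → ℂ) → (G → ℂ)) ∧
      ∀ a ∈ S, F a = f a := by
  have hli : LinearIndepOn ℂ id S := linearIndependent_of_orthogonal horth hne
  let B := Module.Basis.extend hli
  let F : (N → ℂ) →ₗ[ℂ] (G → ℂ) := B.constr ℂ (fun x => f x)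
  have hF : ∀ a ∈ S, F a = f a := by
    intro a ha
    have hmem : a ∈ hli.extend (Set.subset_univ _) := hli.subset_extend _ ha
    have h1 : F (B ⟨a, hmem⟩) = f a := by
      rw [Module.Basis.constr_basis]
    rwa [Module.Basis.extend_apply_self] at h1
  refine ⟨F, ⟨fun a _ b _ => map_add F a b, fun a _ n => map_zsmul F n a, ?_, ?_⟩, hF⟩
  · intro a ha b hb
    refine zspan_induction (p := fun x => classInner (F x) (F b) = classInner x b) ?_
      (by rw [map_zero, classInner_zero_left, classInner_zero_left]) ?_ ?_ ha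
    · intro x hx
      refine zspan_induction (p := fun y => classInner (F x) (F y) = classInner x y) ?_
        (by rw [map_zero, classInner_zero_right, classInner_zero_right]) ?_ ?_ hb
      · intro y hy
        rw [hF x hx, hF y hy, hf x hx y hy]
      · intro y z hy hz
        rw [map_add, classInner_add_right, classInner_add_right, hy, hz]
      · intro y hy
        rw [map_neg, classInner_neg_right, classInner_neg_right, hy]
    · intro y z hy hz
      rw [map_add, classInner_add_left, classInner_add_left, hy, hz]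
    · intro y hy
      rw [map_neg, classInner_neg_left, classInner_neg_left, hy]
  · intro a ha
    refine zspan_induction (p := fun x => IsGeneralizedCharacter G (F x)) ?_
      (by rw [map_zero]; exact gen_zero) ?_ ?_ ha
    · intro x hx; rw [hF x hx]; exact hg x hx
    · intro x y hx hy; rw [map_add]; exact gen_add hx hy
    · intro x hx; rw [map_neg]; exact gen_neg hx

/-- Version of the extension lemma with a bare function. -/
theorem exists_isometry_extending (S : Set (N → ℂ))
    (horth : ∀ a ∈ S, ∀ b ∈ S, a ≠ b → classInner a b = 0) (hne : ∀ a ∈ S, a ≠ 0)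
    (f : (N → ℂ) → (G → ℂ)) (hf : ∀ a ∈ S, ∀ b ∈ S, classInner (f a) (f b) = classInner a b)
    (hg : ∀ a ∈ S, IsGeneralizedCharacter G (f a)) :
    ∃ τ₁ : (N → ℂ) → (G → ℂ), IsLinearIsometryOn (zspan S) τ₁ ∧ ∀ a ∈ S, τ₁ a = f a := by
  obtain ⟨F, h1, h2⟩ := exists_linear_isometry_extending S horth hne f hf hg
  exact ⟨F, h1, h2⟩

end isometry

end Cfsg.Agent.OddOrderCharacters.CoherenceBasic
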