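import Cfsg.Agent.OddOrderCharacters.CoherenceExt
import Cfsg.Agent.S1515
import Mathlib.Tactic
set_option linter.all false

/-!
# Facts about coherence systems used in the extension criterion
-/

set_option autoImplicit false

open scoped ComplexConjugate
open Cfsg Cfsg.Agent.OddOrderCharacters.InnerLite Cfsg.Agent.OddOrderCharacters.CoherenceExt

namespace Cfsg.Agent.OddOrderCharacters.CoherenceStep

variable {L : Type*} [Group L] [Fintype L] {G : Type*} [Group G] [Fintype G]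

omit [Fintype L] in
theorem char_one_ne_zero {φ : L → ℂ} (h : IsCharacter L φ) (hne : φ ≠ 0) : φ 1 ≠ 0 := by
  obtain ⟨n, ρ, rfl⟩ := h
  intro h1
  apply hne
  rw [Representation.char_one] at h1
  have hn : Module.finrank ℂ (Fin n → ℂ) = 0 := by exact_mod_cast h1
  have hsub : Subsingleton (Fin n → ℂ) := Module.finrank_zero_iff.mp hn
  funext g
  have h2 : ρ g = 0 := LinearMap.ext fun x => Subsingleton.elim _ _
  rw [Representation.character, h2, map_zero]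
  rfl

variable {S : Set (L → ℂ)} {τ : (L → ℂ) → (G → ℂ)} {R : (L → ℂ) → Finset (G → ℂ)}

theorem ne_zero_of_mem (hS : IsCoherenceSystem S τ R) {φ : L → ℂ} (hφ : φ ∈ S) : φ ≠ 0 := by
  rintro rfl
  apply hS.conj_ne 0 hφ
  funext x
  simp [conjFun]

theorem one_ne_zero_of_mem (hS : IsCoherenceSystem S τ R) {φ : L → ℂ} (hφ : φ ∈ S) : φ 1 ≠ 0 :=
  char_one_ne_zero (hS.isCharacter φ hφ) (ne_zero_of_mem hS hφ)

theorem conj_sub_mem (hS : IsCoherenceSystem S τ R) {φ : L → ℂ} {d : ℕ} (hd : φ 1 = (d : ℂ))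
    {T : Set (L → ℂ)} (hφ : φ ∈ T) (hφ' : conjFun φ ∈ T) :
    φ - conjFun φ ∈ zspanOn T {1}ᶜ := by
  refine ⟨zs_sub (zs_mem hφ) (zs_mem hφ'), fun x hx => ?_⟩
  have hx1 : x = 1 := by simpa using hx
  subst hx1
  rw [Pi.sub_apply, conjFun, hd, map_natCast, sub_self]

theorem exists_degree (hS : IsCoherenceSystem S τ R) {φ : L → ℂ} (hφ : φ ∈ S) :
    ∃ d : ℕ, φ 1 = (d : ℂ) := by
  obtain ⟨n, ρ, rfl⟩ := hS.isCharacter φ hφ
  exact ⟨_, Representation.char_one ρ⟩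

/-- Peterfalvi (5.5): an isometry on a set containing `ξ` and its conjugate which agrees with `τ`
on `ξ - conj ξ` sends `ξ` to a partial sum of `R ξ`. -/
theorem map_eq_proj (hS : IsCoherenceSystem S τ R) {ξ : L → ℂ} (hξ : ξ ∈ S)
    {T : Set (L → ℂ)} (h1 : ξ ∈ T) (h2 : conjFun ξ ∈ T) {τ₁ : (L → ℂ) → (G → ℂ)}
    (hτ₁ : IsLinearIsometryOn (zspan T) τ₁)
    (hext : τ₁ (ξ - conjFun ξ) = τ (ξ - conjFun ξ)) :
    τ₁ ξ = proj (R ξ) (τ₁ ξ) ∧ ∀ α ∈ R ξ, classInner (τ₁ ξ) α = 0 ∨ classInner (τ₁ ξ) α = 1 := by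
  classical
  obtain ⟨d, hd⟩ := exists_degree hS hξ
  have hsub : zspan {ξ - 0, ξ - conjFun ξ} ⊆ zspan T := by
    apply zs_le
    intro x hx
    rcases hx with rfl | hx
    · rw [sub_zero]; exact zs_mem h1
    · rw [Set.mem_singleton_iff] at hx
      rw [hx]; exact zs_sub (zs_mem h1) (zs_mem h2)
  have hmem : ξ - conjFun ξ ∈ zspanOn S {1}ᶜ := conj_sub_mem hS hd hξ (hS.conj_mem ξ hξ)
  have key := Cfsg.Agent.S1515.result S τ R hS ξ hξ 0 zs_zero (ci_zero_right _) (ci_zero_right _)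
    τ₁ (io_mono hτ₁ hsub) (fun n => by
      rw [hτ₁.2.1 _ (zs_sub (zs_mem h1) (zs_mem h2)), hS.isometry.2.1 _ hmem, hext])
  rw [sub_zero] at key
  have hR := hS.orthonormal ξ hξ
  have hb := bessel hR (τ₁ ξ)
  obtain ⟨-, k2⟩ := key
  have k3 := k2 (by rw [ci_zero_left]; simpa using hb)
  refine ⟨?_, k3.2⟩
  have h3 : (classInner (proj (R ξ) (τ₁ ξ) - τ₁ ξ) (proj (R ξ) (τ₁ ξ) - τ₁ ξ)).re ≤ 0 := by
    rw [ci_sub_proj hR, Complex.sub_re, Complex.ofReal_re, k3.1,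
      hτ₁.2.2.1 _ (zs_mem h1) _ (zs_mem h1), sub_self]
  have h4 := eq_zero_of_ci_self_re_le h3
  exact (sub_eq_zero.mp h4).symm

/-- The image of `ξ` under such an isometry is orthogonal to `R χ` when `ξ` is orthogonal to `χ`
and its conjugate. -/
theorem map_orthogonal (hS : IsCoherenceSystem S τ R) {ξ χ : L → ℂ} (hξ : ξ ∈ S) (hχ : χ ∈ S)
    (o1 : classInner ξ χ = 0) (o2 : classInner ξ (conjFun χ) = 0)
    {T : Set (L → ℂ)} (h1 : ξ ∈ T) (h2 : conjFun ξ ∈ T) {τ₁ : (L → ℂ) → (G → ℂ)}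
    (hτ₁ : IsLinearIsometryOn (zspan T) τ₁)
    (hext : τ₁ (ξ - conjFun ξ) = τ (ξ - conjFun ξ)) :
    ∀ β ∈ R χ, classInner (τ₁ ξ) β = 0 := by
  intro β hβ
  rw [(map_eq_proj hS hξ h1 h2 hτ₁ hext).1, ci_proj_left]
  refine Finset.sum_eq_zero (fun α hα => ?_)
  rw [hS.disjoint χ hχ ξ hξ o1 o2 α hα β hβ, mul_zero]

/-- The arithmetic heart of the criterion. -/
theorem int_eq_zero {lam : ℤ} {D K : ℝ} (hK : 0 ≤ K) (hD : K < D)
    (h : (lam : ℝ) ^ 2 * D ≤ K * lam) : lam = 0 := by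
  by_contra hne
  have h1 : (0 : ℝ) < (lam : ℝ) ^ 2 := by
    have : (lam : ℝ) ≠ 0 := by exact_mod_cast hne
    positivity
  have h2 : (lam : ℝ) ^ 2 * K < (lam : ℝ) ^ 2 * D := mul_lt_mul_of_pos_left hD h1
  have h3 : (0 : ℝ) ≤ (lam : ℝ) ^ 2 - lam := by
    have : (0 : ℤ) ≤ lam ^ 2 - lam := by
      rcases le_or_gt lam 0 with h | h
      · nlinarith
      · nlinarith
    exact_mod_cast this
  nlinarith [mul_nonneg hK h3]

end Cfsg.Agent.OddOrderCharacters.CoherenceStep
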