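import Mathlib
import Cfsg.Prelude.Def_OddOrderChar
import Cfsg.Prelude.Def_OddOrderLocal
import Cfsg.Agent.Characters.Core
import Cfsg.Agent.OddOrderCharacters.CyclicTICoeff
import Cfsg.Agent.OddOrderCharacters.CyclicTIChars
import Cfsg.Agent.OddOrderCharacters.GaloisTwist
set_option linter.all false

/-!
# Uniqueness in the cyclic trivial-intersection family

For `χ` with `Cfsg.IsCyclicTIFamily W₁ W₂ χ`, `W₁ ⊔ W₂` of odd order: an irreducible character up to sign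
which agrees with the linear character `ω` on `W` outside `W₁ ∪ W₂` is `χ ω`.  Consequently the family is
equivariant under field automorphisms of `ℂ` (in particular under complex conjugation).
-/

set_option autoImplicit false

namespace Cfsg.Agent.OddOrderCharacters.CyclicTIUnique

open Cfsg
open Cfsg.Agent.Characters.Core
open Cfsg.Agent.OddOrderCharacters.CyclicTIChars
open Cfsg.Agent.OddOrderCharacters.CyclicTICoeff

universe u

/-- Two irreducible characters up to sign which are not orthogonal agree up to sign. -/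
theorem eq_or_eq_neg_of_inner_ne_zero {X : Type u} [Group X] [Fintype X] {α β : X → ℂ}
    (hα : IsIrrCharacter X α ∨ IsIrrCharacter X (-α))
    (hβ : IsIrrCharacter X β ∨ IsIrrCharacter X (-β))
    (h : classInner α β ≠ 0) : α = β ∨ α = -β := by
  by_contra hne
  push Not at hne
  apply h
  rcases hα with hα | hα <;> rcases hβ with hβ | hβ
  · exact classInner_irr_ne hα hβ hne.1
  · have := classInner_irr_ne hα hβ hne.2
    rwa [classInner_neg_right, neg_eq_zero] at this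
  · have := classInner_irr_ne hα hβ (fun h1 => hne.2 (by rw [← h1, neg_neg]))
    rwa [classInner_neg_left, neg_eq_zero] at this
  · have := classInner_irr_ne hα hβ (fun h1 => hne.1 (neg_injective h1))
    rwa [classInner_neg_left, classInner_neg_right, neg_neg] at this

theorem isClassFunction_of_irr_or_neg {X : Type u} [Group X] {α : X → ℂ}
    (hα : IsIrrCharacter X α ∨ IsIrrCharacter X (-α)) : IsClassFunction X α := by
  rcases hα with hα | hα
  · exact isIrr_isClassFunction hα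
  · intro g h
    have := isIrr_isClassFunction hα g h
    simpa using this

/-- There is an element of `W₁ ⊔ W₂` outside `W₁ ∪ W₂`. -/
theorem exists_off {G : Type u} [Group G] {W₁ W₂ : Subgroup G} (h₁ : W₁ ≠ ⊥) (h₂ : W₂ ≠ ⊥)
    (hdisj : W₁ ⊓ W₂ = ⊥) :
    ∃ w : ↥(W₁ ⊔ W₂), (w : G) ∉ W₁ ∧ (w : G) ∉ W₂ := by
  obtain ⟨a, ha1⟩ := Subgroup.ne_bot_iff_exists_ne_one.mp h₁
  obtain ⟨b, hb1⟩ := Subgroup.ne_bot_iff_exists_ne_one.mp h₂
  have ha : (a : G) ∈ W₁ := a.2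
  have hb : (b : G) ∈ W₂ := b.2
  refine ⟨⟨(a : G) * (b : G), (W₁ ⊔ W₂).mul_mem (Subgroup.mem_sup_left ha)
    (Subgroup.mem_sup_right hb)⟩, ?_, ?_⟩
  · intro h
    have hb' : (b : G) ∈ W₁ := (W₁.mul_mem_cancel_left ha).mp h
    have : (b : G) ∈ W₁ ⊓ W₂ := ⟨hb', hb⟩
    rw [hdisj, Subgroup.mem_bot] at this
    exact hb1 (Subtype.ext this)
  · intro h
    have ha' : (a : G) ∈ W₂ := (W₂.mul_mem_cancel_right hb).mp h
    have : (a : G) ∈ W₁ ⊓ W₂ := ⟨ha, ha'⟩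
    rw [hdisj, Subgroup.mem_bot] at this
    exact ha1 (Subtype.ext this)

/-- A nontrivial commutative group of odd order has a linear character different from two given
ones. -/
theorem exists_third {H : Type u} [Group H] [Finite H] (hcomm : ∀ a b : H, a * b = b * a)
    (hodd : Odd (Nat.card H)) (hne : Nat.card H ≠ 1) (α β : H →* ℂˣ) :
    ∃ γ : H →* ℂˣ, γ ≠ α ∧ γ ≠ β := by
  classical
  have := finite_hom hcomm
  have := Fintype.ofFinite (H →* ℂˣ)
  have h3 : 3 ≤ Nat.card (H →* ℂˣ) := by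
    rw [card_hom hcomm]
    obtain ⟨k, hk⟩ := hodd
    omega
  by_contra hcon
  push Not at hcon
  have hsub : (Finset.univ : Finset (H →* ℂˣ)) ⊆ {α, β} := by
    intro γ _
    rw [Finset.mem_insert, Finset.mem_singleton]
    by_cases h : γ = α
    · exact Or.inl h
    · exact Or.inr (hcon γ h)
  have h4 := Finset.card_le_card hsub
  rw [Finset.card_univ, ← Nat.card_eq_fintype_card] at h4
  have h5 : ({α, β} : Finset (H →* ℂˣ)).card ≤ 2 := Finset.card_le_two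
  omega

/-- An irreducible character up to sign that agrees with `ω` on `W` outside `W₁ ∪ W₂` is `χ ω`. -/
theorem eq_of_eq_on {G : Type u} [Group G] [Fintype G] {W₁ W₂ : Subgroup G}
    (hW : IsSelfNormalizingCyclic W₁ W₂) (hodd : Odd (Nat.card ↥(W₁ ⊔ W₂)))
    {χ : (↥(W₁ ⊔ W₂) →* ℂˣ) → (G → ℂ)} (hχ : IsCyclicTIFamily W₁ W₂ χ) {θ : G → ℂ}
    (hθ : IsIrrCharacter G θ ∨ IsIrrCharacter G (-θ)) (ω : ↥(W₁ ⊔ W₂) →* ℂˣ)
    (hV : ∀ w : ↥(W₁ ⊔ W₂), (w : G) ∉ W₁ → (w : G) ∉ W₂ → θ w = (ω w : ℂ)) : θ = χ ω := by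
  classical
  obtain ⟨h₁, h₂, hdisj, hcomm, hcyc, -⟩ := hW
  have habel : ∀ a b : ↥(W₁ ⊔ W₂), a * b = b * a := by
    intro a b
    let _ := IsCyclic.commGroup (α := ↥(W₁ ⊔ W₂))
    exact mul_comm a b
  have hab₁ : ∀ a b : W₁, a * b = b * a := by
    intro a b
    have := congrArg (Subtype.val) (habel ⟨a, Subgroup.mem_sup_left a.2⟩ ⟨b, Subgroup.mem_sup_left b.2⟩)
    exact Subtype.ext this
  have hab₂ : ∀ a b : W₂, a * b = b * a := by
    intro a b
    have := congrArg (Subtype.val) (habel ⟨a, Subgroup.mem_sup_right a.2⟩ ⟨b, Subgroup.mem_sup_right b.2⟩)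
    exact Subtype.ext this
  have hodd₁ : Odd (Nat.card W₁) :=
    hodd.of_dvd_nat (Subgroup.card_dvd_of_le le_sup_left)
  have hodd₂ : Odd (Nat.card W₂) :=
    hodd.of_dvd_nat (Subgroup.card_dvd_of_le le_sup_right)
  have hne₁ : Nat.card W₁ ≠ 1 := fun h => h₁ (Subgroup.card_eq_one.mp h)
  have hne₂ : Nat.card W₂ ≠ 1 := fun h => h₂ (Subgroup.card_eq_one.mp h)
  obtain ⟨w₀, hw₀₁, hw₀₂⟩ := exists_off h₁ h₂ hdisj
  have hself : ∀ ω', classInner (χ ω') (χ ω') = 1 := by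
    intro ω'
    rw [hχ.orthonormal, if_pos rfl]
  by_cases h0 : classInner θ (χ ω) = 0
  swap
  · rcases eq_or_eq_neg_of_inner_ne_zero hθ (hχ.irr_or_neg ω) h0 with h | h
    · exact h
    · exfalso
      have h3 := hV w₀ hw₀₁ hw₀₂
      have h4 := hχ.eq_on ω w₀ hw₀₁ hw₀₂
      rw [h, Pi.neg_apply, h4] at h3
      have h5 : (ω w₀ : ℂ) ≠ 0 := (ω w₀).ne_zero
      apply h5
      linear_combination (-1/2 : ℂ) * h3
  exfalso
  -- coefficients of θ - χ ω
  have hcl : IsClassFunction G (θ - χ ω) := by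
    intro g h
    rw [Pi.sub_apply, Pi.sub_apply, isClassFunction_of_irr_or_neg hθ g h,
      isClassFunction_of_irr_or_neg (hχ.irr_or_neg ω) g h]
  have hclV : ∀ w : ↥(W₁ ⊔ W₂), (w : G) ∉ W₁ → (w : G) ∉ W₂ → (θ - χ ω) w = 0 := by
    intro w hw₁ hw₂
    rw [Pi.sub_apply, hV w hw₁ hw₂, hχ.eq_on ω w hw₁ hw₂, sub_self]
  set b : (↥(W₁ ⊔ W₂) →* ℂˣ) → ℂ := fun ω' => classInner (θ - χ ω) (χ ω') with hb
  have hbmul : ∀ φ ψ : ↥(W₁ ⊔ W₂) →* ℂˣ, (∀ w : ↥(W₁ ⊔ W₂), (w : G) ∈ W₂ → φ w = 1) →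
      (∀ w : ↥(W₁ ⊔ W₂), (w : G) ∈ W₁ → ψ w = 1) → b (φ * ψ) + b 1 = b φ + b ψ :=
    fun φ ψ hφ hψ => coeff_mul W₁ W₂ χ hχ (θ - χ ω) hcl hclV φ ψ hφ hψ
  let gl : (W₁ →* ℂˣ) → (W₂ →* ℂˣ) → (↥(W₁ ⊔ W₂) →* ℂˣ) := glue W₁ W₂ hdisj hcomm
  have hgl : ∀ α β, b (gl α β) + b 1 = b (gl α 1) + b (gl 1 β) := by
    intro α β
    have h3 : gl α β = gl α 1 * gl 1 β := glue_eq_mul hdisj hcomm α β
    rw [h3]
    apply hbmul
    · intro w hw
      show glue W₁ W₂ hdisj hcomm α 1 w = 1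
      rw [glue_right hdisj hcomm α 1 w hw]; rfl
    · intro w hw
      show glue W₁ W₂ hdisj hcomm 1 β w = 1
      rw [glue_left hdisj hcomm 1 β w hw]; rfl
  have hrect : ∀ α α' β β', b (gl α β) + b (gl α' β') = b (gl α β') + b (gl α' β) := by
    intro α α' β β'
    linear_combination hgl α β + hgl α' β' - hgl α β' - hgl α' β
  have hbij := glue_bijective hdisj hcomm
  have hinj : ∀ α α' β β', gl α β = gl α' β' → α = α' ∧ β = β' := by
    intro α α' β β' h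
    have := hbij.1 (show (fun p : (W₁ →* ℂˣ) × (W₂ →* ℂˣ) => glue W₁ W₂ hdisj hcomm p.1 p.2) (α, β) =
      (fun p : (W₁ →* ℂˣ) × (W₂ →* ℂˣ) => glue W₁ W₂ hdisj hcomm p.1 p.2) (α', β') from h)
    exact ⟨congrArg Prod.fst this, congrArg Prod.snd this⟩
  obtain ⟨⟨α₀, β₀⟩, hω⟩ := hbij.2 ω
  change gl α₀ β₀ = ω at hω
  -- the (at most one) place where θ has a nonzero coefficient
  obtain ⟨α₁, β₁, hω₁⟩ : ∃ α₁ β₁, ∀ ω', ω' ≠ gl α₁ β₁ → classInner θ (χ ω') = 0 := by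
    by_cases hall : ∀ ω', classInner θ (χ ω') = 0
    · exact ⟨1, 1, fun ω' _ => hall ω'⟩
    · push Not at hall
      obtain ⟨ω₁, hω₁⟩ := hall
      obtain ⟨⟨α₁, β₁⟩, hαβ⟩ := hbij.2 ω₁
      change gl α₁ β₁ = ω₁ at hαβ
      refine ⟨α₁, β₁, ?_⟩
      rw [hαβ]
      intro ω' hω'
      by_contra hne
      have h5 := hχ.orthonormal ω₁ ω'
      rw [if_neg (Ne.symm hω')] at h5
      rcases eq_or_eq_neg_of_inner_ne_zero hθ (hχ.irr_or_neg ω₁) hω₁ with h6 | h6
      · rw [h6, h5] at hne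
        exact hne rfl
      · rw [h6, classInner_neg_left, h5, neg_zero] at hne
        exact hne rfl
  obtain ⟨α, hα₀, hα₁⟩ := exists_third hab₁ hodd₁ hne₁ α₀ α₁
  obtain ⟨β, hβ₀, hβ₁⟩ := exists_third hab₂ hodd₂ hne₂ β₀ β₁
  have hbval : ∀ ω', ω' ≠ gl α₁ β₁ → ω' ≠ ω → b ω' = 0 := by
    intro ω' h1 h2
    rw [hb]
    show classInner (θ - χ ω) (χ ω') = 0
    rw [classInner_sub_left, hω₁ ω' h1, hχ.orthonormal, if_neg (Ne.symm h2), sub_zero]
  have e1 : b (gl α β) = 0 := by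
    apply hbval
    · intro h; exact hα₁ (hinj _ _ _ _ h).1
    · rw [← hω]; intro h; exact hα₀ (hinj _ _ _ _ h).1
  have e2 : b (gl α β₀) = 0 := by
    apply hbval
    · intro h; exact hα₁ (hinj _ _ _ _ h).1
    · rw [← hω]; intro h; exact hα₀ (hinj _ _ _ _ h).1
  have e3 : b (gl α₀ β) = 0 := by
    apply hbval
    · intro h; exact hβ₁ (hinj _ _ _ _ h).2
    · rw [← hω]; intro h; exact hβ₀ (hinj _ _ _ _ h).2
  have e4 : b (gl α₀ β₀) = -1 := by
    rw [hω, hb]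
    show classInner (θ - χ ω) (χ ω) = -1
    rw [classInner_sub_left, h0, hself ω, zero_sub]
  have := hrect α₀ α β₀ β
  rw [e1, e2, e3, e4] at this
  norm_num at this

/-- The linear character obtained by applying a field automorphism of `ℂ` to the values. -/
noncomputable def mapHom {H : Type u} [Group H] (σ : ℂ ≃+* ℂ) (ω : H →* ℂˣ) : H →* ℂˣ :=
  (Units.map (σ : ℂ →* ℂ)).comp ω

theorem mapHom_apply {H : Type u} [Group H] (σ : ℂ ≃+* ℂ) (ω : H →* ℂˣ) (w : H) :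
    ((mapHom σ ω w : ℂˣ) : ℂ) = σ (ω w : ℂ) := rfl

/-- The family of a self-normalising cyclic subgroup is equivariant under field automorphisms. -/
theorem map_family {G : Type u} [Group G] [Fintype G] {W₁ W₂ : Subgroup G}
    (hW : IsSelfNormalizingCyclic W₁ W₂) (hodd : Odd (Nat.card ↥(W₁ ⊔ W₂)))
    {χ : (↥(W₁ ⊔ W₂) →* ℂˣ) → (G → ℂ)} (hχ : IsCyclicTIFamily W₁ W₂ χ) (σ : ℂ ≃+* ℂ)
    (ω : ↥(W₁ ⊔ W₂) →* ℂˣ) : (fun g => σ (χ ω g)) = χ (mapHom σ ω) := by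
  apply eq_of_eq_on hW hodd hχ
  · rcases hχ.irr_or_neg ω with h | h
    · exact Or.inl (GaloisTwist.isIrrCharacter_map σ h)
    · right
      have := GaloisTwist.isIrrCharacter_map σ h
      have h2 : (fun g => σ ((-χ ω) g)) = -(fun g => σ (χ ω g)) := by
        funext g
        rw [Pi.neg_apply, map_neg]
        rfl
      rwa [h2] at this
  · intro w hw₁ hw₂
    show σ (χ ω w) = _
    rw [hχ.eq_on ω w hw₁ hw₂, mapHom_apply]

/-- The complex conjugate of `χ ω` is `χ ω⁻¹`. -/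
theorem conj_family {G : Type u} [Group G] [Fintype G] {W₁ W₂ : Subgroup G}
    (hW : IsSelfNormalizingCyclic W₁ W₂) (hodd : Odd (Nat.card ↥(W₁ ⊔ W₂)))
    {χ : (↥(W₁ ⊔ W₂) →* ℂˣ) → (G → ℂ)} (hχ : IsCyclicTIFamily W₁ W₂ χ)
    (ω : ↥(W₁ ⊔ W₂) →* ℂˣ) : conjFun (χ ω) = χ ω⁻¹ := by
  apply eq_of_eq_on hW hodd hχ
  · rcases hχ.irr_or_neg ω with h | h
    · exact Or.inl (isIrr_conj h)
    · right
      have := isIrr_conj h
      have h2 : (fun g => (starRingEnd ℂ) ((-χ ω) g)) = -conjFun (χ ω) := by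
        funext g
        rw [Pi.neg_apply, map_neg]
        rfl
      rwa [h2] at this
  · intro w hw₁ hw₂
    show (starRingEnd ℂ) (χ ω w) = _
    rw [hχ.eq_on ω w hw₁ hw₂]
    have hfin : IsOfFinOrder (ω w) := MonoidHom.isOfFinOrder ω (isOfFinOrder_of_finite w)
    have hnorm : ‖(ω w : ℂ)‖ = 1 := by
      obtain ⟨n, hn, hn1⟩ := isOfFinOrder_iff_pow_eq_one.mp hfin
      have h3 : (ω w : ℂ) ^ n = 1 := by
        rw [← Units.val_pow_eq_pow_val, hn1, Units.val_one]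
      exact Complex.norm_eq_one_of_pow_eq_one h3 hn.ne'
    rw [← Complex.inv_eq_conj hnorm, MonoidHom.inv_apply, Units.val_inv_eq_inv_val]

end Cfsg.Agent.OddOrderCharacters.CyclicTIUnique
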