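import Cfsg.Prelude.Def_Characters
import Cfsg.Prelude.Def_OddOrderChar
import Cfsg.Agent.Characters.Core
set_option linter.all false

/-!
# Generalized characters of norm two

A generalized character of norm `2` vanishing at `1` is a difference of two distinct irreducible
characters; norm formulas for integer combinations of irreducible characters.
-/

set_option autoImplicit false

open scoped ComplexConjugate
open Cfsg Cfsg.Agent.Characters.Core

namespace Cfsg.Agent.OddOrderCharacters.VirtualNormTwo

universe u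

theorem conjFun_apply {X : Type u} (χ : X → ℂ) (x : X) : conjFun χ x = conj (χ x) := rfl

theorem conjFun_conjFun {X : Type u} (χ : X → ℂ) : conjFun (conjFun χ) = χ := by
  funext x
  rw [conjFun_apply, conjFun_apply, Complex.conj_conj]

theorem conjFun_sub {X : Type u} (χ ψ : X → ℂ) : conjFun (χ - ψ) = conjFun χ - conjFun ψ := by
  funext x
  rw [Pi.sub_apply, conjFun_apply, conjFun_apply, conjFun_apply, Pi.sub_apply, map_sub]

variable {G : Type u} [Group G] [Fintype G]

/-- Inner product of an integer combination of irreducibles with an irreducible. -/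
theorem classInner_sum_irr [Fintype (IrrCharacter G)] (m : IrrCharacter G → ℤ)
    (ψ : IrrCharacter G) :
    classInner (∑ χ : IrrCharacter G, m χ • (χ : G → ℂ)) (ψ : G → ℂ) = m ψ := by
  classical
  rw [classInner_sum_left]
  rw [Finset.sum_eq_single ψ]
  · have : (m ψ • (ψ : G → ℂ)) = (m ψ : ℂ) • (ψ : G → ℂ) := by
      ext g; simp
    rw [this, classInner_smul_left, classInner_irr_self ψ.2, mul_one]
  · intro χ _ hne
    have : (m χ • (χ : G → ℂ)) = (m χ : ℂ) • (χ : G → ℂ) := by
      ext g; simp
    rw [this, classInner_smul_left, classInner_irr_ne χ.2 ψ.2 (fun h => hne (Subtype.ext h)),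
      mul_zero]
  · intro h; exact absurd (Finset.mem_univ _) h

/-- Inner product of two integer combinations of irreducibles. -/
theorem classInner_sum_sum [Fintype (IrrCharacter G)] (m k : IrrCharacter G → ℤ) :
    classInner (∑ χ : IrrCharacter G, m χ • (χ : G → ℂ)) (∑ χ : IrrCharacter G, k χ • (χ : G → ℂ))
      = ((∑ χ : IrrCharacter G, m χ * k χ : ℤ) : ℂ) := by
  classical
  rw [classInner_sum_right]
  push_cast
  refine Finset.sum_congr rfl fun χ _ => ?_
  have : (k χ • (χ : G → ℂ)) = (k χ : ℂ) • (χ : G → ℂ) := by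
    ext g; simp
  rw [this, classInner_smul_right, classInner_sum_irr]
  simp [mul_comm]

/-- A generalized character of norm `2` vanishing at `1` is a difference of two distinct
irreducible characters. -/
theorem exists_sub_of_norm_two {T : G → ℂ} (hT : IsGeneralizedCharacter G T) (h1 : T 1 = 0)
    (h2 : classInner T T = 2) :
    ∃ μ ν : G → ℂ, IsIrrCharacter G μ ∧ IsIrrCharacter G ν ∧ μ ≠ ν ∧ T = μ - ν := by
  classical
  have : Finite (IrrCharacter G) := finite_irr
  have : Fintype (IrrCharacter G) := Fintype.ofFinite _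
  obtain ⟨m, rfl⟩ := isGeneralizedCharacter_iff.mp hT
  rw [classInner_sum_sum] at h2
  have h2' : ∑ χ : IrrCharacter G, m χ * m χ = 2 := by exact_mod_cast h2
  -- degrees
  choose d hd0 hd using fun χ : IrrCharacter G => isIrr_apply_one χ.2
  have h1' : ∑ χ : IrrCharacter G, m χ * (d χ : ℤ) = 0 := by
    have : ((∑ χ : IrrCharacter G, m χ * (d χ : ℤ) : ℤ) : ℂ) = 0 := by
      rw [← h1]
      push_cast
      rw [Finset.sum_apply]
      refine Finset.sum_congr rfl fun χ _ => ?_
      simp [hd]
    exact_mod_cast this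
  have hne : ∃ χ, m χ ≠ 0 := by
    by_contra hcon
    push Not at hcon
    simp [hcon] at h2'
  have hpos : ∃ χ, 0 < m χ := by
    by_contra hcon
    push Not at hcon
    obtain ⟨χ, hχ⟩ := hne
    have : ∑ χ : IrrCharacter G, m χ * (d χ : ℤ) < 0 := by
      have hlt : m χ * (d χ : ℤ) < 0 :=
        mul_neg_of_neg_of_pos (lt_of_le_of_ne (hcon χ) hχ) (by exact_mod_cast hd0 χ)
      calc ∑ χ : IrrCharacter G, m χ * (d χ : ℤ) < ∑ χ : IrrCharacter G, (0 : ℤ) :=
            Finset.sum_lt_sum (fun χ _ => mul_nonpos_of_nonpos_of_nonneg (hcon χ) (by positivity))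
              ⟨χ, Finset.mem_univ _, hlt⟩
        _ = 0 := by simp
    omega
  have hneg : ∃ χ, m χ < 0 := by
    by_contra hcon
    push Not at hcon
    obtain ⟨χ, hχ⟩ := hne
    have : 0 < ∑ χ : IrrCharacter G, m χ * (d χ : ℤ) := by
      have hlt : 0 < m χ * (d χ : ℤ) :=
        mul_pos (lt_of_le_of_ne (hcon χ) (Ne.symm hχ)) (by exact_mod_cast hd0 χ)
      calc (0 : ℤ) = ∑ χ : IrrCharacter G, (0 : ℤ) := by simp
        _ < ∑ χ : IrrCharacter G, m χ * (d χ : ℤ) :=
            Finset.sum_lt_sum (fun χ _ => mul_nonneg (hcon χ) (by positivity))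
              ⟨χ, Finset.mem_univ _, hlt⟩
    omega
  obtain ⟨μ, hμ⟩ := hpos
  obtain ⟨ν, hν⟩ := hneg
  have hμν : μ ≠ ν := by rintro rfl; omega
  have hsplit : ∑ χ : IrrCharacter G, m χ * m χ
      = m μ * m μ + (m ν * m ν + ∑ χ ∈ (Finset.univ.erase μ).erase ν, m χ * m χ) := by
    rw [Finset.add_sum_erase _ (fun χ => m χ * m χ) (by simp [hμν.symm]),
      Finset.add_sum_erase _ (fun χ => m χ * m χ) (Finset.mem_univ _)]
  have hrest : 0 ≤ ∑ χ ∈ (Finset.univ.erase μ).erase ν, m χ * m χ :=
    Finset.sum_nonneg fun χ _ => mul_self_nonneg _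
  have hμ1 : m μ = 1 := by nlinarith
  have hν1 : m ν = -1 := by nlinarith
  have hzero : ∑ χ ∈ (Finset.univ.erase μ).erase ν, m χ * m χ = 0 := by
    rw [hμ1, hν1] at hsplit; linarith
  rw [Finset.sum_eq_zero_iff_of_nonneg (fun χ _ => mul_self_nonneg _)] at hzero
  have hz : ∀ χ, χ ≠ μ → χ ≠ ν → m χ = 0 := by
    intro χ h1 h2
    have := hzero χ (by simp [h1, h2])
    exact mul_self_eq_zero.mp this
  refine ⟨μ, ν, μ.2, ν.2, fun h => hμν (Subtype.ext h), ?_⟩
  rw [← Finset.add_sum_erase _ _ (Finset.mem_univ μ),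
    ← Finset.add_sum_erase _ _ (show ν ∈ Finset.univ.erase μ by simp [hμν.symm])]
  rw [Finset.sum_eq_zero (s := (Finset.univ.erase μ).erase ν)]
  · rw [hμ1, hν1]; simp [sub_eq_add_neg]
  · intro χ hχ
    simp only [Finset.mem_erase, Finset.mem_univ, and_true] at hχ
    rw [hz χ hχ.2 hχ.1, zero_smul]

/-- If `T = μ - ν` is a difference of distinct irreducible characters and `T` is sent to `-T` by
complex conjugation, then `ν` is the conjugate of `μ`. -/
theorem conj_eq_of_sub {μ ν : G → ℂ} (hμ : IsIrrCharacter G μ) (hν : IsIrrCharacter G ν)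
    (hne : μ ≠ ν) (h : conjFun (μ - ν) = -(μ - ν)) : ν = conjFun μ := by
  have hμ' : IsIrrCharacter G (conjFun μ) := isIrr_conj hμ
  have hν' : IsIrrCharacter G (conjFun ν) := isIrr_conj hν
  have hne' : conjFun ν ≠ conjFun μ := by
    intro h'
    apply hne
    funext g
    have := congrFun h' g
    rw [conjFun_apply, conjFun_apply] at this
    exact ((starRingEnd ℂ).injective this).symm
  have h' : conjFun μ - conjFun ν = ν - μ := by
    rw [← conjFun_sub, h]; simp
  by_contra hcon
  have e1 : classInner (conjFun μ - conjFun ν) (conjFun μ) = 1 := by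
    rw [classInner_sub_left, classInner_irr_self hμ', classInner_irr_ne hν' hμ' hne', sub_zero]
  rw [h', classInner_sub_left, classInner_irr_ne hν hμ' hcon, zero_sub] at e1
  by_cases hc : μ = conjFun μ
  · rw [← hc, classInner_irr_self hμ] at e1
    norm_num at e1
  · rw [classInner_irr_ne hμ hμ' hc] at e1
    norm_num at e1

end Cfsg.Agent.OddOrderCharacters.VirtualNormTwo
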