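import Cfsg.Agent.OddOrderCharacters.PF7IndBasic
import Cfsg.Agent.OddOrderCharacters.PF7Bound
import Cfsg.Agent.S1501
set_option linter.all false

/-!
# Peterfalvi (7.7)–(7.8)

`H ⊴ L ≤ G`, the Dade hypothesis holds for `A = H \ {1}` and `L`, and the set of characters of `L` induced
from the nonprincipal irreducible characters of `H` is coherent.
-/

set_option autoImplicit false

open scoped ComplexConjugate
open Cfsg Cfsg.Agent.OddOrderCharacters.PFDefs Cfsg.Agent.OddOrderCharacters.PF7IndBasic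
open Cfsg.Agent.Characters.Core Cfsg.Agent.OddOrderCharacters.VChar

namespace Cfsg.Agent.OddOrderCharacters.PF7Ind

variable {G : Type*} [Group G] [Fintype G]

/-- The Dade map and its adjoint form an adjoint pair. -/
theorem adjPair {L H : Subgroup G} [Fintype ↥L] {R : G → Subgroup G} (hI : IndHyp L H R) :
    PF7Abstract.AdjPair (PF7Abstract.sharp (H.subgroupOf L))
      (dadeIsometry (sharp H) L R) (rho (sharp H) L R) := by
  have hmem : ∀ x : ↥L, x ∈ PF7Abstract.sharp (H.subgroupOf L) ↔ (x : G) ∈ sharp H := by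
    intro x
    constructor
    · rintro ⟨h1, h2⟩
      exact ⟨Subgroup.mem_subgroupOf.mp h1, fun h => h2 (Subtype.ext h)⟩
    · rintro ⟨h1, h2⟩
      exact ⟨Subgroup.mem_subgroupOf.mpr h1, fun h => h2 (by rw [h]; rfl)⟩
  have hsupp : ∀ {α : ↥L → ℂ}, (∀ x, x ∉ PF7Abstract.sharp (H.subgroupOf L) → α x = 0) →
      ∀ x : ↥L, (x : G) ∉ sharp H → α x = 0 := fun h x hx => h x (fun h' => hx ((hmem x).mp h'))
  refine ⟨?_, ?_, ?_, ?_, ?_, ?_⟩
  · intro α hα h0 χ hχ
    exact PF7Rho.dade_reciprocity hI.dade hα (hsupp h0) hχ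
  · intro α hα h0 β hβ h0'
    exact DadeBasic.classInner_dadeIsometry hI.dade hα (hsupp h0) hβ
  · intro α hα _
    exact DadeBasic.dadeIsometry_isClassFunction hI.dade hα
  · intro χ hχ
    exact PF7Rho.rho_isClassFunction hI.dade hχ
  · intro χ x hx
    exact PF7Rho.rho_of_notMem χ (fun h => hx ((hmem x).mpr h))
  · intro x hx
    exact PF7Rho.rho_one ((hmem x).mp hx)

/-- (7.7)(a) -/
theorem rho_eq_sum {L H : Subgroup G} [Fintype ↥L] {R : G → Subgroup G} (hI : IndHyp L H R)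
    {ξ₀ : ↥L → ℂ} (hξ₀ : ξ₀ ∈ indT L H) {χ : G → ℂ} (hχ : IsClassFunction G χ) {x : ↥L}
    (hx : (x : G) ∈ sharp H) :
    rho (sharp H) L R χ x = ∑ᶠ ξ ∈ indT L H,
      (conj (classInner (dadeIsometry (sharp H) L R (ξ - (ξ 1 / ξ₀ 1) • ξ₀)) χ) /
        classInner ξ ξ) * ξ x := by
  classical
  set d := rho (sharp H) L R χ with hd
  have hfin : (indT L H).Finite := indT_finite
  have hdc : IsClassFunction ↥L d := PF7Rho.rho_isClassFunction hI.dade hχ
  have hd0 : ∀ x : ↥L, (x : G) ∉ H → d x = 0 := fun x hx =>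
    PF7Rho.rho_of_notMem χ (fun h => hx h.1)
  have hexp := congrFun (eq_sum_indT hI.le hI.normal hdc hd0) x
  rw [finsum_mem_eq_finite_toFinset_sum _ hfin, Finset.sum_apply] at hexp
  rw [hexp, finsum_mem_eq_finite_toFinset_sum _ hfin]
  have hzero := sum_indT_apply hI.le hI.normal x (fun h => hx.2 (by rw [h]; rfl))
  rw [finsum_mem_eq_finite_toFinset_sum _ hfin] at hzero
  have hξ₀1 : ξ₀ 1 ≠ 0 := one_ne_zero' hξ₀
  have key : ∀ ξ ∈ hfin.toFinset, ((classInner d ξ / classInner ξ ξ) • ξ) x =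
      (conj (classInner (dadeIsometry (sharp H) L R (ξ - (ξ 1 / ξ₀ 1) • ξ₀)) χ) /
        classInner ξ ξ) * ξ x +
      (classInner d ξ₀ / ξ₀ 1) * ((ξ 1 / classInner ξ ξ) * ξ x) := by
    intro ξ hξ
    have hξ' : ξ ∈ indT L H := by rwa [Set.Finite.mem_toFinset] at hξ
    have hαc : IsClassFunction ↥L (ξ - (ξ 1 / ξ₀ 1) • ξ₀) := by
      intro g h
      simp only [Pi.sub_apply, Pi.smul_apply]
      rw [indT_class hξ' g h, indT_class hξ₀ g h]
    have hα0 : ∀ y : ↥L, (y : G) ∉ sharp H → (ξ - (ξ 1 / ξ₀ 1) • ξ₀) y = 0 := by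
      intro y hy
      simp only [Pi.sub_apply, Pi.smul_apply, smul_eq_mul]
      by_cases hyH : (y : G) ∈ H
      · have : y = 1 := by
          by_contra h
          exact hy ⟨hyH, fun h' => h (Subtype.ext h')⟩
        rw [this, div_mul_cancel₀ _ hξ₀1, sub_self]
      · rw [apply_of_notMem hI.le hI.normal hξ' hyH, apply_of_notMem hI.le hI.normal hξ₀ hyH]
        ring
    rw [PF7Rho.dade_reciprocity hI.dade hαc hα0 hχ, classInner_conj_symm, ← hd,
      classInner_sub_right, classInner_smul_right, map_div₀, conj_one hξ', conj_one hξ₀]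
    show classInner d ξ / classInner ξ ξ * ξ x = _
    field_simp
    ring
  rw [Finset.sum_congr rfl key, Finset.sum_add_distrib, ← Finset.mul_sum, hzero, mul_zero,
    add_zero]

/-- Hypothesis of (7.8): `S = indS L H` is coherent with the isometry `ν`, and `ζ ∈ S` is irreducible of
degree `e = |L:H|`. -/
structure CohHyp (L H : Subgroup G) [Fintype ↥L] (R : G → Subgroup G)
    (ν : (↥L → ℂ) → (G → ℂ)) (ζ : ↥L → ℂ) : Prop extends IndHyp L H R where
  isom : IsLinearIsometryOn (zspan (indS L H)) ν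
  ext : ∀ α ∈ zspanOn (indS L H) {1}ᶜ, ν α = dadeIsometry (sharp H) L R α
  mem : ζ ∈ indS L H
  irr : IsIrrCharacter ↥L ζ
  deg : ζ 1 = (H.relIndex L : ℂ)

section coh

variable {L H : Subgroup G} [Fintype ↥L] {R : G → Subgroup G} {ν : (↥L → ℂ) → (G → ℂ)}
  {ζ : ↥L → ℂ}

/-- `β = (Ind 1_H - ζ)^τ` -/
noncomputable def dbeta (L H : Subgroup G) [Fintype ↥L] (R : G → Subgroup G) (ζ : ↥L → ℂ) : G → ℂ :=
  dadeIsometry (sharp H) L R (ind1 L H - ζ)

omit [Fintype G] in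
theorem dbeta_eq : dbeta L H R ζ =
    PF7Abstract.beta (H.subgroupOf L) (dadeIsometry (sharp H) L R) ζ := rfl

theorem ind1_sub_supp (hC : CohHyp L H R ν ζ) (x : ↥L) (hx : (x : G) ∉ sharp H) :
    (ind1 L H - ζ) x = 0 := by
  have _ := subgroupOf_normal hC.normal
  refine PF7Abstract.indOne_sub_supp (K := H.subgroupOf L) hC.mem hC.deg x ?_
  rintro ⟨h1, h2⟩
  exact hx ⟨Subgroup.mem_subgroupOf.mp h1, fun h => h2 (Subtype.ext h)⟩

theorem ind1_sub_class (hC : CohHyp L H R ν ζ) : IsClassFunction ↥L (ind1 L H - ζ) :=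
  PF7Abstract.indOne_sub_class (K := H.subgroupOf L) hC.mem

theorem dbeta_isClassFunction (hC : CohHyp L H R ν ζ) : IsClassFunction G (dbeta L H R ζ) :=
  DadeBasic.dadeIsometry_isClassFunction hC.dade (ind1_sub_class hC)

/-- `β` is a generalized character (via S1501). -/
theorem dbeta_gen (hC : CohHyp L H R ν ζ) : IsGeneralizedCharacter G (dbeta L H R ζ) := by
  refine S1501.result (sharp H) L R hC.dade _ ?_ (ind1_sub_supp hC)
  exact gen_sub (gen_of_char (isCharacter_of_mem_indT ind1_mem_indT)) (gen_of_irr hC.irr)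

theorem nu_gen (hC : CohHyp L H R ν ζ) {ξ : ↥L → ℂ} (hξ : ξ ∈ indS L H) :
    IsGeneralizedCharacter G (ν ξ) :=
  lin_gen hC.isom (zspan_subset hξ)

theorem dbeta_one (hC : CohHyp L H R ν ζ) : classInner (dbeta L H R ζ) 1 = 1 := by
  have _ := subgroupOf_normal hC.normal
  exact PF7Bound.beta_inner_one (adjPair hC.toIndHyp) hC.mem hC.deg

theorem norm_beta (hC : CohHyp L H R ν ζ) :
    classInner (dbeta L H R ζ) (dbeta L H R ζ) = H.relIndex L + 1 := by
  have _ := subgroupOf_normal hC.normal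
  rw [dbeta_eq, PF7Bound.beta_norm (adjPair hC.toIndHyp) hC.mem hC.deg,
    classInner_irr_self hC.irr]
  rfl

/-- `⟨β, νξ⟩` in terms of `⟨β, νζ⟩`. -/
theorem dbeta_nu (hC : CohHyp L H R ν ζ) {ξ : ↥L → ℂ} (hξ : ξ ∈ indS L H) :
    classInner (dbeta L H R ζ) (ν ξ) =
      (ξ 1 / H.relIndex L) * (classInner (dbeta L H R ζ) (ν ζ) + 1) - classInner ζ ξ := by
  have _ := subgroupOf_normal hC.normal
  have h := PF7Bound.beta_nu_inner (adjPair hC.toIndHyp) hC.isom hC.ext hC.mem hC.deg hξ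
  rw [← dbeta_eq, classInner_irr_self hC.irr] at h
  rw [h]
  have h1 := PF7Bound.deg_eq (K := H.subgroupOf L) hξ
  have h2 : (H.relIndex L : ℂ) ≠ 0 := relIndex_ne_zero
  have h3 : (PF7Bound.deg (H.subgroupOf L) ξ : ℂ) = ξ 1 / H.relIndex L := by
    rw [h1]
    show _ = ((H.subgroupOf L).index : ℂ) * _ / ((H.subgroupOf L).index : ℂ)
    exact (mul_div_cancel_left₀ _ h2).symm
  rw [h3]

/-- the integer `a` of (7.8) -/
theorem exists_a (hC : CohHyp L H R ν ζ) :
    ∃ a : ℤ, classInner (dbeta L H R ζ) (ν ζ) = a - 1 ∧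
      ∀ ξ ∈ indS L H, classInner (dbeta L H R ζ + ν ζ) (ν ξ) = a * (ξ 1 / H.relIndex L) := by
  obtain ⟨n, hn⟩ := gen_inner (dbeta_gen hC) (nu_gen hC hC.mem)
  refine ⟨n + 1, by rw [hn]; push_cast; ring, fun ξ hξ => ?_⟩
  rw [classInner_add_left, dbeta_nu hC hξ, lin_inner hC.isom (zspan_subset hC.mem)
    (zspan_subset hξ), hn]
  push_cast
  ring

/-- the `νξ` are orthogonal to the principal character -/
theorem nu_one (hC : CohHyp L H R ν ζ) (hζ : conjFun ζ ≠ ζ) {ξ : ↥L → ℂ} (hξ : ξ ∈ indS L H) :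
    classInner (ν ξ) 1 = 0 := by
  have _ := subgroupOf_normal hC.normal
  exact PF7Bound.nu_orth_one (adjPair hC.toIndHyp) hC.isom hC.ext hC.mem hC.irr hC.deg hζ hξ

theorem card_H (hC : CohHyp L H R ν ζ) : Nat.card (H.subgroupOf L) = Nat.card H :=
  card_subgroupOf hC.le

/-- `2e + 1 ≤ h` as soon as `ζ` is not real. -/
theorem two_relIndex_le (hC : CohHyp L H R ν ζ) (hζ : conjFun ζ ≠ ζ) :
    2 * H.relIndex L + 1 ≤ Nat.card H := by
  have _ := subgroupOf_normal hC.normal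
  have h := PF7Bound.two_index_le (K := H.subgroupOf L) hC.mem hC.irr hC.deg hζ
  rw [card_H hC] at h
  exact h

/-- (7.8)(a) -/
theorem exists_gamma (hC : CohHyp L H R ν ζ) (hζ : conjFun ζ ≠ ζ) {a : ℤ}
    (ha : classInner (dbeta L H R ζ) (ν ζ) = a - 1) :
    ∃ Γ : G → ℂ, IsClassFunction G Γ ∧ classInner Γ 1 = 0 ∧
      (∀ ξ ∈ indS L H, classInner Γ (ν ξ) = 0) ∧
      dbeta L H R ζ = 1 - ν ζ + (a : ℂ) •
        (∑ᶠ ξ ∈ indS L H, (ξ 1 / (H.relIndex L * classInner ξ ξ)) • ν ξ) + Γ ∧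
      classInner Γ Γ = H.relIndex L - 1 + 2 * a - a ^ 2 * ((Nat.card H - 1) / H.relIndex L) := by
  classical
  have _ := subgroupOf_normal hC.normal
  have hfin : (indS L H).Finite := indS_finite
  obtain ⟨Γ, h1, h2, h3, h4, h5⟩ := PF7Bound.exists_gamma (adjPair hC.toIndHyp) hC.isom hC.ext
    hfin.toFinset hfin.coe_toFinset hC.mem hC.irr hC.deg hζ ha
  refine ⟨Γ, h1, h2, h3, ?_, ?_⟩
  · rw [dbeta_eq, h4, finsum_mem_eq_finite_toFinset_sum _ hfin]
    congr 3
    refine Finset.sum_congr rfl fun ξ hξ => ?_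
    have hξ' : ξ ∈ indS L H := by rwa [Set.Finite.mem_toFinset] at hξ
    congr 1
    have e1 := PF7Bound.deg_eq (K := H.subgroupOf L) hξ'
    have e2 : (H.relIndex L : ℂ) ≠ 0 := relIndex_ne_zero
    rw [e1, ← div_div]
    congr 1
    exact (mul_div_cancel_left₀ _ e2).symm
  · rw [h5, card_H hC]
    rfl

/-- (7.8)(b): `‖Γ‖² ≤ e - 1`. -/
theorem norm_gamma_le (hC : CohHyp L H R ν ζ) (he : 2 * H.relIndex L ≤ Nat.card H - 1) (a : ℤ) :
    (H.relIndex L : ℝ) - 1 + 2 * a - (a : ℝ) ^ 2 * (((Nat.card H : ℝ) - 1) / H.relIndex L) ≤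
      (H.relIndex L : ℝ) - 1 := by
  have h0 : 0 < H.relIndex L := by
    rcases Nat.eq_zero_or_pos (H.relIndex L) with h | h
    · exact absurd (by rw [h]; simp : (H.relIndex L : ℂ) = 0) relIndex_ne_zero
    · exact h
  have _ := hC.le
  refine PF7Bound.gamma_le h0 ?_ a
  have : 0 < Nat.card H := Nat.card_pos
  omega

/-- (7.8)(b), Bessel form: if `e ≤ (h-1)/2`, then an orthonormal family of class functions orthogonal to
`1` and to all `νξ` satisfies `∑ |⟨β, χ⟩|² ≤ e - 1`. -/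
theorem sum_inner_beta_le (hC : CohHyp L H R ν ζ) (hζ : conjFun ζ ≠ ζ)
    (he : 2 * H.relIndex L ≤ Nat.card H - 1) (X : Finset (G → ℂ))
    (_hXc : ∀ χ ∈ X, IsClassFunction G χ)
    (hX : ∀ χ ∈ X, ∀ ψ ∈ X, classInner χ ψ = @ite ℂ (χ = ψ) (Classical.propDecidable _) 1 0)
    (hX1 : ∀ χ ∈ X, classInner χ 1 = 0) (hXν : ∀ χ ∈ X, ∀ ξ ∈ indS L H, classInner χ (ν ξ) = 0) :
    ∑ χ ∈ X, ‖classInner (dbeta L H R ζ) χ‖ ^ 2 ≤ (H.relIndex L : ℝ) - 1 := by
  classical
  obtain ⟨a, ha, -⟩ := exists_a hC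
  obtain ⟨Γ, -, -, -, h4, h5⟩ := exists_gamma hC hζ ha
  have hfin : (indS L H).Finite := indS_finite
  have hself : ∀ χ ∈ X, classInner χ χ = 1 := fun χ hχ => by
    rw [hX χ hχ χ hχ, if_pos rfl]
  have hb := PF7Bound.bessel (T := X) (f := fun χ => χ)
    (fun χ hχ ψ hψ hne => by
      show classInner χ ψ = 0
      rw [hX χ hχ ψ hψ, if_neg hne])
    (fun χ hχ => by
      show classInner χ χ ≠ 0
      rw [hself χ hχ]; exact one_ne_zero) Γ
  have hin : ∀ χ ∈ X, classInner (dbeta L H R ζ) χ = classInner Γ χ := by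
    intro χ hχ
    rw [h4, classInner_add_left, classInner_add_left, classInner_sub_left, classInner_smul_left,
      finsum_mem_eq_finite_toFinset_sum _ hfin, classInner_sum_left,
      classInner_comm_eq_zero (hX1 χ hχ), classInner_comm_eq_zero (hXν χ hχ ζ hC.mem),
      Finset.sum_eq_zero]
    · ring
    · intro ξ hξ
      rw [Set.Finite.mem_toFinset] at hξ
      rw [classInner_smul_left, classInner_comm_eq_zero (hXν χ hχ ξ hξ), mul_zero]
  have h6 : ∑ χ ∈ X, ‖classInner (dbeta L H R ζ) χ‖ ^ 2 =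
      ∑ χ ∈ X, ‖classInner Γ χ‖ ^ 2 / (classInner χ χ).re := by
    refine Finset.sum_congr rfl fun χ hχ => ?_
    rw [hin χ hχ, hself χ hχ, Complex.one_re, div_one]
  have h7 : (classInner Γ Γ).re = (H.relIndex L : ℝ) - 1 + 2 * a -
      (a : ℝ) ^ 2 * (((Nat.card H : ℝ) - 1) / H.relIndex L) := by
    rw [h5]
    have : ((H.relIndex L : ℂ) - 1 + 2 * a - a ^ 2 * (((Nat.card H : ℂ) - 1) / H.relIndex L)) =
        (((H.relIndex L : ℝ) - 1 + 2 * a -
          (a : ℝ) ^ 2 * (((Nat.card H : ℝ) - 1) / H.relIndex L) : ℝ) : ℂ) := by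
      push_cast; ring
    rw [this, Complex.ofReal_re]
  rw [h6]
  refine hb.trans ?_
  rw [h7]
  exact norm_gamma_le hC he a

/-- (7.8)(b): the value of `(νζ)^ρ` -/
theorem rho_nu_zeta (hC : CohHyp L H R ν ζ) {a : ℤ}
    (ha : classInner (dbeta L H R ζ) (ν ζ) = a - 1) {x : ↥L} (hx : (x : G) ∈ sharp H) :
    rho (sharp H) L R (ν ζ) x = ζ x + a := by
  have _ := subgroupOf_normal hC.normal
  have hx' : x ∈ PF7Abstract.sharp (H.subgroupOf L) :=
    ⟨Subgroup.mem_subgroupOf.mpr hx.1, fun h => hx.2 (by rw [h]; rfl)⟩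
  rw [PF7Bound.rho_nu (adjPair hC.toIndHyp) hC.isom hC.ext hC.mem hC.deg hC.mem x hx',
    ← dbeta_eq, ← classInner_conj_symm, classInner_add_left, ha,
    lin_inner hC.isom (zspan_subset hC.mem) (zspan_subset hC.mem), classInner_irr_self hC.irr]
  simp

/-- The value of `(νξ)^ρ` for every `ξ ∈ S`. -/
theorem rho_nu_xi (hC : CohHyp L H R ν ζ) {a : ℤ}
    (ha : classInner (dbeta L H R ζ) (ν ζ) = a - 1) {ξ : ↥L → ℂ} (hξ : ξ ∈ indS L H) {x : ↥L}
    (hx : (x : G) ∈ sharp H) :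
    rho (sharp H) L R (ν ξ) x = ξ x + a * (ξ 1 / H.relIndex L) := by
  have _ := subgroupOf_normal hC.normal
  have hx' : x ∈ PF7Abstract.sharp (H.subgroupOf L) :=
    ⟨Subgroup.mem_subgroupOf.mpr hx.1, fun h => hx.2 (by rw [h]; rfl)⟩
  rw [PF7Bound.rho_nu (adjPair hC.toIndHyp) hC.isom hC.ext hC.mem hC.deg hξ x hx',
    ← dbeta_eq, ← classInner_conj_symm, classInner_add_left, dbeta_nu hC hξ, ha,
    lin_inner hC.isom (zspan_subset hC.mem) (zspan_subset hξ)]
  have h1 : conj (ξ 1) = ξ 1 := conj_one (indS_subset hξ)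
  congr 1
  have : (ξ 1 / (H.relIndex L : ℂ) * ((a : ℂ) - 1 + 1) - classInner ζ ξ + classInner ζ ξ) =
      (a : ℂ) * (ξ 1 / H.relIndex L) := by ring
  rw [this, map_mul, map_div₀, h1]
  simp

/-- (7.8)(b) -/
theorem norm_rho_nu_zeta (hC : CohHyp L H R ν ζ) (he : 2 * H.relIndex L ≤ Nat.card H - 1) :
    1 - (H.relIndex L : ℝ) / Nat.card H ≤
      (classInner (rho (sharp H) L R (ν ζ)) (rho (sharp H) L R (ν ζ))).re := by
  have _ := subgroupOf_normal hC.normal
  obtain ⟨a, ha, -⟩ := exists_a hC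
  have h := PF7Bound.norm_rho_nu_ge (adjPair hC.toIndHyp) hC.isom hC.ext hC.mem hC.irr hC.deg ha
    (by
      rw [card_H hC]
      show 2 * H.relIndex L + 1 ≤ _
      have : 0 < Nat.card H := Nat.card_pos
      omega)
  rw [card_H hC] at h
  exact h

/-- (7.8)(c) -/
theorem rho_of_orthogonal (hC : CohHyp L H R ν ζ) {χ : G → ℂ} (hχ : IsClassFunction G χ)
    (hχν : ∀ ξ ∈ indS L H, classInner χ (ν ξ) = 0) {x : ↥L} (hx : (x : G) ∈ sharp H) :
    rho (sharp H) L R χ x = classInner χ (dbeta L H R ζ) := by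
  have _ := subgroupOf_normal hC.normal
  have hx' : x ∈ PF7Abstract.sharp (H.subgroupOf L) :=
    ⟨Subgroup.mem_subgroupOf.mpr hx.1, fun h => hx.2 (by rw [h]; rfl)⟩
  exact PF7Bound.rho_const (adjPair hC.toIndHyp) hC.isom hC.ext hC.mem hC.deg hχ hχν x hx'

/-- (7.8)(c) -/
theorem norm_rho_of_orthogonal (hC : CohHyp L H R ν ζ) {χ : G → ℂ} (hχ : IsClassFunction G χ)
    (hχν : ∀ ξ ∈ indS L H, classInner χ (ν ξ) = 0) :
    (classInner (rho (sharp H) L R χ) (rho (sharp H) L R χ)).re =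
      (Nat.card H - 1 : ℝ) / Nat.card ↥L * ‖classInner χ (dbeta L H R ζ)‖ ^ 2 := by
  have _ := subgroupOf_normal hC.normal
  have h := PF7Bound.norm_rho_const (K := H.subgroupOf L) (adjPair hC.toIndHyp) (χ := χ)
    (PF7Bound.rho_const (adjPair hC.toIndHyp) hC.isom hC.ext hC.mem hC.deg hχ hχν)
  rw [h, card_H hC, ← dbeta_eq, Complex.mul_conj, Complex.normSq_eq_norm_sq]
  have : (((‖classInner χ (dbeta L H R ζ)‖ ^ 2 : ℝ) : ℂ) *
      (((Nat.card H : ℂ) - 1) / (Nat.card L : ℂ))) =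
      (((Nat.card H - 1 : ℝ) / Nat.card ↥L * ‖classInner χ (dbeta L H R ζ)‖ ^ 2 : ℝ) : ℂ) := by
    push_cast; ring
  rw [this, Complex.ofReal_re]

end coh

end Cfsg.Agent.OddOrderCharacters.PF7Ind
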