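import Cfsg.Agent.OddOrderCharacters.PivotFour
set_option linter.all false

/-!
# The combinatorial half of Peterfalvi (3.5): the general case
-/

set_option autoImplicit false

namespace Cfsg.Agent.OddOrderCharacters.PivotMain

open Matrix Cfsg.Agent.OddOrderCharacters.Pivot Cfsg.Agent.OddOrderCharacters.PivotFour

variable {ι : Type*} [Fintype ι]

/-- Vectors of norm two with pairwise inner products one, not exactly three in number, share a unit
vector. -/
theorem star {J : Type*} [Fintype J] [DecidableEq J] (c : J → ι → ℤ)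
    (hc : ∀ j j', c j ⬝ᵥ c j' = if j = j' then 2 else 1) (hJ2 : 2 ≤ Fintype.card J)
    (hJ3 : Fintype.card J ≠ 3) : ∃ x : ι → ℤ, x ⬝ᵥ x = 1 ∧ ∀ j, c j ⬝ᵥ x = 1 := by
  obtain ⟨j0, j1, h01⟩ := Fintype.one_lt_card_iff.mp (by omega : 1 < Fintype.card J)
  -- a general dichotomy
  have dich : ∀ (p q : ι → ℤ) (j : J), p ⬝ᵥ p = 1 → q ⬝ᵥ q = 1 → p ⬝ᵥ q = 0 →
      c j ⬝ᵥ (p + q) = 1 → (c j ⬝ᵥ p = 1 ∧ c j ⬝ᵥ q = 0) ∨ (c j ⬝ᵥ p = 0 ∧ c j ⬝ᵥ q = 1) := by
    intro p q j hp hq hpq hj
    rw [dotProduct_add] at hj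
    have hbes : (c j ⬝ᵥ p) ^ 2 + (c j ⬝ᵥ q) ^ 2 ≤ 2 := by
      have := self_nonneg (c j - (c j ⬝ᵥ p) • p - (c j ⬝ᵥ q) • q)
      simp only [sub_dotProduct, dotProduct_sub, smul_dotProduct, dotProduct_smul, hc, hp, hq,
        hpq, dotProduct_comm q p, dotProduct_comm p (c j), dotProduct_comm q (c j), smul_eq_mul,
        if_true] at this
      nlinarith
    have h1 : c j ⬝ᵥ p ≤ 1 := by nlinarith [sq_nonneg (c j ⬝ᵥ q)]
    have h2 : -1 ≤ c j ⬝ᵥ p := by nlinarith [sq_nonneg (c j ⬝ᵥ q)]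
    have h3 : c j ⬝ᵥ q ≤ 1 := by nlinarith [sq_nonneg (c j ⬝ᵥ p)]
    omega
  have key : ∀ (p q : ι → ℤ), p ⬝ᵥ p = 1 → q ⬝ᵥ q = 1 → p ⬝ᵥ q = 0 → c j0 = p + q →
      c j1 ⬝ᵥ p = 1 → c j1 ⬝ᵥ q = 0 → ∃ x : ι → ℤ, x ⬝ᵥ x = 1 ∧ ∀ j, c j ⬝ᵥ x = 1 := by
    intro p q hp hq hpq hj0 h1p h1q
    by_contra! hcon
    obtain ⟨j2, hj2⟩ := hcon p hp
    -- the third vector
    set r := c j1 - p with hr
    have hj1 : c j1 = p + r := by rw [hr]; abel
    have hrr : r ⬝ᵥ r = 1 := by
      rw [hr]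
      simp only [sub_dotProduct, dotProduct_sub, dotProduct_comm p (c j1), hc, if_true, hp, h1p]
      norm_num
    have hpr : p ⬝ᵥ r = 0 := by
      rw [hr]
      simp only [dotProduct_sub, dotProduct_comm p (c j1), hp, h1p]
      norm_num
    have hqr : q ⬝ᵥ r = 0 := by
      rw [hr]
      simp only [dotProduct_sub, dotProduct_comm q (c j1), dotProduct_comm q p, hpq, h1q]
      norm_num
    have hc0 : c j0 ⬝ᵥ p = 1 := by
      rw [hj0, add_dotProduct, dotProduct_comm q p, hp, hpq]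
      norm_num
    have h20 : j2 ≠ j0 := by
      rintro rfl
      exact hj2 hc0
    have h21 : j2 ≠ j1 := by
      rintro rfl
      exact hj2 h1p
    have a2 := dich p q j2 hp hq hpq (by rw [← hj0, hc, if_neg h20])
    have b2 := dich p r j2 hp hrr hpr (by rw [← hj1, hc, if_neg h21])
    have hj2p : c j2 ⬝ᵥ p = 0 := by omega
    have hj2q : c j2 ⬝ᵥ q = 1 := by omega
    have hj2r : c j2 ⬝ᵥ r = 1 := by omega
    have hj2' : c j2 = q + r := by
      have h0 : (c j2 - q - r) ⬝ᵥ (c j2 - q - r) = 0 := by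
        simp only [sub_dotProduct, dotProduct_sub, hc, if_true, hq, hrr, hqr,
          dotProduct_comm q (c j2), dotProduct_comm r (c j2), dotProduct_comm r q, hj2q, hj2r]
        norm_num
      have h1 := dotProduct_self_eq_zero.mp h0
      rw [sub_sub, sub_eq_zero] at h1
      exact h1
    -- a fourth index
    obtain ⟨j3, -, hj3⟩ : ∃ j3 ∈ (Finset.univ : Finset J), j3 ∉ ({j0, j1, j2} : Finset J) := by
      refine Finset.exists_mem_notMem_of_card_lt_card ?_
      have h3 : ({j0, j1, j2} : Finset J).card = 3 := by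
        rw [Finset.card_eq_three]
        exact ⟨j0, j1, j2, h01, h20.symm, h21.symm, rfl⟩
      have h3le : ({j0, j1, j2} : Finset J).card ≤ Fintype.card J := Finset.card_le_univ _
      rw [Finset.card_univ]
      omega
    simp only [Finset.mem_insert, Finset.mem_singleton, not_or] at hj3
    have a3 := dich p q j3 hp hq hpq (by rw [← hj0, hc, if_neg hj3.1])
    have b3 := dich p r j3 hp hrr hpr (by rw [← hj1, hc, if_neg hj3.2.1])
    have c3 := dich q r j3 hq hrr hqr (by rw [← hj2', hc, if_neg hj3.2.2])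
    omega
  obtain ⟨p, q, hpq, hp, hq, hpq0, -⟩ := exists_two (c j0) (by rw [hc, if_pos rfl])
  have hj1 : c j1 ⬝ᵥ (p + q) = 1 := by rw [← hpq, hc, if_neg h01.symm]
  rcases dich p q j1 hp hq hpq0 hj1 with ⟨h1, h2⟩ | ⟨h1, h2⟩
  · exact key p q hp hq hpq0 hpq h1 h2
  · refine key q p hq hp ?_ ?_ h2 h1
    · rw [dotProduct_comm]; exact hpq0
    · rw [hpq, add_comm]

section

variable {I J : Type*} [Fintype I] [Fintype J] [DecidableEq I] [DecidableEq J]
  (b : I → J → ι → ℤ)
  (hb : ∀ i j i' j', b i j ⬝ᵥ b i' j' =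
    (if i = i' then 1 else 0) + (if j = j' then 1 else 0) + (if i = i' ∧ j = j' then 1 else 0))

omit [Fintype I] [Fintype J] in
include hb in
theorem norm_eq (i : I) (j : J) : b i j ⬝ᵥ b i j = 3 := by
  rw [hb]; simp

omit [Fintype I] [Fintype J] in
include hb in
theorem col_eq {i i' : I} (h : i ≠ i') (j : J) : b i j ⬝ᵥ b i' j = 1 := by
  rw [hb]; simp [h]

omit [Fintype I] [Fintype J] in
include hb in
theorem row_eq (i : I) {j j' : J} (h : j ≠ j') : b i j ⬝ᵥ b i j' = 1 := by
  rw [hb]; simp [h]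

omit [Fintype I] [Fintype J] in
include hb in
theorem off_eq {i i' : I} (h : i ≠ i') {j j' : J} (h' : j ≠ j') : b i j ⬝ᵥ b i' j' = 0 := by
  rw [hb]; simp [h, h']

omit [Fintype I] [Fintype J] in
include hb in
theorem col_share_unique {i i' : I} (h : i ≠ i') {j j' : J} (h' : j ≠ j') (X : ι → ℤ)
    (hX : X ⬝ᵥ X = 1) (hi : b i j ⬝ᵥ X = 1) (hi' : b i' j ⬝ᵥ X = 1) (f : ι → ℤ)
    (hf : f ⬝ᵥ f = 1) (hXf : X ⬝ᵥ f = 0) : b i j ⬝ᵥ f = 0 ∨ b i' j ⬝ᵥ f = 0 := by
  refine share_unique (b i j) (b i' j) (b i j') (norm_eq b hb i j) (norm_eq b hb i' j)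
    (col_eq b hb h j) ?_ X hX hi hi' f hf hXf
  rw [dotProduct_comm (b i j') (b i j), row_eq b hb i h', off_eq b hb h h'.symm]
  decide

include hb in
/-- Every column has a pivot. -/
theorem col_pivot (hI : 4 ≤ Fintype.card I) {j j' : J} (hj : j ≠ j') :
    ∃ y : ι → ℤ, y ⬝ᵥ y = 1 ∧ ∀ i, b i j ⬝ᵥ y = 1 := by
  obtain ⟨i0, i1, h01⟩ := Fintype.one_lt_card_iff.mp (by omega : 1 < Fintype.card I)
  obtain ⟨y, hy, hy0, hy1, hyu⟩ := share (b i0 j) (b i1 j) (b i0 j') (norm_eq b hb i0 j)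
    (norm_eq b hb i1 j) (col_eq b hb h01 j) (by
      rw [dotProduct_comm (b i0 j') (b i0 j), row_eq b hb i0 hj, off_eq b hb h01 hj.symm]
      decide)
  refine ⟨y, hy, ?_⟩
  intro i
  by_cases hi0 : i = i0
  · rw [hi0]; exact hy0
  by_cases hi1 : i = i1
  · rw [hi1]; exact hy1
  obtain ⟨i3, -, hi3⟩ : ∃ i3 ∈ (Finset.univ : Finset I), i3 ∉ ({i0, i1, i} : Finset I) := by
    refine Finset.exists_mem_notMem_of_card_lt_card ?_
    have h3 : ({i0, i1, i} : Finset I).card ≤ 3 := Finset.card_le_three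
    rw [Finset.card_univ]
    omega
  simp only [Finset.mem_insert, Finset.mem_singleton, not_or] at hi3
  have hinj : Function.Injective ![i0, i1, i, i3] := by
    intro k l
    fin_cases k <;> fin_cases l <;>
      simp [h01, h01.symm, hi0, Ne.symm hi0, hi1, Ne.symm hi1, hi3.1, hi3.2.1, hi3.2.2,
        Ne.symm hi3.1, Ne.symm hi3.2.1, Ne.symm hi3.2.2]
  obtain ⟨y', hy', hpiv⟩ := exists_pivot (fun k => b (![i0, i1, i, i3] k) j)
    (fun k => b (![i0, i1, i, i3] k) j')
    (by
      intro k l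
      by_cases hkl : k = l
      · rw [if_pos hkl, hkl]; exact norm_eq b hb _ _
      · rw [if_neg hkl]; exact col_eq b hb (fun h => hkl (hinj h)) _)
    (by
      intro k l
      by_cases hkl : k = l
      · rw [if_pos hkl, hkl]; exact norm_eq b hb _ _
      · rw [if_neg hkl]; exact col_eq b hb (fun h => hkl (hinj h)) _)
    (by
      intro k l
      by_cases hkl : k = l
      · rw [if_pos hkl, hkl]; exact row_eq b hb _ hj
      · rw [if_neg hkl]; exact off_eq b hb (fun h => hkl (hinj h)) hj)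
  have q0 : b i0 j ⬝ᵥ y' = 1 := hpiv 0
  have q1 : b i1 j ⬝ᵥ y' = 1 := hpiv 1
  have q2 : b i j ⬝ᵥ y' = 1 := hpiv 2
  rcases unit_cases hy hy' with h | h | h
  · rcases hyu y' hy' h with h' | h' <;> omega
  · rw [h]; exact q2
  · rw [h, dotProduct_neg] at hy0
    omega

include hb in
/-- The pivot of a column is orthogonal to the other columns. -/
theorem col_zero (hI : 4 ≤ Fintype.card I) {j j' : J} (hj : j ≠ j') (y : ι → ℤ)
    (hy : y ⬝ᵥ y = 1) (hpiv : ∀ i, b i j ⬝ᵥ y = 1) (i : I) : b i j' ⬝ᵥ y = 0 := by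
  -- three further rows
  have hcard : 3 ≤ (Finset.univ.erase i : Finset I).card := by
    rw [Finset.card_erase_of_mem (Finset.mem_univ i), Finset.card_univ]
    omega
  obtain ⟨t, ht, ht3⟩ := Finset.exists_subset_card_eq hcard
  obtain ⟨i1, i2, i3, h12, h13, h23, rfl⟩ := Finset.card_eq_three.mp ht3
  have hi1 : i ≠ i1 := (Finset.ne_of_mem_erase (ht (by simp))).symm
  have hi2 : i ≠ i2 := (Finset.ne_of_mem_erase (ht (by simp))).symm
  have hi3 : i ≠ i3 := (Finset.ne_of_mem_erase (ht (by simp))).symm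
  by_contra hs
  set s := b i j' ⬝ᵥ y with hs_def
  have hs1 : s = 1 ∨ s = -1 := by
    have h := dot_sq_le (b i j') y
    rw [hy, norm_eq b hb, ← hs_def] at h
    have h1 : s ≤ 1 := by nlinarith
    have h2 : -1 ≤ s := by nlinarith
    omega
  -- the residue of the entry at (i, j')
  have hn : (b i j' - s • y) ⬝ᵥ (b i j' - s • y) = 2 := by
    simp only [sub_dotProduct, dotProduct_sub, smul_dotProduct, dotProduct_smul,
      dotProduct_comm y (b i j'), norm_eq b hb, hy, ← hs_def, smul_eq_mul]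
    rcases hs1 with h | h <;> rw [h] <;> norm_num
  obtain ⟨p, q, hpq, hp, hq, hpq0, hperp⟩ := exists_two _ hn
  have hry : (b i j' - s • y) ⬝ᵥ y = 0 := by
    simp only [sub_dotProduct, smul_dotProduct, hy, ← hs_def, smul_eq_mul]
    ring
  obtain ⟨hpy, hqy⟩ := hperp y hy hry
  have hyp : y ⬝ᵥ p = 0 := by rw [dotProduct_comm]; exact hpy
  have hyq : y ⬝ᵥ q = 0 := by rw [dotProduct_comm]; exact hqy
  have hbij : b i j' = s • y + (p + q) := by rw [← hpq]; abel
  have hsum : ∀ k, i ≠ k → b k j ⬝ᵥ p + b k j ⬝ᵥ q = -s := by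
    intro k hk
    have h0 : b k j ⬝ᵥ b i j' = 0 := off_eq b hb hk.symm hj
    rw [hbij, dotProduct_add, dotProduct_add, dotProduct_smul, hpiv k, smul_eq_mul] at h0
    linarith
  have s1 := hsum i1 hi1
  have s2 := hsum i2 hi2
  have s3 := hsum i3 hi3
  have p12 := col_share_unique b hb h12 hj y hy (hpiv i1) (hpiv i2) p hp hyp
  have p13 := col_share_unique b hb h13 hj y hy (hpiv i1) (hpiv i3) p hp hyp
  have p23 := col_share_unique b hb h23 hj y hy (hpiv i2) (hpiv i3) p hp hyp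
  have q12 := col_share_unique b hb h12 hj y hy (hpiv i1) (hpiv i2) q hq hyq
  have q13 := col_share_unique b hb h13 hj y hy (hpiv i1) (hpiv i3) q hq hyq
  have q23 := col_share_unique b hb h23 hj y hy (hpiv i2) (hpiv i3) q hq hyq
  omega

include hb in
theorem exists_xyz (hI : 4 ≤ Fintype.card I) (hJ2 : 2 ≤ Fintype.card J)
    (hJ3 : Fintype.card J ≠ 3) :
    ∃ (x : I → ι → ℤ) (y : J → ι → ℤ) (z : I → J → ι → ℤ),
      (∀ i j, b i j = x i + y j + z i j) ∧
      (∀ i i', x i ⬝ᵥ x i' = if i = i' then 1 else 0) ∧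
      (∀ j j', y j ⬝ᵥ y j' = if j = j' then 1 else 0) ∧
      (∀ i j i' j', z i j ⬝ᵥ z i' j' = if i = i' ∧ j = j' then 1 else 0) ∧
      (∀ i j, x i ⬝ᵥ y j = 0) ∧ (∀ i i' j', x i ⬝ᵥ z i' j' = 0) ∧
      (∀ j i' j', y j ⬝ᵥ z i' j' = 0) := by
  haveI : Nontrivial J := Fintype.one_lt_card_iff_nontrivial.mp (by omega)
  haveI : Nontrivial I := Fintype.one_lt_card_iff_nontrivial.mp (by omega)
  have hy : ∀ j : J, ∃ y : ι → ℤ, y ⬝ᵥ y = 1 ∧ ∀ i, b i j ⬝ᵥ y = 1 := by
    intro j
    obtain ⟨j', hj'⟩ := exists_ne j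
    exact col_pivot b hb hI hj'.symm
  choose y hy1 hyp using hy
  have hy0 : ∀ {j j' : J}, j ≠ j' → ∀ i, b i j' ⬝ᵥ y j = 0 := fun {j j'} hj i =>
    col_zero b hb hI hj (y j) (hy1 j) (hyp j) i
  have i0 : I := Classical.arbitrary I
  have hyy : ∀ {j j' : J}, j ≠ j' → y j ⬝ᵥ y j' = 0 := by
    intro j j' hj
    exact orth_of_ne (hy1 j) (hy1 j') (hy0 hj i0) (hyp j' i0)
  -- the residues
  set c : I → J → ι → ℤ := fun i j => b i j - y j with hc
  have hcc : ∀ i j j', c i j ⬝ᵥ c i j' = if j = j' then 2 else 1 := by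
    intro i j j'
    by_cases hj : j = j'
    · subst hj
      simp only [hc, sub_dotProduct, dotProduct_sub, dotProduct_comm (y j) (b i j),
        norm_eq b hb, hyp, hy1, if_true]
      norm_num
    · simp only [hc, sub_dotProduct, dotProduct_sub, dotProduct_comm (y j) (b i j'),
        row_eq b hb i hj, hy0 hj, hy0 (Ne.symm hj), hyy hj, if_neg hj]
      norm_num
  have hcn : ∀ {i i' : I}, i ≠ i' → ∀ j j', c i j ⬝ᵥ c i' j' = 0 := by
    intro i i' hi j j'
    by_cases hj : j = j'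
    · subst hj
      simp only [hc, sub_dotProduct, dotProduct_sub, dotProduct_comm (y j) (b i' j),
        col_eq b hb hi, hyp, hy1]
      norm_num
    · simp only [hc, sub_dotProduct, dotProduct_sub, dotProduct_comm (y j) (b i' j'),
        off_eq b hb hi hj, hy0 hj, hy0 (Ne.symm hj), hyy hj]
      norm_num
  have hcy : ∀ i j j', c i j ⬝ᵥ y j' = 0 := by
    intro i j j'
    by_cases hj : j = j'
    · subst hj
      simp only [hc, sub_dotProduct, hyp, hy1]
      norm_num
    · simp only [hc, sub_dotProduct, hy0 (Ne.symm hj), hyy hj]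
      norm_num
  have hx : ∀ i, ∃ x : ι → ℤ, x ⬝ᵥ x = 1 ∧ ∀ j, c i j ⬝ᵥ x = 1 := fun i =>
    star (c i) (hcc i) hJ2 hJ3
  choose x hx1 hxp using hx
  obtain ⟨j0, j1, hj01⟩ := Fintype.one_lt_card_iff.mp (by omega : 1 < Fintype.card J)
  have hxy : ∀ i j, x i ⬝ᵥ y j = 0 := by
    intro i j
    rw [dotProduct_comm]
    exact orth_of_ne (hy1 j) (hx1 i) (hcy i j j) (hxp i j)
  set z : I → J → ι → ℤ := fun i j => c i j - x i with hz
  have hzx : ∀ i j, z i j ⬝ᵥ x i = 0 := by
    intro i j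
    simp only [hz, sub_dotProduct, hxp, hx1]
    norm_num
  have hxz : ∀ i j, x i ⬝ᵥ z i j = 0 := fun i j => by rw [dotProduct_comm]; exact hzx i j
  have hzz : ∀ i j j', z i j ⬝ᵥ z i j' = if j = j' then 1 else 0 := by
    intro i j j'
    simp only [hz, sub_dotProduct, dotProduct_sub, dotProduct_comm (x i) (c i j'), hcc, hxp, hx1]
    split_ifs <;> norm_num
  have hzy : ∀ i j j', z i j ⬝ᵥ y j' = 0 := by
    intro i j j'
    simp only [hz, sub_dotProduct, hcy, hxy]
    norm_num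
  have hz1 : ∀ i j, z i j ⬝ᵥ z i j = 1 := fun i j => by rw [hzz, if_pos rfl]
  have hz01 : ∀ i, z i j0 ≠ z i j1 := by
    intro i h
    have h1 := hzz i j0 j1
    rw [← h, hz1, if_neg hj01] at h1
    omega
  have hcxz : ∀ i j, c i j = x i + z i j := fun i j => by simp only [hz]; abel
  -- different rows
  have hexp : ∀ {i i' : I}, i ≠ i' → ∀ j j', x i ⬝ᵥ x i' + x i ⬝ᵥ z i' j' + z i j ⬝ᵥ x i' +
      z i j ⬝ᵥ z i' j' = 0 := by
    intro i i' hi j j'
    have := hcn hi j j'
    rw [hcxz, hcxz] at this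
    simp only [add_dotProduct, dotProduct_add] at this
    linarith
  have hxx : ∀ {i i' : I}, i ≠ i' → x i ⬝ᵥ x i' = 0 := by
    intro i i' hi
    rcases unit_cases (hx1 i) (hx1 i') with h | h | h
    · exact h
    · exfalso
      have key : ∀ j, z i j = -z i' j0 := by
        intro j
        have h1 := hexp hi j j0
        have h2 : x i ⬝ᵥ z i' j0 = 0 := by rw [h]; exact hxz i' j0
        have h3 : z i j ⬝ᵥ x i' = 0 := by rw [← h]; exact hzx i j
        have h4 : x i ⬝ᵥ x i' = 1 := by rw [h]; exact hx1 i'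
        rcases unit_cases (hz1 i j) (hz1 i' j0) with h5 | h5 | h5
        · omega
        · rw [h5, hz1] at h1
          have : z i' j0 ⬝ᵥ x i' = 0 := hzx i' j0
          omega
        · exact h5
      exact hz01 i (by rw [key j0, key j1])
    · exfalso
      have key : ∀ j, z i j = z i' j0 := by
        intro j
        have h1 := hexp hi j j0
        have h2 : x i ⬝ᵥ z i' j0 = 0 := by rw [h, neg_dotProduct, hxz i' j0, neg_zero]
        have h3 : z i j ⬝ᵥ x i' = 0 := by
          have : x i' = -x i := by rw [h, neg_neg]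
          rw [this, dotProduct_neg, hzx i j, neg_zero]
        have h4 : x i ⬝ᵥ x i' = -1 := by rw [h, neg_dotProduct, hx1 i']
        rcases unit_cases (hz1 i j) (hz1 i' j0) with h5 | h5 | h5
        · omega
        · exact h5
        · rw [h5, neg_dotProduct, neg_dotProduct, hz1] at h1
          have : z i' j0 ⬝ᵥ x i' = 0 := hzx i' j0
          omega
      exact hz01 i (by rw [key j0, key j1])
  have hxz' : ∀ {i i' : I}, i ≠ i' → ∀ j', x i ⬝ᵥ z i' j' = 0 := by
    intro i i' hi j'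
    have h0 := hxx hi
    rcases unit_cases (hx1 i) (hz1 i' j') with h | h | h
    · exact h
    · exfalso
      have key : ∀ j, z i j = -x i' := by
        intro j
        have h1 := hexp hi j j'
        have h2 : z i j ⬝ᵥ z i' j' = 0 := by rw [← h]; exact hzx i j
        have h4 : x i ⬝ᵥ z i' j' = 1 := by rw [h]; exact hz1 i' j'
        rcases unit_cases (hz1 i j) (hx1 i') with h5 | h5 | h5
        · omega
        · rw [h5, hx1] at h1
          rw [h5] at h2
          omega
        · exact h5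
      exact hz01 i (by rw [key j0, key j1])
    · exfalso
      have key : ∀ j, z i j = x i' := by
        intro j
        have h1 := hexp hi j j'
        have h2 : z i j ⬝ᵥ z i' j' = 0 := by
          have : z i' j' = -x i := by rw [h, neg_neg]
          rw [this, dotProduct_neg, hzx i j, neg_zero]
        have h4 : x i ⬝ᵥ z i' j' = -1 := by rw [h, neg_dotProduct, hz1 i' j']
        rcases unit_cases (hz1 i j) (hx1 i') with h5 | h5 | h5
        · omega
        · exact h5
        · rw [h5, neg_dotProduct, neg_dotProduct, hx1] at h1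
          rw [h5, neg_dotProduct] at h2
          omega
      exact hz01 i (by rw [key j0, key j1])
  refine ⟨x, y, z, ?_, ?_, ?_, ?_, hxy, ?_, ?_⟩
  · intro i j
    simp only [hz, hc]
    abel
  · intro i i'
    by_cases hi : i = i'
    · subst hi; rw [if_pos rfl]; exact hx1 i
    · rw [if_neg hi]; exact hxx hi
  · intro j j'
    by_cases hj : j = j'
    · subst hj; rw [if_pos rfl]; exact hy1 j
    · rw [if_neg hj]; exact hyy hj
  · intro i j i' j'
    by_cases hi : i = i'
    · subst hi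
      rw [hzz]
      simp
    · have h1 := hexp hi j j'
      have h2 := hxz' hi j'
      have h3 : z i j ⬝ᵥ x i' = 0 := by
        rw [dotProduct_comm]; exact hxz' (Ne.symm hi) j
      have h4 := hxx hi
      rw [if_neg (fun h => hi h.1)]
      omega
  · intro i i' j'
    by_cases hi : i = i'
    · subst hi; exact hxz i j'
    · exact hxz' hi j'
  · intro j i' j'
    rw [dotProduct_comm]
    exact hzy i' j' j

end

/-- Symmetric version: one side has at least four members, neither side has exactly three or fewer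
than two. -/
theorem exists_xyz' {I J : Type*} [Fintype I] [Fintype J] [DecidableEq I] [DecidableEq J]
    (b : I → J → ι → ℤ)
    (hb : ∀ i j i' j', b i j ⬝ᵥ b i' j' =
      (if i = i' then 1 else 0) + (if j = j' then 1 else 0) + (if i = i' ∧ j = j' then 1 else 0))
    (hI2 : 2 ≤ Fintype.card I) (hI3 : Fintype.card I ≠ 3) (hJ2 : 2 ≤ Fintype.card J)
    (hJ3 : Fintype.card J ≠ 3) (h4 : 4 ≤ Fintype.card I ∨ 4 ≤ Fintype.card J) :
    ∃ (x : I → ι → ℤ) (y : J → ι → ℤ) (z : I → J → ι → ℤ),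
      (∀ i j, b i j = x i + y j + z i j) ∧
      (∀ i i', x i ⬝ᵥ x i' = if i = i' then 1 else 0) ∧
      (∀ j j', y j ⬝ᵥ y j' = if j = j' then 1 else 0) ∧
      (∀ i j i' j', z i j ⬝ᵥ z i' j' = if i = i' ∧ j = j' then 1 else 0) ∧
      (∀ i j, x i ⬝ᵥ y j = 0) ∧ (∀ i i' j', x i ⬝ᵥ z i' j' = 0) ∧
      (∀ j i' j', y j ⬝ᵥ z i' j' = 0) := by
  rcases h4 with h4 | h4
  · exact exists_xyz b hb h4 hJ2 hJ3
  · obtain ⟨x, y, z, h1, h2, h3, h4, h5, h6, h7⟩ := exists_xyz (fun j i => b i j)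
      (by
        intro j i j' i'
        show b i j ⬝ᵥ b i' j' = _
        rw [hb]
        simp only [and_comm (a := i = i')]
        ring) h4 hI2 hI3
    refine ⟨y, x, fun i j => z j i, ?_, h3, h2, ?_, ?_, ?_, ?_⟩
    · intro i j
      have := h1 j i
      rw [this]
      abel
    · intro i j i' j'
      show z j i ⬝ᵥ z j' i' = _
      rw [h4]
      simp only [and_comm (a := i = i')]
    · intro i j
      rw [dotProduct_comm]
      exact h5 j i
    · intro i i' j'
      exact h7 i j' i'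
    · intro j i' j'
      exact h6 j j' i'

end Cfsg.Agent.OddOrderCharacters.PivotMain
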