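import Mathlib.RepresentationTheory.Character
import Mathlib.Analysis.Complex.Basic
import Mathlib.GroupTheory.Solvable
import Cfsg.Prelude.Def_OddOrderChar
import Cfsg.Agent.Characters.Core
import Cfsg.Agent.Characters.Linear
import Cfsg.Agent.OddOrderCharacters.InducedNormal
import Cfsg.Agent.OddOrderCharacters.InducedSum
set_option linter.all false

/-!
Restriction of a coherence system and of a coherent set to a subset closed under conjugation;
the families `S(A)` of functions induced from a normal subgroup: monotone, conjugation closed,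
nonempty.
-/

set_option autoImplicit false

open scoped ComplexConjugate
open Cfsg Cfsg.Agent.OddOrderCharacters.InducedNormal

namespace Cfsg.Agent.OddOrderCharacters.SystemRestrict

theorem zspanOn_mono {X : Type*} {S S' : Set (X → ℂ)} (h : S' ⊆ S) (A : Set X) :
    zspanOn S' A ⊆ zspanOn S A := fun _ hα => ⟨Submodule.span_mono h hα.1, hα.2⟩

theorem zspan_mono {X : Type*} {S S' : Set (X → ℂ)} (h : S' ⊆ S) : zspan S' ⊆ zspan S :=
  fun _ hα => Submodule.span_mono h hα

theorem isLinearIsometryOn_mono {L : Type*} [Group L] [Fintype L] {G : Type*} [Group G]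
    [Fintype G] {E E' : Set (L → ℂ)} (h : E' ⊆ E) {τ : (L → ℂ) → (G → ℂ)}
    (hτ : IsLinearIsometryOn E τ) : IsLinearIsometryOn E' τ :=
  ⟨fun α hα β hβ => hτ.1 α (h hα) β (h hβ), fun α hα n => hτ.2.1 α (h hα) n,
    fun α hα β hβ => hτ.2.2.1 α (h hα) β (h hβ), fun α hα => hτ.2.2.2 α (h hα)⟩

/-- A coherence system restricts to any nonempty subset closed under complex conjugation. -/
theorem isCoherenceSystem_subset {L : Type*} [Group L] [Fintype L] {G : Type*} [Group G]
    [Fintype G] {S S' : Set (L → ℂ)} {τ : (L → ℂ) → (G → ℂ)} {R : (L → ℂ) → Finset (G → ℂ)}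
    (hS : IsCoherenceSystem S τ R) (h : S' ⊆ S) (hne : S'.Nonempty)
    (hc : ∀ χ ∈ S', conjFun χ ∈ S') : IsCoherenceSystem S' τ R where
  nonempty := hne
  isCharacter := fun χ hχ => hS.isCharacter χ (h hχ)
  conj_mem := hc
  conj_ne := fun χ hχ => hS.conj_ne χ (h hχ)
  isometry := isLinearIsometryOn_mono (zspanOn_mono h _) hS.isometry
  map_one := fun α hα => hS.map_one α (zspanOn_mono h _ hα)
  orthogonal := fun χ hχ φ hφ => hS.orthogonal χ (h hχ) φ (h hφ)
  orthonormal := fun χ hχ => hS.orthonormal χ (h hχ)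
  virtual := fun χ hχ => hS.virtual χ (h hχ)
  sum_eq := fun χ hχ => hS.sum_eq χ (h hχ)
  disjoint := fun χ hχ φ hφ => hS.disjoint χ (h hχ) φ (h hφ)

/-- `χ - conj χ` is a nonzero combination of `S` vanishing at `1`. -/
theorem sub_conjFun_mem {L : Type*} [Group L] [Fintype L] {G : Type*} [Group G]
    [Fintype G] {S : Set (L → ℂ)} {τ : (L → ℂ) → (G → ℂ)} {R : (L → ℂ) → Finset (G → ℂ)}
    (hS : IsCoherenceSystem S τ R) {T : Set (L → ℂ)} (hTS : T ⊆ S) {χ : L → ℂ} (hχ : χ ∈ T)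
    (hc : conjFun χ ∈ T) : χ - conjFun χ ∈ zspanOn T {1}ᶜ ∧ χ - conjFun χ ≠ 0 := by
  refine ⟨⟨Submodule.sub_mem _ (Submodule.subset_span hχ) (Submodule.subset_span hc), ?_⟩, ?_⟩
  · intro x hx
    have hx1 : x = 1 := by simpa using hx
    obtain ⟨n, hn⟩ := Characters.Core.isCharacter_apply_one (hS.isCharacter χ (hTS hχ))
    show χ x - (starRingEnd ℂ) (χ x) = 0
    rw [hx1, hn]
    simp
  · intro h0
    exact hS.conj_ne χ (hTS hχ) (sub_eq_zero.mp h0).symm

/-- A coherent set restricts to nonempty conjugation closed subsets. -/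
theorem isCoherent_subset {L : Type*} [Group L] [Fintype L] {G : Type*} [Group G]
    [Fintype G] {S : Set (L → ℂ)} {τ : (L → ℂ) → (G → ℂ)} {R : (L → ℂ) → Finset (G → ℂ)}
    (hS : IsCoherenceSystem S τ R) {T T' : Set (L → ℂ)} (hT : T ⊆ T') (hne : T.Nonempty)
    (hTS : T ⊆ S) (hTc : ∀ φ ∈ T, conjFun φ ∈ T) (h : IsCoherent T' {1}ᶜ τ) :
    IsCoherent T {1}ᶜ τ := by
  obtain ⟨_, τ₁, h1, h2⟩ := h
  obtain ⟨χ, hχ⟩ := hne
  refine ⟨⟨_, sub_conjFun_mem hS hTS hχ (hTc χ hχ)⟩, τ₁, ?_, ?_⟩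
  · exact isLinearIsometryOn_mono (zspan_mono hT) h1
  · exact fun α hα => h2 α (zspanOn_mono hT _ hα)

variable {L : Type*} [Group L] [Fintype L]

theorem mem_inducedIrrAbove {K A : Subgroup L} {φ : L → ℂ} :
    φ ∈ inducedIrrAbove K A ↔ ∃ θ : ↥K → ℂ, IsIrrCharacter ↥K θ ∧ θ ≠ (fun _ => 1) ∧
      (∀ a : ↥K, (a : L) ∈ A → θ a = θ 1) ∧ φ = indFun K θ := Iff.rfl

theorem inducedIrrAbove_mono (K : Subgroup L) {A B : Subgroup L} (h : A ≤ B) :
    inducedIrrAbove K B ⊆ inducedIrrAbove K A := by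
  rintro φ ⟨θ, h1, h2, h3, h4⟩
  exact ⟨θ, h1, h2, fun a ha => h3 a (h ha), h4⟩

theorem conjFun_mem_inducedIrrAbove {K A : Subgroup L} {φ : L → ℂ}
    (hφ : φ ∈ inducedIrrAbove K A) : conjFun φ ∈ inducedIrrAbove K A := by
  obtain ⟨θ, h1, h2, h3, rfl⟩ := hφ
  refine ⟨conjFun θ, Characters.Core.isIrr_conj h1, ?_, ?_, conjFun_indFun K θ⟩
  · intro h
    apply h2
    funext k
    have := congrFun h k
    have h' : (starRingEnd ℂ) (θ k) = 1 := this
    have h'' := congrArg (starRingEnd ℂ) h'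
    simpa using h''
  · intro a ha
    show (starRingEnd ℂ) (θ a) = (starRingEnd ℂ) (θ 1)
    rw [h3 a ha]

/-- `S(A)` is nonempty when `K` is solvable and `A < K`. -/
theorem inducedIrrAbove_nonempty {K A : Subgroup L} [A.Normal] (hAK : A < K)
    (hsolv : Group.IsSolvable K) : (inducedIrrAbove K A).Nonempty := by
  have hne : A.subgroupOf K ≠ ⊤ := by
    rw [Ne, Subgroup.subgroupOf_eq_top]
    exact not_le_of_gt hAK
  obtain ⟨f, hf1, hf⟩ := InducedSum.exists_hom_above hsolv (A.subgroupOf K) hne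
  refine ⟨_, fun k => (f k : ℂ), Characters.Linear.isIrrCharacter_hom f, ?_, ?_, rfl⟩
  · intro h
    apply hf1
    refine MonoidHom.ext fun k => ?_
    have := congrFun h k
    exact Units.ext this
  · intro a ha
    show (f a : ℂ) = (f 1 : ℂ)
    rw [hf a (Subgroup.mem_subgroupOf.mpr ha), map_one]

end Cfsg.Agent.OddOrderCharacters.SystemRestrict
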