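import Mathlib.RepresentationTheory.Character
import Mathlib.Analysis.Complex.Basic
import Mathlib.GroupTheory.Solvable
import Mathlib.Data.Real.Basic
import Mathlib.Tactic
import Cfsg.Prelude.Def_OddOrderChar
import Cfsg.Agent.Characters.Core
import Cfsg.Agent.Characters.Linear
import Cfsg.Agent.OddOrderCharacters.InducedNormal
import Cfsg.Agent.OddOrderCharacters.InducedSum
import Cfsg.Agent.OddOrderCharacters.SystemRestrict
set_option linter.all false

/-!
The set `S ∖ S(Z)` of Peterfalvi (6.6): description by kernels, sum of squares of degrees,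
arithmetic of degrees in the `p`-group case.
-/

set_option autoImplicit false

open scoped ComplexConjugate
open Cfsg Cfsg.Agent.OddOrderCharacters.InducedNormal Cfsg.Agent.OddOrderCharacters.InducedSum
open Cfsg.Agent.OddOrderCharacters.SystemRestrict

namespace Cfsg.Agent.OddOrderCharacters.OutsideCentral

section kernels

variable {L : Type*} [Group L] [Fintype L]

/-- If `Z` is in the kernel of the function induced from an irreducible character `θ` of the
normal subgroup `K`, then `Z` is in the kernel of `θ`. -/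
theorem ker_of_indFun_ker (K Z : Subgroup L) [hK : K.Normal] [hZ : Z.Normal]
    {θ : K → ℂ} (hθ : IsIrrCharacter K θ) (h : ∀ z ∈ Z, indFun K θ z = indFun K θ 1) :
    ∀ a : K, (a : L) ∈ Z → θ a = θ 1 := by
  classical
  have _ : Fintype K := Fintype.ofFinite K
  rcases ker_or_sum_eq_zero hθ (Z.subgroupOf K) (Finset.univ.filter (fun a : K => (a : L) ∈ Z))
    (fun x => by simp [Subgroup.mem_subgroupOf]) with h1 | h1
  · exact fun a ha => h1 a (Subgroup.mem_subgroupOf.mpr ha)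
  · exfalso
    -- the sum of `indFun K θ` over `Z` is zero
    have h2 : ∑ a ∈ Finset.univ.filter (fun a : K => (a : L) ∈ Z), indFun K θ a = 0 := by
      have h3 : ∀ a ∈ Finset.univ.filter (fun a : K => (a : L) ∈ Z), indFun K θ a =
          (Nat.card K : ℂ)⁻¹ * ∑ x : L, θ ⟨x⁻¹ * a * x, conj_mem' K a.2 x⟩ :=
        fun a _ => indFun_mem K θ a.2
      rw [Finset.sum_congr rfl h3, ← Finset.mul_sum, Finset.sum_comm, Finset.sum_eq_zero, mul_zero]
      intro x _
      rw [← h1]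
      refine Finset.sum_bij' (fun k _ => ⟨x⁻¹ * k * x, conj_mem' K k.2 x⟩)
        (fun k _ => ⟨x * k * x⁻¹, hK.conj_mem _ k.2 x⟩) ?_ ?_ ?_ ?_ ?_
      · intro k hk
        rw [Finset.mem_filter] at hk ⊢
        exact ⟨Finset.mem_univ _, conj_mem' Z hk.2 x⟩
      · intro k hk
        rw [Finset.mem_filter] at hk ⊢
        exact ⟨Finset.mem_univ _, hZ.conj_mem _ hk.2 x⟩
      · intro k _; apply Subtype.ext; show x * (x⁻¹ * k * x) * x⁻¹ = k; group
      · intro k _; apply Subtype.ext; show x⁻¹ * (x * k * x⁻¹) * x = k; group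
      · intro k _; rfl
    have h3 : ∑ a ∈ Finset.univ.filter (fun a : K => (a : L) ∈ Z), indFun K θ a =
        ((Finset.univ.filter (fun a : K => (a : L) ∈ Z)).card : ℂ) * indFun K θ 1 := by
      rw [← nsmul_eq_mul, ← Finset.sum_const]
      refine Finset.sum_congr rfl fun a ha => h a ?_
      exact (Finset.mem_filter.mp ha).2
    rw [h2] at h3
    obtain ⟨m, hm0, hm⟩ := Characters.Core.isIrr_apply_one hθ
    rw [indFun_one, hm] at h3
    have h4 : (K.index : ℂ) ≠ 0 := Nat.cast_ne_zero.mpr Subgroup.FiniteIndex.index_ne_zero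
    have h5 : (m : ℂ) ≠ 0 := Nat.cast_ne_zero.mpr hm0.ne'
    have h6 : ((Finset.univ.filter (fun a : K => (a : L) ∈ Z)).card : ℂ) ≠ 0 := by
      refine Nat.cast_ne_zero.mpr (Finset.card_ne_zero_of_mem (a := (1 : K)) ?_)
      simp
    exact (mul_ne_zero h6 (mul_ne_zero h4 h5)) h3.symm

/-- A member of `S ∖ S(Z)` induced from `θ` does not have `Z` in its kernel. -/
theorem exists_ne_of_mem_diff {K Z : Subgroup L} [hK : K.Normal] [hZ : Z.Normal]
    {χ : L → ℂ} (hχ : χ ∈ inducedIrrAbove K ⊥ \ inducedIrrAbove K Z) : ∃ z ∈ Z, χ z ≠ χ 1 := by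
  obtain ⟨⟨θ, h1, h2, _, rfl⟩, hn⟩ := hχ
  by_contra hcon
  push Not at hcon
  exact hn ⟨θ, h1, h2, ker_of_indFun_ker K Z h1 hcon, rfl⟩

/-- The function induced from an irreducible character of `K` without `Z` in its kernel is in
`S ∖ S(Z)`. -/
theorem indFun_mem_diff {K Z : Subgroup L} [hK : K.Normal] [hZ : Z.Normal] (hZK : Z ≤ K)
    {θ : K → ℂ} (hθ : IsIrrCharacter K θ) {a : K} (ha : (a : L) ∈ Z) (hne : θ a ≠ θ 1) :
    indFun K θ ∈ inducedIrrAbove K ⊥ \ inducedIrrAbove K Z := by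
  refine ⟨⟨θ, hθ, ?_, ?_, rfl⟩, ?_⟩
  · rintro rfl
    exact hne rfl
  · intro b hb
    rw [Subgroup.mem_bot] at hb
    have : b = 1 := Subtype.ext hb
    rw [this]
  · rintro ⟨θ', h1, _, h3, h4⟩
    apply hne
    refine ker_of_indFun_ker K Z hθ ?_ a ha
    intro z hz
    rw [h4]
    exact indFun_ker K Z θ' h3 hz (hZK hz)

/-- If all members of `S ∖ S(Z)` are irreducible, then `S ∖ S(Z)` is the set of irreducible
characters of `L` without `Z` in the kernel. -/
theorem diff_eq {K Z : Subgroup L} [hK : K.Normal] [hZ : Z.Normal] (hZK : Z ≤ K)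
    (hirr : ∀ χ ∈ inducedIrrAbove K ⊥ \ inducedIrrAbove K Z, IsIrrCharacter L χ) :
    inducedIrrAbove K ⊥ \ inducedIrrAbove K Z =
      {χ | IsIrrCharacter L χ ∧ ∃ z ∈ Z, χ z ≠ χ 1} := by
  classical
  have _ : Fintype K := Fintype.ofFinite K
  have _ : Finite (IrrCharacter K) := Characters.Core.finite_irr
  have _ : Fintype (IrrCharacter K) := Fintype.ofFinite _
  refine Set.Subset.antisymm (fun χ hχ => ⟨hirr χ hχ, exists_ne_of_mem_diff hχ⟩) ?_
  rintro χ ⟨hχ, z, hz, hne⟩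
  -- the restriction of `χ` to `K`
  have hres : IsCharacter K (fun k : K => χ k) :=
    Characters.Core.isCharacter_comp K.subtype (Characters.Core.isIrr_isCharacter hχ)
  obtain ⟨m, hm⟩ := Characters.Core.isCharacter_iff.mp hres
  obtain ⟨ψ, hψm, hψ⟩ : ∃ ψ : IrrCharacter K, m ψ ≠ 0 ∧ ψ.1 ⟨z, hZK hz⟩ ≠ ψ.1 1 := by
    by_contra hcon
    push Not at hcon
    apply hne
    have h1 : χ z = (fun k : K => χ k) ⟨z, hZK hz⟩ := rfl
    have h2 : χ 1 = (fun k : K => χ k) 1 := rfl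
    rw [h1, h2, hm, Finset.sum_apply, Finset.sum_apply]
    refine Finset.sum_congr rfl fun ψ _ => ?_
    show m ψ • ψ.1 _ = m ψ • ψ.1 _
    by_cases h0 : m ψ = 0
    · rw [h0, zero_smul, zero_smul]
    · rw [hcon ψ h0]
  have hmem := indFun_mem_diff hZK ψ.2 (a := ⟨z, hZK hz⟩) hz hψ
  have hirrψ := hirr _ hmem
  have hinner : classInner (indFun K ψ.1) χ ≠ 0 := by
    rw [frobenius K ψ.1 χ (Characters.Core.isIrr_isClassFunction hχ), hm,
      Characters.Core.classInner_sum_right, Finset.sum_eq_single ψ]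
    · have : classInner ψ.1 (m ψ • ψ.1) = (m ψ : ℂ) := by
        rw [← Nat.cast_smul_eq_nsmul ℂ, Characters.Core.classInner_smul_right,
          Characters.Core.classInner_irr_self ψ.2]
        simp
      rw [this]
      exact Nat.cast_ne_zero.mpr hψm
    · intro φ _ hφ
      rw [← Nat.cast_smul_eq_nsmul ℂ, Characters.Core.classInner_smul_right,
        Characters.Core.classInner_irr_ne ψ.2 φ.2 (fun h => hφ (Subtype.ext h.symm)), mul_zero]
    · intro h; exact absurd (Finset.mem_univ _) h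
  have heq : indFun K ψ.1 = χ := by
    by_contra hcon
    exact hinner (Characters.Core.classInner_irr_ne hirrψ hχ hcon)
  rw [← heq]
  exact hmem

theorem conjFun_conjFun {X : Type*} (χ : X → ℂ) : conjFun (conjFun χ) = χ := by
  funext x
  show conj (conj (χ x)) = χ x
  simp

theorem conjFun_mem_diff {K Z : Subgroup L} {χ : L → ℂ}
    (hχ : χ ∈ inducedIrrAbove K ⊥ \ inducedIrrAbove K Z) :
    conjFun χ ∈ inducedIrrAbove K ⊥ \ inducedIrrAbove K Z := by
  refine ⟨conjFun_mem_inducedIrrAbove hχ.1, fun h => hχ.2 ?_⟩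
  rw [← conjFun_conjFun χ]
  exact conjFun_mem_inducedIrrAbove h

theorem finite_inducedIrrAbove (K A : Subgroup L) : (inducedIrrAbove K A).Finite := by
  have _ : Finite (IrrCharacter K) := Characters.Core.finite_irr
  refine (Set.finite_range (fun θ : IrrCharacter K => indFun K θ.1)).subset ?_
  rintro φ ⟨θ, h1, _, _, rfl⟩
  exact ⟨⟨θ, h1⟩, rfl⟩

/-- The sum of the squares of the degrees of the members of `S ∖ S(Z)` when they are all
irreducible. -/
theorem sum_sq_diff {K Z : Subgroup L} [hK : K.Normal] [hZ : Z.Normal] (hZK : Z ≤ K)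
    (horth : ∀ χ ∈ inducedIrrAbove K ⊥, ∀ φ ∈ inducedIrrAbove K ⊥, χ ≠ φ → classInner χ φ = 0)
    (X : Finset (L → ℂ)) (hX : (X : Set (L → ℂ)) = inducedIrrAbove K ⊥ \ inducedIrrAbove K Z)
    (hirr : ∀ χ ∈ X, IsIrrCharacter L χ) (d : (L → ℂ) → ℕ) (hd : ∀ χ ∈ X, χ 1 = (d χ : ℂ)) :
    ∑ χ ∈ X, d χ ^ 2 + K.index * Z.relIndex K = K.index * Nat.card K := by
  classical
  obtain ⟨S0, hS0⟩ := (finite_inducedIrrAbove K (⊥ : Subgroup L)).exists_finset_coe
  obtain ⟨SZ, hSZ⟩ := (finite_inducedIrrAbove K Z).exists_finset_coe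
  have hsub : SZ ⊆ S0 := by
    intro φ hφ
    have h1 : φ ∈ (SZ : Set (L → ℂ)) := by exact_mod_cast hφ
    rw [hSZ] at h1
    have h2 := inducedIrrAbove_mono K (bot_le : ⊥ ≤ Z) h1
    rw [← hS0] at h2
    exact_mod_cast h2
  have hXeq : X = S0 \ SZ := by
    apply Finset.coe_injective
    rw [Finset.coe_sdiff, hX, hS0, hSZ]
  have horth' : ∀ φ ∈ S0, ∀ ψ ∈ S0, φ ≠ ψ → classInner φ ψ = 0 := by
    intro φ hφ ψ hψ hne
    refine horth φ ?_ ψ ?_ hne
    · rw [← hS0]; exact_mod_cast hφ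
    · rw [← hS0]; exact_mod_cast hψ
  have e1 := sum_degree_sq_div_norm K (⊥ : Subgroup L) bot_le S0 hS0 horth'
  have e2 := sum_degree_sq_div_norm K Z hZK SZ hSZ
    (fun φ hφ ψ hψ => horth' φ (hsub hφ) ψ (hsub hψ))
  have e3 := Finset.sum_sdiff (f := fun φ : L → ℂ => φ 1 ^ 2 / classInner φ φ) hsub
  rw [← hXeq] at e3
  have e4 : ∑ χ ∈ X, χ 1 ^ 2 / classInner χ χ = ((∑ χ ∈ X, d χ ^ 2 : ℕ) : ℂ) := by
    push_cast
    refine Finset.sum_congr rfl fun χ hχ => ?_
    rw [Characters.Core.classInner_irr_self (hirr χ hχ), hd χ hχ, div_one]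
  have e5 : ((∑ χ ∈ X, d χ ^ 2 : ℕ) : ℂ) + (K.index : ℂ) * ((Z.relIndex K : ℂ) - 1) =
      (K.index : ℂ) * (((⊥ : Subgroup L).relIndex K : ℂ) - 1) := by
    rw [← e4, ← e2, ← e1]; exact e3
  rw [Subgroup.relIndex_bot_left] at e5
  have e6 : ((∑ χ ∈ X, d χ ^ 2 + K.index * Z.relIndex K : ℕ) : ℂ) =
      ((K.index * Nat.card K : ℕ) : ℂ) := by
    push_cast
    push_cast at e5
    linear_combination e5
  exact_mod_cast e6

/-- `[K : Z] |Z| = |K|`. -/
theorem relIndex_mul_card {M : Type*} [Group M] {K Z : Subgroup M} (hZK : Z ≤ K) :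
    Z.relIndex K * Nat.card Z = Nat.card K := by
  have h1 : (⊥ : Subgroup M).relIndex Z * Z.relIndex K = (⊥ : Subgroup M).relIndex K :=
    Subgroup.relIndex_mul_relIndex ⊥ Z K bot_le hZK
  rw [Subgroup.relIndex_bot_left, Subgroup.relIndex_bot_left] at h1
  rw [← h1]; ring

/-- `S ∖ S(Z)` is not empty when `Z ≠ ⊥`. -/
theorem diff_nonempty {K Z : Subgroup L} [hK : K.Normal] [hZ : Z.Normal] (hZ1 : Z ≠ ⊥)
    (hZK : Z ≤ K)
    (horth : ∀ χ ∈ inducedIrrAbove K ⊥, ∀ φ ∈ inducedIrrAbove K ⊥, χ ≠ φ → classInner χ φ = 0) :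
    (inducedIrrAbove K ⊥ \ inducedIrrAbove K Z).Nonempty := by
  rw [Set.nonempty_iff_ne_empty]
  intro h0
  have h1 := sum_sq_diff hZK horth ∅ (by rw [h0, Finset.coe_empty]) (by simp) (fun _ => 0)
    (by simp)
  rw [Finset.sum_empty, zero_add] at h1
  have h2 : 0 < K.index := Nat.pos_of_ne_zero Subgroup.FiniteIndex.index_ne_zero
  have h3 := Nat.eq_of_mul_eq_mul_left h2 h1
  have h4 := relIndex_mul_card hZK
  have h5 : 0 < Nat.card K := Nat.card_pos
  rw [h3] at h4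
  have h6 : Nat.card Z = 1 := by
    have : Nat.card K * Nat.card Z = Nat.card K * 1 := by rw [h4, mul_one]
    exact Nat.eq_of_mul_eq_mul_left h5 this
  exact hZ1 (Subgroup.card_eq_one.mp h6)

end kernels

section arith

/-- The arithmetic heart of Peterfalvi (6.6). -/
theorem sq_le_sum_lower {ι : Type*} (X : Finset ι) (a : ι → ℕ) {p e T : ℕ}
    (hcop : Nat.Coprime e p) (he : 0 < e) (hsum : ∑ j ∈ X, (e * p ^ a j) ^ 2 = e * T)
    {i i₀ : ι} (hi₀ : i₀ ∈ X) (hlt : a i₀ < a i) (hp : 0 < p) (hdvd : p ^ (2 * a i) ∣ T) :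
    (e * p ^ a i) ^ 2 ≤ ∑ j ∈ X.filter (fun j => a j < a i), (e * p ^ a j) ^ 2 := by
  classical
  have h1 : ∑ j ∈ X, (e * p ^ a j) ^ 2 = ∑ j ∈ X.filter (fun j => a j < a i), (e * p ^ a j) ^ 2 +
      ∑ j ∈ X.filter (fun j => ¬ a j < a i), (e * p ^ a j) ^ 2 :=
    (Finset.sum_filter_add_sum_filter_not X _ _).symm
  have h2 : ∀ s : Finset ι, ∑ j ∈ s, (e * p ^ a j) ^ 2 = e * (e * ∑ j ∈ s, p ^ (2 * a j)) := by
    intro s
    rw [Finset.mul_sum, Finset.mul_sum]
    refine Finset.sum_congr rfl fun j _ => ?_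
    rw [mul_pow, ← pow_mul, mul_comm (a j) 2]; ring
  rw [h1, h2, h2, ← mul_add] at hsum
  have h3 := Nat.eq_of_mul_eq_mul_left he hsum
  have h4 : p ^ (2 * a i) ∣ e * ∑ j ∈ X.filter (fun j => ¬ a j < a i), p ^ (2 * a j) := by
    refine Dvd.dvd.mul_left (Finset.dvd_sum fun j hj => ?_) _
    refine pow_dvd_pow p ?_
    have := (Finset.mem_filter.mp hj).2
    omega
  have h5 : p ^ (2 * a i) ∣ e * ∑ j ∈ X.filter (fun j => a j < a i), p ^ (2 * a j) := by
    rw [← h3] at hdvd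
    exact (Nat.dvd_add_left h4).mp hdvd
  have h6 : p ^ (2 * a i) ∣ ∑ j ∈ X.filter (fun j => a j < a i), p ^ (2 * a j) :=
    (Nat.Coprime.pow_left _ hcop.symm).dvd_of_dvd_mul_left h5
  have h7 : 0 < ∑ j ∈ X.filter (fun j => a j < a i), p ^ (2 * a j) := by
    refine Finset.sum_pos (fun j _ => Nat.pow_pos hp) ⟨i₀, ?_⟩
    exact Finset.mem_filter.mpr ⟨hi₀, hlt⟩
  have h8 := Nat.le_of_dvd h7 h6
  rw [h2]
  calc (e * p ^ a i) ^ 2 = e * (e * p ^ (2 * a i)) := by
        rw [mul_pow, ← pow_mul, mul_comm (a i) 2]; ring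
    _ ≤ _ := Nat.mul_le_mul_left _ (Nat.mul_le_mul_left _ h8)

end arith

end Cfsg.Agent.OddOrderCharacters.OutsideCentral
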