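import Cfsg.Agent.OddOrderCharacters.VChar
import Cfsg.Agent.S1515
set_option linter.all false

/-!
# Pivot lemma and the orthogonality of a coherent extension to the other blocks

* `bessel` : Bessel's inequality for a finite orthonormal family of functions on `G`.
* `ext_orth` : in a coherence system, a coherent extension `τ₁` on a conjugation-closed subset
  containing `φ` has `τ₁ φ` orthogonal to `R χ` whenever `φ` is orthogonal to `χ` and its conjugate.
* `coherent_of_pivot` : the pivot lemma.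
* `coherent_XY` : the union step of Sibley's coherence theorem.
-/

set_option autoImplicit false

open scoped ComplexConjugate
open Cfsg

namespace Cfsg.Agent.OddOrderCharacters.SibleyPivot

open Cfsg.Agent.Characters.Core Cfsg.Agent.OddOrderCharacters.VChar

section bessel

variable {G : Type*} [Group G] [Fintype G]

/-- Bessel's inequality. -/
theorem bessel {ι : Type*} [Fintype ι] (e : ι → G → ℂ) (h1 : ∀ i, classInner (e i) (e i) = 1)
    (h0 : ∀ i j, i ≠ j → classInner (e i) (e j) = 0) (v : G → ℂ) :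
    ∑ i, ‖classInner v (e i)‖ ^ 2 ≤ (classInner v v).re := by
  classical
  set w : G → ℂ := ∑ i, classInner v (e i) • e i with hw
  have hvw : classInner v w = ∑ i, ((‖classInner v (e i)‖ ^ 2 : ℝ) : ℂ) := by
    rw [hw, classInner_sum_right]
    refine Finset.sum_congr rfl fun i _ => ?_
    rw [classInner_smul_right, mul_comm, Complex.mul_conj, Complex.normSq_eq_norm_sq]
  have hwe : ∀ i, classInner w (e i) = classInner v (e i) := by
    intro i
    rw [hw, classInner_sum_left, Finset.sum_eq_single i]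
    · rw [classInner_smul_left, h1, mul_one]
    · intro j _ hj
      rw [classInner_smul_left, h0 j i hj, mul_zero]
    · intro h; exact absurd (Finset.mem_univ i) h
  have hww : classInner w w = ∑ i, ((‖classInner v (e i)‖ ^ 2 : ℝ) : ℂ) := by
    conv_lhs => rw [hw]
    rw [← hw, classInner_sum_left]
    refine Finset.sum_congr rfl fun i _ => ?_
    rw [classInner_smul_left, ← classInner_conj_symm w (e i), hwe, Complex.mul_conj,
      Complex.normSq_eq_norm_sq]
  have hwv : classInner w v = ∑ i, ((‖classInner v (e i)‖ ^ 2 : ℝ) : ℂ) := by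
    rw [← classInner_conj_symm, hvw, map_sum]
    refine Finset.sum_congr rfl fun i _ => ?_
    rw [Complex.conj_ofReal]
  have h := classInner_self_re_nonneg (v - w)
  rw [classInner_sub_left, classInner_sub_right, classInner_sub_right, hvw, hwv, hww] at h
  rw [← Complex.ofReal_sum] at h
  simp only [Complex.sub_re, Complex.ofReal_re] at h
  linarith

end bessel

variable {L : Type*} [Group L] [Fintype L] {G : Type*} [Group G] [Fintype G]

/-- In a coherence system, the image of `φ` under an isometry extending `τ` is orthogonal to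
`R χ` when `φ` is orthogonal to `χ` and to the conjugate of `χ`. -/
theorem ext_orth {S : Set (L → ℂ)} {τ : (L → ℂ) → (G → ℂ)} {R : (L → ℂ) → Finset (G → ℂ)}
    (hS : IsCoherenceSystem S τ R) {T : Set (L → ℂ)} (hTS : T ⊆ S)
    {τ₁ : (L → ℂ) → (G → ℂ)} (hτ₁ : IsLinearIsometryOn (zspan T) τ₁)
    (hag : ∀ α ∈ zspanOn T {1}ᶜ, τ₁ α = τ α) {φ : L → ℂ} (hφ : φ ∈ T) (hφc : conjFun φ ∈ T)
    {χ : L → ℂ} (hχ : χ ∈ S) (h1 : classInner φ χ = 0) (h2 : classInner φ (conjFun χ) = 0) :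
    ∀ β ∈ R χ, classInner (τ₁ φ) β = 0 := by
  classical
  intro β hβ
  have hφS := hTS hφ
  have hφφc : φ - conjFun φ ∈ zspanOn T {1}ᶜ := by
    rw [mem_zspanOn_one_iff]
    refine ⟨zspan_sub (zspan_subset hφ) (zspan_subset hφc), ?_⟩
    obtain ⟨n, hn⟩ := isCharacter_apply_one (hS.isCharacter φ hφS)
    rw [Pi.sub_apply, conjFun_apply, hn]
    simp
  have key := Cfsg.Agent.S1515.result S τ R hS φ hφS 0 zspan_zero
    (classInner_zero_right _) (classInner_zero_right _) τ₁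
    (by
      refine lin_mono hτ₁ ?_
      intro α hα
      rw [sub_zero] at hα
      obtain ⟨n, m, rfl⟩ := mem_zspan_pair hα
      exact zspan_add (zspan_zsmul n (zspan_subset hφ)) (zspan_zsmul m hφφc.1))
    (by
      intro n
      exact hag _ (zspanOn_zsmul n hφφc))
  have hle := key.1
  rw [sub_zero] at hle
  have hnorm : classInner (τ₁ φ) (τ₁ φ) = classInner φ φ :=
    lin_inner hτ₁ (zspan_subset hφ) (zspan_subset hφ)
  have horth : ∀ α ∈ R φ, classInner α β = 0 := hS.disjoint χ hχ φ hφS h1 h2 |> fun h α hα => h α hα β hβ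
  -- Bessel for `R φ ∪ {β}`
  have hb := bessel (ι := Option (R φ)) (fun o => o.elim β (fun α => (α : G → ℂ)))
    (by
      rintro (_ | ⟨α, hα⟩)
      · simpa using hS.orthonormal χ hχ β hβ β hβ
      · simpa using hS.orthonormal φ hφS α hα α hα)
    (by
      rintro (_ | ⟨α, hα⟩) (_ | ⟨α', hα'⟩) hne
      · exact absurd rfl hne
      · exact classInner_comm_eq_zero (horth α' hα')
      · exact horth α hα
      · have h3 := hS.orthonormal φ hφS α hα α' hα'
        have h4 : α ≠ α' := by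
          intro h
          apply hne
          subst h
          rfl
        rw [if_neg h4] at h3
        exact h3) (τ₁ φ)
  rw [Fintype.sum_option, hnorm] at hb
  have hsum : ∑ i : R φ, ‖classInner (τ₁ φ) (i : G → ℂ)‖ ^ 2 =
      ∑ α ∈ R φ, ‖classInner (τ₁ φ) α‖ ^ 2 :=
    Finset.sum_coe_sort (R φ) (fun α => ‖classInner (τ₁ φ) α‖ ^ 2)
  have hb' : ‖classInner (τ₁ φ) β‖ ^ 2 + ∑ α ∈ R φ, ‖classInner (τ₁ φ) α‖ ^ 2 ≤
      (classInner φ φ).re := by
    rw [← hsum]
    exact hb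
  have h5 : ‖classInner (τ₁ φ) β‖ ^ 2 ≤ 0 := by linarith
  have h6 : ‖classInner (τ₁ φ) β‖ = 0 := by
    have := sq_nonneg ‖classInner (τ₁ φ) β‖
    exact pow_eq_zero_iff (two_ne_zero) |>.1 (le_antisymm h5 this)
  exact norm_eq_zero.1 h6

/-- **Pivot lemma.** Let `τ` be a linear isometry on the degree-zero part of `ℤ[T]`, `φ ∈ T` of
norm one such that every member of `T` has degree a multiple of that of `φ`, and `ζ` a generalized
character of norm one with `⟨τ (ψ - n φ), ζ⟩ = -n` for all `ψ ∈ T`, `ψ ≠ φ`, `ψ 1 = n φ 1`.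
Then `T` is coherent. -/
theorem coherent_of_pivot {T : Set (L → ℂ)} {τ : (L → ℂ) → (G → ℂ)}
    (hτ : IsLinearIsometryOn (zspanOn T {1}ᶜ) τ) (hne : ∃ α ∈ zspanOn T {1}ᶜ, α ≠ 0)
    (d : (L → ℂ) → ℤ) {φ : L → ℂ} (hφ : φ ∈ T) (hφ1 : φ 1 ≠ 0) (hφn : classInner φ φ = 1)
    (hd : ∀ ψ ∈ T, ψ 1 = (d ψ : ℂ) * φ 1) (horth : ∀ ψ ∈ T, ψ ≠ φ → classInner ψ φ = 0)
    (ζ : G → ℂ) (hζ : IsGeneralizedCharacter G ζ) (hζn : classInner ζ ζ = 1)
    (hζτ : ∀ ψ ∈ T, ψ ≠ φ → classInner (τ (ψ - d ψ • φ)) ζ = -(d ψ : ℂ)) :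
    IsCoherent T {1}ᶜ τ := by
  classical
  -- integrality of degrees on the span
  have hdeg : ∀ α ∈ zspan T, ∃ n : ℤ, α 1 = (n : ℂ) * φ 1 := by
    intro α hα
    refine zspan_induction (p := fun α => ∃ n : ℤ, α 1 = (n : ℂ) * φ 1) ⟨0, by simp⟩
      (fun χ hχ => ⟨d χ, hd χ hχ⟩) ?_ ?_ hα
    · rintro α - β - ⟨n, hn⟩ ⟨m, hm⟩
      exact ⟨n + m, by rw [Pi.add_apply, hn, hm]; push_cast; ring⟩
    · rintro k α - ⟨n, hn⟩
      refine ⟨k * n, ?_⟩
      rw [Pi.smul_apply, hn, zsmul_eq_mul]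
      push_cast; ring
  choose! D hD using hdeg
  have hDuniq : ∀ α ∈ zspan T, ∀ n : ℤ, α 1 = (n : ℂ) * φ 1 → D α = n := by
    intro α hα n hn
    have h := (hD α hα).symm.trans hn
    exact_mod_cast mul_right_cancel₀ hφ1 h
  have hDφ : D φ = 1 := hDuniq φ (zspan_subset hφ) 1 (by simp)
  have hDT : ∀ ψ ∈ T, D ψ = d ψ := fun ψ hψ => hDuniq ψ (zspan_subset hψ) _ (hd ψ hψ)
  have hDadd : ∀ α ∈ zspan T, ∀ β ∈ zspan T, D (α + β) = D α + D β := by
    intro α hα β hβ
    refine hDuniq _ (zspan_add hα hβ) _ ?_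
    rw [Pi.add_apply, hD α hα, hD β hβ]; push_cast; ring
  have hDsmul : ∀ (n : ℤ), ∀ α ∈ zspan T, D (n • α) = n * D α := by
    intro n α hα
    refine hDuniq _ (zspan_zsmul n hα) _ ?_
    rw [Pi.smul_apply, hD α hα, zsmul_eq_mul]; push_cast; ring
  have hmem : ∀ α ∈ zspan T, α - D α • φ ∈ zspanOn T {1}ᶜ := by
    intro α hα
    rw [mem_zspanOn_one_iff]
    refine ⟨zspan_sub hα (zspan_zsmul _ (zspan_subset hφ)), ?_⟩
    rw [Pi.sub_apply, Pi.smul_apply, hD α hα, zsmul_eq_mul, sub_self]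
  -- the inner product with `ζ`
  have hkey : ∀ α ∈ zspan T, classInner (τ (α - D α • φ)) ζ = classInner α φ - (D α : ℂ) := by
    intro α hα
    refine zspan_induction
      (p := fun α => classInner (τ (α - D α • φ)) ζ = classInner α φ - (D α : ℂ)) ?_ ?_ ?_ ?_ hα
    · have h0 : D (0 : L → ℂ) = 0 := hDuniq 0 zspan_zero 0 (by simp)
      rw [h0]
      simp only [zero_smul, sub_zero, Int.cast_zero]
      rw [spanOn_zero hτ, classInner_zero_left, classInner_zero_left]
    · intro ψ hψ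
      rw [hDT ψ hψ]
      by_cases hψφ : ψ = φ
      · subst hψφ
        have h1 : d ψ = 1 := by rw [← hDT ψ hψ]; exact hDφ
        rw [h1, one_smul, sub_self, spanOn_zero hτ, classInner_zero_left, hφn]
        simp
      · rw [hζτ ψ hψ hψφ, horth ψ hψ hψφ]; ring
    · intro α hα β hβ h1 h2
      have e1 : α + β - D (α + β) • φ = (α - D α • φ) + (β - D β • φ) := by
        rw [hDadd α hα β hβ, add_smul]; abel
      rw [e1, lin_add hτ (hmem α hα) (hmem β hβ), classInner_add_left, h1, h2,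
        classInner_add_left, hDadd α hα β hβ]
      push_cast; ring
    · intro n α hα h1
      have e1 : n • α - D (n • α) • φ = n • (α - D α • φ) := by
        rw [hDsmul n α hα, smul_sub, mul_smul]
      rw [e1, lin_zsmul hτ (hmem α hα), classInner_zsmul_left, h1, classInner_zsmul_left,
        hDsmul n α hα]
      push_cast; ring
  have hkey' : ∀ α ∈ zspan T, classInner ζ (τ (α - D α • φ)) =
      classInner φ α - (D α : ℂ) := by
    intro α hα
    rw [← classInner_conj_symm, hkey α hα, map_sub, classInner_conj_symm]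
    simp
  refine ⟨hne, fun α => τ (α - D α • φ) + D α • ζ, ⟨?_, ?_, ?_, ?_⟩, ?_⟩
  · intro α hα β hβ
    have e1 : α + β - D (α + β) • φ = (α - D α • φ) + (β - D β • φ) := by
      rw [hDadd α hα β hβ, add_smul]; abel
    show τ (α + β - D (α + β) • φ) + D (α + β) • ζ =
      τ (α - D α • φ) + D α • ζ + (τ (β - D β • φ) + D β • ζ)
    rw [e1, lin_add hτ (hmem α hα) (hmem β hβ), hDadd α hα β hβ, add_smul]
    abel
  · intro α hα n
    have e1 : n • α - D (n • α) • φ = n • (α - D α • φ) := by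
      rw [hDsmul n α hα, smul_sub, mul_smul]
    show τ (n • α - D (n • α) • φ) + D (n • α) • ζ = n • (τ (α - D α • φ) + D α • ζ)
    rw [e1, lin_zsmul hτ (hmem α hα), hDsmul n α hα, smul_add, mul_smul]
  · intro α hα β hβ
    show classInner (τ (α - D α • φ) + D α • ζ) (τ (β - D β • φ) + D β • ζ) = classInner α β
    rw [classInner_add_left, classInner_add_right, classInner_add_right,
      lin_inner hτ (hmem α hα) (hmem β hβ), classInner_zsmul_right, hkey α hα,
      classInner_zsmul_left, hkey' β hβ, classInner_zsmul_left, classInner_zsmul_right, hζn,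
      classInner_sub_left, classInner_sub_right, classInner_sub_right, classInner_zsmul_right,
      classInner_zsmul_left, classInner_zsmul_left, classInner_zsmul_right, hφn]
    ring
  · intro α hα
    exact gen_add (lin_gen hτ (hmem α hα)) (gen_zsmul _ hζ)
  · intro α hα
    have h0 : D α = 0 := by
      refine hDuniq α hα.1 0 ?_
      rw [(mem_zspanOn_one_iff.1 hα).2]; simp
    show τ (α - D α • φ) + D α • ζ = τ α
    rw [h0]
    simp

/-- **The union step of Sibley's coherence theorem.** `Y` is a finite coherent conjugation-closed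
set of norm-one members of the same degree `e` in a coherence system `(S, τ, R)`, `f i` are members
of `S` outside `Y` of degrees `b i * e`, and the numbers `⟨τ (f i - b i • φ'), τ₁ φ⟩` satisfy one
linear relation `∑ a i * b i = k * ∑ b i ^ 2` with an integer `k`. Then `Y ∪ {f i}` is coherent. -/
theorem coherent_XY {S : Set (L → ℂ)} {τ : (L → ℂ) → (G → ℂ)} {R : (L → ℂ) → Finset (G → ℂ)}
    (hS : IsCoherenceSystem S τ R) (Y : Finset (L → ℂ)) (hYS : (Y : Set (L → ℂ)) ⊆ S)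
    (hYc : ∀ φ ∈ Y, conjFun φ ∈ Y) (hYn : ∀ φ ∈ Y, classInner φ φ = 1) (e : ℂ) (he : e ≠ 0)
    (hYe : ∀ φ ∈ Y, φ 1 = e) {τ₁ : (L → ℂ) → (G → ℂ)}
    (hτ₁ : IsLinearIsometryOn (zspan (Y : Set (L → ℂ))) τ₁)
    (hag : ∀ α ∈ zspanOn (Y : Set (L → ℂ)) {1}ᶜ, τ₁ α = τ α) {φ φ' : L → ℂ} (hφ : φ ∈ Y)
    (hφ' : φ' ∈ Y) (hne : φ ≠ φ') {ι : Type*} [Fintype ι] (f : ι → L → ℂ) (b : ι → ℕ)
    (hfS : ∀ i, f i ∈ S) (hb : ∀ i, 0 < b i) (hf1 : ∀ i, f i 1 = (b i : ℂ) * e)
    (hf0 : ∀ i, f i ∉ Y) (k : ℤ)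
    (hk : ∑ i, classInner (τ (f i - (b i : ℤ) • φ')) (τ₁ φ) * (b i : ℂ) =
      (k : ℂ) * ∑ i, (b i : ℂ) ^ 2) :
    IsCoherent ((Y : Set (L → ℂ)) ∪ Set.range f) {1}ᶜ τ := by
  classical
  have hzY : ∀ ψ ∈ Y, ψ ∈ zspan (Y : Set (L → ℂ)) := fun ψ hψ => zspan_subset hψ
  -- orthogonality
  have horthY : ∀ ψ ∈ Y, ∀ ψ' ∈ Y, ψ ≠ ψ' → classInner ψ ψ' = 0 :=
    fun ψ hψ ψ' hψ' h => hS.orthogonal ψ (hYS hψ) ψ' (hYS hψ') h
  have horthf : ∀ i, ∀ ψ ∈ Y, classInner (f i) ψ = 0 := by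
    intro i ψ hψ
    refine hS.orthogonal (f i) (hfS i) ψ (hYS hψ) ?_
    rintro h
    exact hf0 i (h ▸ hψ)
  have horthfc : ∀ i, ∀ ψ ∈ Y, classInner (conjFun (f i)) ψ = 0 := by
    intro i ψ hψ
    refine hS.orthogonal _ (hS.conj_mem _ (hfS i)) ψ (hYS hψ) ?_
    intro h
    apply hf0 i
    rw [← conjFun_conjFun (f i), h]
    exact hYc ψ hψ
  -- differences of members of `Y`
  have hdiff : ∀ ψ ∈ Y, ∀ ψ' ∈ Y, ψ - ψ' ∈ zspanOn (Y : Set (L → ℂ)) {1}ᶜ := by
    intro ψ hψ ψ' hψ'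
    rw [mem_zspanOn_one_iff]
    exact ⟨zspan_sub (hzY ψ hψ) (hzY ψ' hψ'), by rw [Pi.sub_apply, hYe ψ hψ, hYe ψ' hψ', sub_self]⟩
  have hτdiff : ∀ ψ ∈ Y, ∀ ψ' ∈ Y, τ (ψ - ψ') = τ₁ ψ - τ₁ ψ' := by
    intro ψ hψ ψ' hψ'
    rw [← hag _ (hdiff ψ hψ ψ' hψ'), span_sub hτ₁ (hzY ψ hψ) (hzY ψ' hψ')]
  set α : ι → L → ℂ := fun i => f i - (b i : ℤ) • φ' with hα
  have hαmem : ∀ i, α i ∈ zspanOn S {1}ᶜ := by
    intro i
    rw [mem_zspanOn_one_iff]
    refine ⟨zspan_sub (zspan_subset (hfS i)) (zspan_zsmul _ (zspan_subset (hYS hφ'))), ?_⟩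
    show f i 1 - ((b i : ℤ) • φ') 1 = 0
    rw [Pi.smul_apply, hYe φ' hφ', hf1, zsmul_eq_mul]
    simp
  have hτgen : ∀ i, IsGeneralizedCharacter G (τ (α i)) := fun i => lin_gen hS.isometry (hαmem i)
  have hAex : ∀ i, ∃ n : ℤ, classInner (τ (α i)) (τ₁ φ) = n :=
    fun i => gen_inner (hτgen i) (lin_gen hτ₁ (hzY φ hφ))
  choose A hA using hAex
  -- inner products with the other members of `Y`
  have hAY : ∀ i, ∀ ψ ∈ Y, classInner (τ (α i)) (τ₁ ψ) =
      ((A i - (if ψ = φ' then (b i : ℤ) else 0) : ℤ) : ℂ) := by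
    intro i ψ hψ
    have h1 : classInner (τ (α i)) (τ₁ ψ) =
        classInner (τ (α i)) (τ₁ φ) + classInner (τ (α i)) (τ (ψ - φ)) := by
      rw [hτdiff ψ hψ φ hφ, classInner_sub_right]; ring
    have h2 : classInner (τ (α i)) (τ (ψ - φ)) = classInner (α i) (ψ - φ) :=
      lin_inner hS.isometry (hαmem i) (zspanOn_mono hYS (hdiff ψ hψ φ hφ))
    have h3 : classInner (α i) (ψ - φ) = -(if ψ = φ' then (b i : ℂ) else 0) := by
      show classInner (f i - (b i : ℤ) • φ') (ψ - φ) = _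
      rw [classInner_sub_left, classInner_sub_right, classInner_sub_right, horthf i ψ hψ,
        horthf i φ hφ, classInner_zsmul_left, classInner_zsmul_left,
        horthY φ' hφ' φ hφ hne.symm]
      split_ifs with h
      · rw [h, hYn φ' hφ']; simp
      · rw [horthY φ' hφ' ψ hψ (fun h' => h h'.symm)]; simp
    rw [h1, h2, h3, hA]
    push_cast
    split_ifs <;> simp [sub_eq_add_neg]
  -- the norm of `α i`
  have hnorm : ∀ i, (classInner (τ (α i)) (τ (α i))).re = (classInner (f i) (f i)).re +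
      (b i : ℝ) ^ 2 := by
    intro i
    rw [lin_inner hS.isometry (hαmem i) (hαmem i)]
    have h1 : classInner (α i) (α i) = classInner (f i) (f i) + (b i : ℂ) ^ 2 := by
      show classInner (f i - (b i : ℤ) • φ') (f i - (b i : ℤ) • φ') = _
      rw [classInner_sub_left, classInner_sub_right, classInner_sub_right,
        classInner_zsmul_left, classInner_zsmul_right, classInner_zsmul_left,
        classInner_zsmul_right, horthf i φ' hφ', hYn φ' hφ',
        classInner_comm_eq_zero (horthf i φ' hφ')]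
      push_cast; ring
    rw [h1, Complex.add_re]
    congr 1
    rw [← Complex.ofReal_natCast, ← Complex.ofReal_pow, Complex.ofReal_re]
  -- the main inequality
  have hineq : ∀ i, (Y.card : ℤ) * A i ^ 2 ≤ 2 * A i * b i := by
    intro i
    have hχ := hfS i
    have hcc : f i - conjFun (f i) ∈ zspanOn S {1}ᶜ := by
      rw [mem_zspanOn_one_iff]
      refine ⟨zspan_sub (zspan_subset hχ) (zspan_subset (hS.conj_mem _ hχ)), ?_⟩
      obtain ⟨n, hn⟩ := isCharacter_apply_one (hS.isCharacter (f i) hχ)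
      rw [Pi.sub_apply, conjFun_apply, hn]
      simp
    have key := (Cfsg.Agent.S1515.result S τ R hS (f i) hχ ((b i : ℤ) • φ')
      (zspan_zsmul _ (zspan_subset (hYS hφ')))
      (by rw [classInner_zsmul_right, horthf i φ' hφ', mul_zero])
      (by rw [classInner_zsmul_right, horthfc i φ' hφ', mul_zero]) τ
      (by
        refine lin_mono hS.isometry ?_
        intro γ hγ
        obtain ⟨n, m, rfl⟩ := mem_zspan_pair hγ
        exact zspanOn_add (zspanOn_zsmul n (hαmem i)) (zspanOn_zsmul m hcc))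
      (fun n => rfl)).1
    have hRY : ∀ β ∈ R (f i), ∀ ψ ∈ Y, classInner (τ₁ ψ) β = 0 := by
      intro β hβ ψ hψ
      exact ext_orth hS hYS hτ₁ hag hψ (hYc ψ hψ) hχ
        (classInner_comm_eq_zero (horthf i ψ hψ)) (classInner_comm_eq_zero (horthfc i ψ hψ)) β hβ
    have hbes := bessel (ι := (R (f i)) ⊕ Y)
      (Sum.elim (fun β => (β : G → ℂ)) (fun ψ => τ₁ (ψ : L → ℂ)))
      (by
        rintro (⟨β, hβ⟩ | ⟨ψ, hψ⟩)
        · simpa using hS.orthonormal (f i) hχ β hβ β hβ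
        · show classInner (τ₁ ψ) (τ₁ ψ) = 1
          rw [lin_inner hτ₁ (hzY ψ hψ) (hzY ψ hψ), hYn ψ hψ])
      (by
        rintro (⟨β, hβ⟩ | ⟨ψ, hψ⟩) (⟨β', hβ'⟩ | ⟨ψ', hψ'⟩) hne'
        · have h3 := hS.orthonormal (f i) hχ β hβ β' hβ'
          have h4 : β ≠ β' := by
            intro h; apply hne'; subst h; rfl
          rw [if_neg h4] at h3
          exact h3
        · exact classInner_comm_eq_zero (hRY β hβ ψ' hψ')
        · exact hRY β' hβ' ψ hψ
        · show classInner (τ₁ ψ) (τ₁ ψ') = 0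
          rw [lin_inner hτ₁ (hzY ψ hψ) (hzY ψ' hψ')]
          refine horthY ψ hψ ψ' hψ' ?_
          intro h; apply hne'; subst h; rfl) (τ (α i))
    rw [Fintype.sum_sum_type] at hbes
    simp only [Sum.elim_inl, Sum.elim_inr] at hbes
    rw [Finset.sum_coe_sort (R (f i)) (fun β => ‖classInner (τ (α i)) β‖ ^ 2),
      Finset.sum_coe_sort Y (fun ψ => ‖classInner (τ (α i)) (τ₁ ψ)‖ ^ 2), hnorm i] at hbes
    have hsumY : ∑ ψ ∈ Y, ‖classInner (τ (α i)) (τ₁ ψ)‖ ^ 2 =
        (((Y.card : ℤ) * A i ^ 2 - 2 * A i * b i + (b i : ℤ) ^ 2 : ℤ) : ℝ) := by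
      have h1 : ∀ ψ ∈ Y, ‖classInner (τ (α i)) (τ₁ ψ)‖ ^ 2 =
          (A i : ℝ) ^ 2 + (if ψ = φ' then ((b i : ℝ) ^ 2 - 2 * A i * b i) else 0) := by
        intro ψ hψ
        rw [hAY i ψ hψ, Complex.norm_intCast, sq_abs]
        split_ifs <;> push_cast <;> ring
      rw [Finset.sum_congr rfl h1, Finset.sum_add_distrib, Finset.sum_const,
        Finset.sum_ite_eq' Y φ', if_pos hφ']
      push_cast
      rw [nsmul_eq_mul]
      ring
    rw [hsumY] at hbes
    have h5 : (((Y.card : ℤ) * A i ^ 2 - 2 * A i * b i + (b i : ℤ) ^ 2 : ℤ) : ℝ) ≤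
        (((b i : ℤ) ^ 2 : ℤ) : ℝ) := by
      have h6 : (classInner (f i) (f i)).re ≤ ∑ β ∈ R (f i), ‖classInner (τ (α i)) β‖ ^ 2 := key
      push_cast at hbes ⊢
      linarith
    have h7 := Int.cast_le.1 h5
    linarith
  have hYcard : 2 ≤ Y.card := by
    have h1 : ({φ, φ'} : Finset (L → ℂ)) ⊆ Y := by
      intro ψ hψ
      rcases Finset.mem_insert.1 hψ with rfl | h
      · exact hφ
      · rw [Finset.mem_singleton.1 h]; exact hφ'
    have h2 := Finset.card_le_card h1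
    rwa [Finset.card_pair hne] at h2
  have hA0 : ∀ i, 0 ≤ A i := by
    intro i
    by_contra hneg
    push Not at hneg
    have h1 := hineq i
    have h2 : (0 : ℤ) < b i := by exact_mod_cast hb i
    nlinarith [sq_nonneg (A i), mul_pos (neg_pos.2 hneg) h2]
  have hAb : ∀ i, A i ≤ b i := by
    intro i
    by_contra hneg
    push Not at hneg
    have h1 := hineq i
    have h2 : (0 : ℤ) < b i := by exact_mod_cast hb i
    have h3 : (2 : ℤ) ≤ Y.card := by exact_mod_cast hYcard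
    have h4 : 0 < A i := lt_trans h2 hneg
    have h5 : (2 : ℤ) * A i ^ 2 ≤ Y.card * A i ^ 2 :=
      mul_le_mul_of_nonneg_right h3 (sq_nonneg _)
    nlinarith [mul_pos h4 (sub_pos.2 hneg)]
  have hkZ : ∑ i, A i * (b i : ℤ) = k * ∑ i, (b i : ℤ) ^ 2 := by
    have h1 : ((∑ i, A i * (b i : ℤ) : ℤ) : ℂ) = ((k * ∑ i, (b i : ℤ) ^ 2 : ℤ) : ℂ) := by
      push_cast
      rw [← hk]
      refine Finset.sum_congr rfl fun i _ => ?_
      rw [← hA i]
    exact_mod_cast h1
  -- the degrees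
  have hdex : ∀ ψ ∈ ((Y : Set (L → ℂ)) ∪ Set.range f), ∃ n : ℤ, ψ 1 = (n : ℂ) * φ' 1 := by
    rintro ψ (hψ | ⟨i, rfl⟩)
    · exact ⟨1, by rw [hYe ψ hψ, hYe φ' hφ']; simp⟩
    · exact ⟨b i, by rw [hf1, hYe φ' hφ']; simp⟩
  choose! d hd using hdex
  have hdY : ∀ ψ ∈ Y, d ψ = 1 := by
    intro ψ hψ
    have h1 := hd ψ (Or.inl hψ)
    rw [hYe ψ hψ, hYe φ' hφ'] at h1
    have h2 : (d ψ : ℂ) = 1 := by
      have h3 : ((d ψ : ℂ) - 1) * e = 0 := by rw [sub_mul, one_mul, ← h1, sub_self]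
      rcases mul_eq_zero.1 h3 with h4 | h4
      · exact sub_eq_zero.1 h4
      · exact absurd h4 he
    exact_mod_cast h2
  have hdf : ∀ i, d (f i) = b i := by
    intro i
    have h1 := hd (f i) (Or.inr ⟨i, rfl⟩)
    rw [hf1, hYe φ' hφ'] at h1
    have h2 := mul_right_cancel₀ he h1
    have h3 : ((d (f i) : ℤ) : ℂ) = ((b i : ℤ) : ℂ) := by rw [← h2]; simp
    exact_mod_cast h3
  have hsub : ((Y : Set (L → ℂ)) ∪ Set.range f) ⊆ S := by
    rintro ψ (hψ | ⟨i, rfl⟩)
    · exact hYS hψ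
    · exact hfS i
  have hnez : ∃ α ∈ zspanOn ((Y : Set (L → ℂ)) ∪ Set.range f) {1}ᶜ, α ≠ 0 :=
    ⟨φ - φ', zspanOn_mono Set.subset_union_left (hdiff φ hφ φ' hφ'), sub_ne_zero.2 hne⟩
  have horthT : ∀ ψ ∈ ((Y : Set (L → ℂ)) ∪ Set.range f), ψ ≠ φ' → classInner ψ φ' = 0 := by
    rintro ψ (hψ | ⟨i, rfl⟩) hne'
    · exact horthY ψ hψ φ' hφ' hne'
    · exact horthf i φ' hφ'
  -- the two cases
  have hcase : (∀ i, A i = 0) ∨ ((∀ i, A i = b i) ∧ Y = {φ, φ'}) := by
    rcases isEmpty_or_nonempty ι with hι | ⟨⟨i₀⟩⟩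
    · exact Or.inl fun i => hι.elim i
    have hpos : 0 < ∑ i, (b i : ℤ) ^ 2 := by
      refine Finset.sum_pos (fun i _ => ?_) ⟨i₀, Finset.mem_univ _⟩
      have : (0 : ℤ) < b i := by exact_mod_cast hb i
      positivity
    have h0 : 0 ≤ ∑ i, A i * (b i : ℤ) :=
      Finset.sum_nonneg fun i _ => mul_nonneg (hA0 i) (by positivity)
    have h1 : ∑ i, A i * (b i : ℤ) ≤ ∑ i, (b i : ℤ) ^ 2 := by
      refine Finset.sum_le_sum fun i _ => ?_
      have h2 : (0 : ℤ) < b i := by exact_mod_cast hb i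
      nlinarith [hAb i]
    rw [hkZ] at h0 h1
    have hk0 : 0 ≤ k := by
      by_contra hneg
      push Not at hneg
      nlinarith
    have hk1 : k ≤ 1 := by
      by_contra hneg
      push Not at hneg
      nlinarith
    have hk01 : k = 0 ∨ k = 1 := by omega
    rcases hk01 with rfl | rfl
    · left
      rw [zero_mul] at hkZ
      intro i
      have h2 := (Finset.sum_eq_zero_iff_of_nonneg
        (fun i _ => mul_nonneg (hA0 i) (by positivity : (0 : ℤ) ≤ b i))).1 hkZ i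
        (Finset.mem_univ i)
      rcases mul_eq_zero.1 h2 with h3 | h3
      · exact h3
      · have : (0 : ℤ) < b i := by exact_mod_cast hb i
        omega
    · right
      rw [one_mul] at hkZ
      have h2 : ∑ i, ((b i : ℤ) - A i) * (b i : ℤ) = 0 := by
        have : ∀ i ∈ Finset.univ, ((b i : ℤ) - A i) * (b i : ℤ) = (b i : ℤ) ^ 2 - A i * b i :=
          fun i _ => by ring
        rw [Finset.sum_congr rfl this, Finset.sum_sub_distrib, hkZ, sub_self]
      have hall : ∀ i, A i = b i := by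
        intro i
        have h3 := (Finset.sum_eq_zero_iff_of_nonneg
          (fun i _ => mul_nonneg (sub_nonneg.2 (hAb i)) (by positivity : (0 : ℤ) ≤ b i))).1 h2 i
          (Finset.mem_univ i)
        rcases mul_eq_zero.1 h3 with h4 | h4
        · omega
        · have : (0 : ℤ) < b i := by exact_mod_cast hb i
          omega
      refine ⟨hall, ?_⟩
      have h4 := hineq i₀
      rw [hall i₀] at h4
      have h5 : (0 : ℤ) < b i₀ := by exact_mod_cast hb i₀
      have h6 : (Y.card : ℤ) ≤ 2 := by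
        by_contra hneg
        push Not at hneg
        nlinarith [mul_pos h5 h5]
      have h7 : Y.card ≤ 2 := by exact_mod_cast h6
      have h8 : ({φ, φ'} : Finset (L → ℂ)) ⊆ Y := by
        intro ψ hψ
        rcases Finset.mem_insert.1 hψ with rfl | h
        · exact hφ
        · rw [Finset.mem_singleton.1 h]; exact hφ'
      refine (Finset.eq_of_subset_of_card_le h8 ?_).symm
      rw [Finset.card_pair hne]
      exact h7
  rcases hcase with h0 | ⟨h1, hY2⟩
  · -- `ζ = τ₁ φ'`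
    refine coherent_of_pivot (lin_mono hS.isometry (zspanOn_mono hsub)) hnez d (φ := φ')
      (Or.inl hφ') (by rw [hYe φ' hφ']; exact he) (hYn φ' hφ') hd horthT (τ₁ φ')
      (lin_gen hτ₁ (hzY φ' hφ')) (by rw [lin_inner hτ₁ (hzY φ' hφ') (hzY φ' hφ'), hYn φ' hφ']) ?_
    rintro ψ (hψ | ⟨i, rfl⟩) hne'
    · rw [hdY ψ hψ, one_smul, hτdiff ψ hψ φ' hφ', classInner_sub_left,
        lin_inner hτ₁ (hzY ψ hψ) (hzY φ' hφ'), lin_inner hτ₁ (hzY φ' hφ') (hzY φ' hφ'),
        hYn φ' hφ', horthY ψ hψ φ' hφ' hne']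
      simp
    · rw [hdf i]
      have h2 := hAY i φ' hφ'
      rw [if_pos rfl, h0 i] at h2
      show classInner (τ (α i)) (τ₁ φ') = _
      rw [h2]
      simp
  · -- `ζ = -τ₁ φ`
    refine coherent_of_pivot (lin_mono hS.isometry (zspanOn_mono hsub)) hnez d (φ := φ')
      (Or.inl hφ') (by rw [hYe φ' hφ']; exact he) (hYn φ' hφ') hd horthT (-(τ₁ φ))
      (gen_neg (lin_gen hτ₁ (hzY φ hφ)))
      (by
        rw [classInner_neg_left, classInner_neg_right, lin_inner hτ₁ (hzY φ hφ) (hzY φ hφ),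
          hYn φ hφ]
        simp) ?_
    rintro ψ (hψ | ⟨i, rfl⟩) hne'
    · have hψφ : ψ = φ := by
        have hψ' : ψ ∈ ({φ, φ'} : Finset (L → ℂ)) := hY2 ▸ hψ
        rcases Finset.mem_insert.1 hψ' with h | h
        · exact h
        · exact absurd (Finset.mem_singleton.1 h) hne'
      subst hψφ
      rw [hdY ψ hψ, one_smul, hτdiff ψ hψ φ' hφ', classInner_neg_right, classInner_sub_left,
        lin_inner hτ₁ (hzY ψ hψ) (hzY ψ hψ), lin_inner hτ₁ (hzY φ' hφ') (hzY ψ hψ),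
        hYn ψ hψ, horthY φ' hφ' ψ hψ hne'.symm]
      simp
    · rw [hdf i]
      show classInner (τ (α i)) (-(τ₁ φ)) = _
      rw [classInner_neg_right, hA i, h1 i]

end Cfsg.Agent.OddOrderCharacters.SibleyPivot
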