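import Mathlib
import Cfsg.Prelude.Def_Characters
import Cfsg.Prelude.Def_OddOrderChar
import Cfsg.Prelude.Def_OddOrderLocal
import Cfsg.Agent.Characters.Core
import Cfsg.Agent.S0148
import Cfsg.Agent.S0150
import Cfsg.Agent.S0181
set_option linter.all false

/-!
# Induction from the normaliser of a TI subgroup with Frobenius normaliser

For `K` a TI-subgroup containing the centralisers of its non-identity elements, induction from
`N = N_G(K)` to `G` is a linear isometry on the integer combinations of the irreducible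
characters of `N` nontrivial on `K` that vanish at `1`, and the values vanish at `1`.
-/

set_option autoImplicit false

open scoped ComplexConjugate
open Cfsg Cfsg.Agent.Characters.Core

namespace Cfsg.Agent.OddOrderCharacters.TIIsometry

section span

variable {N : Type*} [Group N]

theorem zspan_induction {X : Type*} {S : Set (X → ℂ)} {p : (X → ℂ) → Prop}
    (hmem : ∀ χ ∈ S, p χ) (h0 : p 0) (hadd : ∀ α β, p α → p β → p (α + β))
    (hneg : ∀ α, p α → p (-α)) {α : X → ℂ} (hα : α ∈ zspan S) : p α := by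
  have hα' : α ∈ Submodule.span ℤ S := hα
  refine Submodule.span_induction (p := fun x _ => p x) (fun x hx => hmem x hx) h0
    (fun x y _ _ hx hy => hadd x y hx hy) ?_ hα'
  intro a x _ hx
  induction a using Int.induction_on with
  | zero => rw [zero_smul]; exact h0
  | succ i ih => rw [add_smul, one_smul]; exact hadd _ _ ih hx
  | pred i ih => rw [sub_smul, one_smul, sub_eq_add_neg]; exact hadd _ _ ih (hneg _ hx)

theorem isClassFunction_of_mem_zspan {S : Set (N → ℂ)} (hS : ∀ χ ∈ S, IsClassFunction N χ)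
    {α : N → ℂ} (hα : α ∈ zspan S) : IsClassFunction N α := by
  refine zspan_induction (p := IsClassFunction N) hS ?_ ?_ ?_ hα
  · intro g h; rfl
  · intro α β ha hb g h
    show α (h * g * h⁻¹) + β (h * g * h⁻¹) = α g + β g
    rw [ha, hb]
  · intro α ha g h
    show -α (h * g * h⁻¹) = -α g
    rw [ha]

theorem vanish_of_mem_zspan {X : Type*} {S : Set (X → ℂ)} {x : X} (hS : ∀ χ ∈ S, χ x = 0)
    {α : X → ℂ} (hα : α ∈ zspan S) : α x = 0 := by
  refine zspan_induction (p := fun α => α x = 0) hS rfl ?_ ?_ hα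
  · intro α β ha hb
    show α x + β x = 0
    rw [ha, hb, add_zero]
  · intro α ha
    show -α x = 0
    rw [ha, neg_zero]

theorem isGen_zero : IsGeneralizedCharacter N (0 : N → ℂ) :=
  ⟨0, 0, isCharacter_zero, isCharacter_zero, by rw [sub_zero]⟩

theorem isGen_add {α β : N → ℂ} (hα : IsGeneralizedCharacter N α)
    (hβ : IsGeneralizedCharacter N β) : IsGeneralizedCharacter N (α + β) := by
  obtain ⟨a, b, ha, hb, rfl⟩ := hα
  obtain ⟨c, d, hc, hd, rfl⟩ := hβ
  exact ⟨a + c, b + d, isCharacter_add ha hc, isCharacter_add hb hd, by abel⟩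

theorem isGen_neg {α : N → ℂ} (hα : IsGeneralizedCharacter N α) :
    IsGeneralizedCharacter N (-α) := by
  obtain ⟨a, b, ha, hb, rfl⟩ := hα
  exact ⟨b, a, hb, ha, by abel⟩

theorem isGen_of_isCharacter {α : N → ℂ} (hα : IsCharacter N α) :
    IsGeneralizedCharacter N α :=
  ⟨α, 0, hα, isCharacter_zero, by rw [sub_zero]⟩

theorem isGeneralizedCharacter_of_mem_zspan {S : Set (N → ℂ)} (hS : ∀ χ ∈ S, IsCharacter N χ)
    {α : N → ℂ} (hα : α ∈ zspan S) : IsGeneralizedCharacter N α :=
  zspan_induction (p := IsGeneralizedCharacter N) (fun χ hχ => isGen_of_isCharacter (hS χ hχ))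
    isGen_zero (fun _ _ => isGen_add) (fun _ => isGen_neg) hα

end span

section ext

variable {G : Type*} [Group G]

theorem extendByZero_add (H : Subgroup G) (φ ψ : H → ℂ) :
    extendByZero H (φ + ψ) = extendByZero H φ + extendByZero H ψ := by
  funext g
  by_cases hg : g ∈ H
  · have h1 := S0150.extendByZero_coe H (φ + ψ) ⟨g, hg⟩
    have h2 := S0150.extendByZero_coe H φ ⟨g, hg⟩
    have h3 := S0150.extendByZero_coe H ψ ⟨g, hg⟩
    rw [Pi.add_apply]
    change extendByZero H (φ + ψ) g = _ at h1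
    change extendByZero H φ g = _ at h2
    change extendByZero H ψ g = _ at h3
    rw [h1, h2, h3]; rfl
  · rw [Pi.add_apply, S0150.extendByZero_of_notMem H _ hg, S0150.extendByZero_of_notMem H _ hg,
      S0150.extendByZero_of_notMem H _ hg, add_zero]

theorem extendByZero_smul (H : Subgroup G) (c : ℂ) (φ : H → ℂ) :
    extendByZero H (c • φ) = c • extendByZero H φ := by
  funext g
  by_cases hg : g ∈ H
  · have h1 := S0150.extendByZero_coe H (c • φ) ⟨g, hg⟩
    have h2 := S0150.extendByZero_coe H φ ⟨g, hg⟩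
    rw [Pi.smul_apply]
    change extendByZero H (c • φ) g = _ at h1
    change extendByZero H φ g = _ at h2
    rw [h1, h2]; rfl
  · rw [Pi.smul_apply, S0150.extendByZero_of_notMem H _ hg, S0150.extendByZero_of_notMem H _ hg,
      smul_zero]

end ext

section ind

variable {G : Type*} [Group G] [Fintype G]

theorem indFun_add (H : Subgroup G) (φ ψ : H → ℂ) :
    indFun H (φ + ψ) = indFun H φ + indFun H ψ := by
  funext g
  rw [Pi.add_apply, S0150.indFun_apply, S0150.indFun_apply, S0150.indFun_apply, ← mul_add,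
    ← Finset.sum_add_distrib, extendByZero_add]
  rfl

theorem indFun_smul (H : Subgroup G) (c : ℂ) (φ : H → ℂ) :
    indFun H (c • φ) = c • indFun H φ := by
  funext g
  rw [Pi.smul_apply, S0150.indFun_apply, S0150.indFun_apply, extendByZero_smul, smul_eq_mul,
    mul_left_comm c, Finset.mul_sum Finset.univ _ c]
  rfl

theorem indFun_zsmul (H : Subgroup G) (n : ℤ) (φ : H → ℂ) :
    indFun H (n • φ) = n • indFun H φ := by
  rw [← Int.cast_smul_eq_zsmul ℂ, ← Int.cast_smul_eq_zsmul ℂ, indFun_smul]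

theorem indFun_neg (H : Subgroup G) (φ : H → ℂ) :
    indFun H (-φ) = -indFun H φ := by
  have := indFun_smul H (-1) φ
  rwa [neg_one_smul, neg_one_smul] at this

theorem indFun_sub (H : Subgroup G) (φ ψ : H → ℂ) :
    indFun H (φ - ψ) = indFun H φ - indFun H ψ := by
  rw [sub_eq_add_neg, indFun_add, indFun_neg, ← sub_eq_add_neg]

theorem indFun_isGen (H : Subgroup G) {φ : H → ℂ} (hφ : IsGeneralizedCharacter H φ) :
    IsGeneralizedCharacter G (indFun H φ) := by
  obtain ⟨a, b, ha, hb, rfl⟩ := hφ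
  exact ⟨_, _, S0148.result H a ha, S0148.result H b hb, indFun_sub H a b⟩

theorem indFun_apply_one (H : Subgroup G) {φ : H → ℂ} (hφ : φ 1 = 0) : indFun H φ 1 = 0 := by
  rw [S0150.indFun_apply]
  have : ∀ x : G, extendByZero H φ (x⁻¹ * 1 * x) = 0 := by
    intro x
    have h1 := S0150.extendByZero_coe H φ 1
    have : x⁻¹ * 1 * x = ((1 : H) : G) := by simp
    rw [this, h1, hφ]
  rw [Finset.sum_congr rfl fun x _ => this x, Finset.sum_const_zero, mul_zero]

end ind

/-- An irreducible character nontrivial on a normal subgroup containing the centralisers of its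
non-identity elements vanishes off that subgroup. -/
theorem vanish_off {N : Type*} [Group N] [Finite N] (H : Subgroup N) [H.Normal]
    (hC : ∀ h ∈ H, h ≠ 1 → Subgroup.centralizer ({h} : Set N) ≤ H) {χ : N → ℂ}
    (hχ : IsIrrCharacter N χ) (hker : ∃ h ∈ H, χ h ≠ χ 1) {g : N} (hg : g ∉ H) : χ g = 0 := by
  obtain ⟨n, ρ, hρ, rfl⟩ := hχ
  have := hρ
  refine S0181.result ρ H ?_ g ?_
  · obtain ⟨h, hh, hne⟩ := hker
    refine ⟨h, hh, fun hid => hne ?_⟩
    show LinearMap.trace ℂ _ (ρ h) = LinearMap.trace ℂ _ (ρ 1)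
    rw [hid, map_one]; rfl
  · intro h hh hcomm
    by_contra h1
    exact hg (hC h hh h1 (Subgroup.mem_centralizer_singleton_iff.2 hcomm.symm))

theorem subgroupOf_centralizer {G : Type*} [Group G] (K : Subgroup G)
    (hC : ∀ k ∈ K, k ≠ 1 → Subgroup.centralizer ({k} : Set G) ≤ K)
    (N : Subgroup G) :
    ∀ h ∈ K.subgroupOf N, h ≠ 1 →
      Subgroup.centralizer ({h} : Set N) ≤ K.subgroupOf N := by
  intro h hh h1 g hg
  rw [Subgroup.mem_subgroupOf] at hh ⊢
  refine hC h hh (fun h2 => h1 (Subtype.ext h2)) ?_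
  rw [Subgroup.mem_centralizer_singleton_iff] at hg ⊢
  exact congrArg Subtype.val hg

section TI

variable {G : Type*} [Group G] [Fintype G] (K : Subgroup G)

/-- Induced functions of members of `ℤ[S]°` vanish at `1`. -/
theorem indFun_apply_one_of_mem_zspanOn {S : Set (↥(Subgroup.normalizer (K : Set G)) → ℂ)} :
    ∀ α ∈ zspanOn S {1}ᶜ, Cfsg.indFun (Subgroup.normalizer (K : Set G)) α 1 = 0 :=
  fun α hα => indFun_apply_one _ (hα.2 1 (by simp))

variable [Fintype ↥(Subgroup.normalizer (K : Set G))]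

/-- Induction from the normaliser of a TI subgroup `K` with Frobenius normaliser is a linear
isometry on `ℤ[S]°`, where `S` consists of irreducible characters of `N` nontrivial on `K`. -/
theorem isLinearIsometryOn_indFun (hTI : Cfsg.IsTISubset (K : Set G))
    (hC : ∀ k ∈ K, k ≠ 1 → Subgroup.centralizer ({k} : Set G) ≤ K)
    (S : Set (↥(Subgroup.normalizer (K : Set G)) → ℂ))
    (hS : ∀ χ ∈ S, IsIrrCharacter ↥(Subgroup.normalizer (K : Set G)) χ ∧
      ∃ k : ↥(Subgroup.normalizer (K : Set G)), (k : G) ∈ K ∧ χ k ≠ χ 1) :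
    IsLinearIsometryOn (zspanOn S {1}ᶜ)
      (fun α => Cfsg.indFun (Subgroup.normalizer (K : Set G)) α) := by
  have hvan : ∀ α ∈ zspan S, ∀ x : ↥(Subgroup.normalizer (K : Set G)), (x : G) ∉ (K : Set G) →
      α x = 0 := by
    intro α hα x hx
    refine vanish_of_mem_zspan (fun χ hχ => ?_) hα
    obtain ⟨hirr, k, hk, hne⟩ := hS χ hχ
    refine vanish_off (K.subgroupOf (Subgroup.normalizer (K : Set G)))
      (subgroupOf_centralizer K hC _) hirr ⟨k, Subgroup.mem_subgroupOf.2 hk, hne⟩ ?_
    rwa [Subgroup.mem_subgroupOf]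
  have hcl : ∀ α ∈ zspan S, IsClassFunction _ α := fun α hα =>
    isClassFunction_of_mem_zspan (fun χ hχ => isIrr_isClassFunction (hS χ hχ).1) hα
  refine ⟨fun α _ β _ => indFun_add _ α β, fun α _ n => indFun_zsmul _ n α, ?_, ?_⟩
  · intro α hα β hβ
    refine S0150.result (K : Set G) hTI ?_ α β (hcl α hα.1) (hcl β hβ.1) (hvan α hα.1)
      (hvan β hβ.1) (hα.2 1 (by simp))
    exact fun k hk => Subgroup.le_normalizer hk
  · intro α hα
    exact indFun_isGen _ (isGeneralizedCharacter_of_mem_zspan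
      (fun χ hχ => isIrr_isCharacter (hS χ hχ).1) hα.1)

end TI

end Cfsg.Agent.OddOrderCharacters.TIIsometry
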