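import Mathlib
import Cfsg.Prelude.Def_OddOrderLocal
set_option linter.all false

/-!
# Counting conjugates of the non-identity elements of a TI subgroup
-/

set_option autoImplicit false

namespace Cfsg.Agent.OddOrderCharacters.TICount

open Cfsg

variable {G : Type*} [Group G]

/-- For a TI subgroup `H` and `h ∈ H`, `h ≠ 1`: `n h n⁻¹ ∈ H` iff `n` normalises `H`. -/
theorem conj_mem_iff (H : Subgroup G) (hTI : IsTISubset (H : Set G)) {h : G} (hh : h ∈ H)
    (h1 : h ≠ 1) (n : G) : n * h * n⁻¹ ∈ H ↔ n ∈ Subgroup.normalizer (H : Set G) := by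
  constructor
  · intro hn
    by_contra hcon
    exact h1 (hTI n hcon h hh hn)
  · intro hn
    exact (Subgroup.mem_normalizer_iff.mp hn h).mp hh

/-- The fibre of elements conjugating `c` into the TI subgroup `H` is a coset of the normaliser. -/
noncomputable def fibreEquiv (H : Subgroup G) (hTI : IsTISubset (H : Set G)) {c : G} (hc : c ≠ 1)
    (hx : ∃ x : G, x * c * x⁻¹ ∈ H) :
    {x : G // x * c * x⁻¹ ∈ H} ≃ Subgroup.normalizer (H : Set G) where
  toFun x := ⟨x.1 * hx.choose⁻¹, by
    have h0 := hx.choose_spec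
    have h1 : hx.choose * c * hx.choose⁻¹ ≠ 1 := by
      intro h
      apply hc
      have := congrArg (fun t => hx.choose⁻¹ * t * hx.choose) h
      simpa [mul_assoc] using this
    refine (conj_mem_iff H hTI h0 h1 _).mp ?_
    have := x.2
    simpa [mul_assoc] using this⟩
  invFun n := ⟨n.1 * hx.choose, by
    have h0 := hx.choose_spec
    have := (Subgroup.mem_normalizer_iff.mp n.2 _).mp h0
    simpa [mul_assoc] using this⟩
  left_inv x := by simp
  right_inv n := by simp

/-- The number of non-identity elements conjugate into a TI subgroup `H` is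
`[G : N_G(H)] (|H| - 1)`. -/
theorem card_conj_TI [Finite G] (H : Subgroup G) (hTI : IsTISubset (H : Set G)) :
    Nat.card {g : G // g ≠ 1 ∧ ∃ x : G, x * g * x⁻¹ ∈ H} =
      (Subgroup.normalizer (H : Set G)).index * (Nat.card H - 1) := by
  classical
  set N := Subgroup.normalizer (H : Set G) with hN
  set C := {g : G // g ≠ 1 ∧ ∃ x : G, x * g * x⁻¹ ∈ H} with hC
  -- the total space
  let e : (Σ c : C, {x : G // x * c.1 * x⁻¹ ∈ H}) ≃ G × {h : H // h ≠ 1} :=
    Equiv.ofBijective (fun p => (p.2.1, ⟨⟨p.2.1 * p.1.1 * p.2.1⁻¹, p.2.2⟩, by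
        intro h
        apply p.1.2.1
        have := congrArg (fun t => p.2.1⁻¹ * t * p.2.1) (congrArg Subtype.val h)
        simpa [mul_assoc] using this⟩)) (by
      constructor
      · rintro ⟨⟨c, hc⟩, ⟨x, hx⟩⟩ ⟨⟨c', hc'⟩, ⟨x', hx'⟩⟩ h
        simp only [Prod.mk.injEq, Subtype.mk.injEq] at h
        obtain ⟨rfl, h2⟩ := h
        have : c = c' := by simpa using h2
        subst this
        rfl
      · rintro ⟨x, ⟨⟨h, hh⟩, h1⟩⟩
        refine ⟨⟨⟨x⁻¹ * h * x, ?_, ⟨x, by simpa [mul_assoc] using hh⟩⟩,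
          ⟨x, by simpa [mul_assoc] using hh⟩⟩, ?_⟩
        · intro h'
          apply h1
          apply Subtype.ext
          have := congrArg (fun t => x * t * x⁻¹) h'
          simpa [mul_assoc] using this
        · simp [mul_assoc])
  have hsig : Nat.card (Σ c : C, {x : G // x * c.1 * x⁻¹ ∈ H}) = Nat.card C * Nat.card N := by
    have : Fintype C := Fintype.ofFinite _
    rw [Nat.card_sigma]
    have : ∀ c : C, Nat.card {x : G // x * c.1 * x⁻¹ ∈ H} = Nat.card N := fun c =>
      Nat.card_congr (fibreEquiv H hTI c.2.1 c.2.2)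
    simp [this]
  have hcardH : Nat.card {h : H // h ≠ 1} = Nat.card H - 1 := by
    have : Fintype H := Fintype.ofFinite _
    rw [Nat.card_eq_fintype_card, Nat.card_eq_fintype_card]
    simp [Fintype.card_subtype_compl]
  have h1 : Nat.card C * Nat.card N = Nat.card G * (Nat.card H - 1) := by
    rw [← hsig, Nat.card_congr e, Nat.card_prod, hcardH]
  have h2 : N.index * Nat.card N = Nat.card G := N.index_mul_card
  have hpos : 0 < Nat.card N := Nat.card_pos
  have : Nat.card C * Nat.card N = N.index * (Nat.card H - 1) * Nat.card N := by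
    rw [h1, ← h2]; ring
  exact Nat.eq_of_mul_eq_mul_right hpos this

/-- An element conjugate into two subgroups of coprime orders is trivial. -/
theorem eq_one_of_conj_mem_coprime [Finite G] {H K : Subgroup G}
    (hcop : Nat.Coprime (Nat.card H) (Nat.card K)) {g x y : G} (hx : x * g * x⁻¹ ∈ H)
    (hy : y * g * y⁻¹ ∈ K) : g = 1 := by
  have hx' : orderOf g ∣ Nat.card H := by
    have := Subgroup.orderOf_dvd_natCard H hx
    rwa [← MulAut.conj_apply, MulEquiv.orderOf_eq] at this
  have hy' : orderOf g ∣ Nat.card K := by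
    have := Subgroup.orderOf_dvd_natCard K hy
    rwa [← MulAut.conj_apply, MulEquiv.orderOf_eq] at this
  rw [← orderOf_eq_one_iff]
  exact Nat.eq_one_of_dvd_coprimes hcop hx' hy'

/-- Counting formula for a covering of `G \ {1}` by conjugates of TI subgroups of coprime
orders. -/
theorem card_eq_sum [Finite G] {ι : Type*} [Fintype ι] (H : ι → Subgroup G)
    (hcop : ∀ i j, i ≠ j → Nat.Coprime (Nat.card (H i)) (Nat.card (H j)))
    (hTI : ∀ i, Cfsg.IsTISubset (H i : Set G))
    (hcover : ∀ g : G, g ≠ 1 → ∃ i, ∃ x : G, x * g * x⁻¹ ∈ H i) :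
    Nat.card G - 1 = ∑ i, (Subgroup.normalizer (H i : Set G)).index * (Nat.card (H i) - 1) := by
  classical
  have hcard : Nat.card {g : G // g ≠ 1} = Nat.card G - 1 := by
    have : Fintype G := Fintype.ofFinite _
    rw [Nat.card_eq_fintype_card, Nat.card_eq_fintype_card]
    simp [Fintype.card_subtype_compl]
  rw [← hcard]
  let e : (Σ i, {g : G // g ≠ 1 ∧ ∃ x : G, x * g * x⁻¹ ∈ H i}) ≃ {g : G // g ≠ 1} :=
    Equiv.ofBijective (fun p => ⟨p.2.1, p.2.2.1⟩) (by
      constructor
      · rintro ⟨i, ⟨g, hg, x, hx⟩⟩ ⟨j, ⟨g', hg', x', hx'⟩⟩ h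
        simp only [Subtype.mk.injEq] at h
        subst h
        have hij : i = j := by
          by_contra hne
          exact hg (eq_one_of_conj_mem_coprime (hcop i j hne) hx hx')
        subst hij
        rfl
      · rintro ⟨g, hg⟩
        obtain ⟨i, x, hx⟩ := hcover g hg
        exact ⟨⟨i, ⟨g, hg, x, hx⟩⟩, rfl⟩)
  rw [← Nat.card_congr e, Nat.card_sigma]
  exact Finset.sum_congr rfl fun i _ => card_conj_TI (H i) (hTI i)

end Cfsg.Agent.OddOrderCharacters.TICount
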