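import Cfsg.Agent.OddOrderCharacters.VChar
import Cfsg.Agent.OddOrderCharacters.InducedSum
import Cfsg.Agent.OddOrderCharacters.InducedNormal
import Cfsg.Agent.S1486
set_option linter.all false

/-!
Peterfalvi (7.6)–(7.8) in abstract form.  `L`, `G` are finite groups, `K` a normal subgroup of `L`,
`τ` a map from functions on `L` to functions on `G`, `ρ` its adjoint on class functions supported
on `K \ {1}` (Dade map and its adjoint, or induction from a TI-subset and restriction).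
-/

set_option autoImplicit false

open scoped ComplexConjugate
open Cfsg Cfsg.Agent.Characters.Core Cfsg.Agent.OddOrderCharacters.VChar
open Cfsg.Agent.OddOrderCharacters.InducedNormal Cfsg.Agent.OddOrderCharacters.InducedSum

namespace Cfsg.Agent.OddOrderCharacters.PF7Abstract

variable {L : Type*} [Group L] [Fintype L] {G : Type*} [Group G] [Fintype G]

/-- `(τ, ρ)` is an adjoint pair on class functions of `L` supported on `A`, with `τ` an isometry. -/
structure AdjPair (A : Set L) (τ : (L → ℂ) → (G → ℂ)) (ρ : (G → ℂ) → (L → ℂ)) : Prop where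
  recip : ∀ α : L → ℂ, IsClassFunction L α → (∀ x, x ∉ A → α x = 0) → ∀ χ : G → ℂ,
    IsClassFunction G χ → classInner (τ α) χ = classInner α (ρ χ)
  isometry : ∀ α : L → ℂ, IsClassFunction L α → (∀ x, x ∉ A → α x = 0) → ∀ β : L → ℂ,
    IsClassFunction L β → (∀ x, x ∉ A → β x = 0) → classInner (τ α) (τ β) = classInner α β
  tau_class : ∀ α : L → ℂ, IsClassFunction L α → (∀ x, x ∉ A → α x = 0) →
    IsClassFunction G (τ α)
  rho_class : ∀ χ : G → ℂ, IsClassFunction G χ → IsClassFunction L (ρ χ)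
  rho_supp : ∀ (χ : G → ℂ) (x : L), x ∉ A → ρ χ x = 0
  rho_one : ∀ x ∈ A, ρ (fun _ => 1) x = 1

/-- The set `K \ {1}`. -/
def sharp (K : Subgroup L) : Set L := {x | x ∈ K ∧ x ≠ 1}

omit [Fintype L] in
theorem mem_sharp {K : Subgroup L} {x : L} : x ∈ sharp K ↔ x ∈ K ∧ x ≠ 1 := Iff.rfl

/-- Members of `inducedIrrAbove K A` are pairwise orthogonal. -/
theorem induced_orthogonal (K A : Subgroup L) [hK : K.Normal] {φ ψ : L → ℂ}
    (hφ : φ ∈ inducedIrrAbove K A) (hψ : ψ ∈ inducedIrrAbove K A) (hne : φ ≠ ψ) :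
    classInner φ ψ = 0 := by
  obtain ⟨θ, hθ, -, -, rfl⟩ := hφ
  obtain ⟨η, hη, -, -, rfl⟩ := hψ
  have h := S1486.result K η θ hη hθ
  exact h.2 (fun hg => hne (h.1 hg))

theorem induced_vanish (K A : Subgroup L) [hK : K.Normal] {φ : L → ℂ}
    (hφ : φ ∈ inducedIrrAbove K A) {x : L} (hx : x ∉ K) : φ x = 0 := by
  obtain ⟨θ, hθ, -, -, rfl⟩ := hφ
  exact indFun_of_not_mem K θ hx

theorem induced_class (K A : Subgroup L) {φ : L → ℂ}
    (hφ : φ ∈ inducedIrrAbove K A) : IsClassFunction L φ := by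
  obtain ⟨θ, hθ, -, -, rfl⟩ := hφ
  exact indFun_isClassFunction K θ

/-- The degree of a member of `inducedIrrAbove K A` is `[L:K]` times a positive natural number. -/
theorem induced_degree (K A : Subgroup L) {φ : L → ℂ}
    (hφ : φ ∈ inducedIrrAbove K A) : ∃ m : ℕ, 0 < m ∧ φ 1 = (K.index : ℂ) * m := by
  obtain ⟨θ, hθ, -, -, rfl⟩ := hφ
  obtain ⟨m, hm, h⟩ := isIrr_apply_one hθ
  exact ⟨m, hm, by rw [indFun_one, h]⟩

theorem index_ne_zero' (K : Subgroup L) : (K.index : ℂ) ≠ 0 :=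
  Nat.cast_ne_zero.mpr Subgroup.FiniteIndex.index_ne_zero

theorem induced_one_ne_zero (K A : Subgroup L) {φ : L → ℂ}
    (hφ : φ ∈ inducedIrrAbove K A) : φ 1 ≠ 0 := by
  obtain ⟨m, hm, h⟩ := induced_degree K A hφ
  rw [h]
  exact mul_ne_zero (index_ne_zero' K) (Nat.cast_ne_zero.mpr hm.ne')

theorem induced_norm_ne_zero (K A : Subgroup L) {φ : L → ℂ}
    (hφ : φ ∈ inducedIrrAbove K A) : classInner φ φ ≠ 0 := by
  intro h
  exact induced_one_ne_zero K A hφ (by rw [classInner_self_eq_zero h]; rfl)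

/-- A class function `d` of `L` vanishing off `K` whose inner products with the members `ξ` of
`inducedIrrAbove K ⊥` are proportional to the degrees is constant on `K \ {1}`. -/
theorem const_on_sharp (K : Subgroup L) {d : L → ℂ} (hd : IsClassFunction L d)
    (c₀ : ℂ) (h : ∀ ξ ∈ inducedIrrAbove K ⊥, classInner ξ d = c₀ * ξ 1) :
    ∃ c : ℂ, ∀ x ∈ K, x ≠ 1 → d x = c := by
  classical
  have _ : Fintype K := Fintype.ofFinite K
  have _ : Finite (IrrCharacter K) := finite_irr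
  have _ : Fintype (IrrCharacter K) := Fintype.ofFinite _
  set d' : K → ℂ := fun k => d k with hd'
  have hd'c : IsClassFunction K d' := fun g h => hd g h
  have hone : IsIrrCharacter K (fun _ => (1 : ℂ)) := isIrr_one
  let one : IrrCharacter K := ⟨fun _ => 1, hone⟩
  have hin : ∀ θ : IrrCharacter K, θ ≠ one →
      classInner d' θ.1 = conj c₀ * (K.index : ℂ) * θ.1 1 := by
    intro θ hθ
    have hne : θ.1 ≠ fun _ => 1 := fun h => hθ (Subtype.ext h)
    have hmem : indFun K θ.1 ∈ inducedIrrAbove K (⊥ : Subgroup L) := by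
      refine ⟨θ.1, θ.2, hne, ?_, rfl⟩
      intro a ha
      have : a = 1 := Subtype.ext (by simpa using ha)
      rw [this]
    have h1 := h _ hmem
    rw [frobenius K θ.1 d hd, indFun_one] at h1
    rw [← classInner_conj_symm]
    show conj (classInner θ.1 fun k : K => d k) = _
    obtain ⟨m, -, hm⟩ := isIrr_apply_one θ.2
    rw [h1, hm]
    simp [mul_assoc]
  have hexp := classFunction_eq_sum hd'c
  refine ⟨classInner d' one.1 - conj c₀ * (K.index : ℂ), ?_⟩
  intro x hx hx1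
  have h1 := congrFun hexp ⟨x, hx⟩
  rw [Finset.sum_apply, ← Finset.add_sum_erase Finset.univ _ (Finset.mem_univ one)] at h1
  have h2 : ∑ θ ∈ Finset.univ.erase one, (classInner d' θ.1 • θ.1) (⟨x, hx⟩ : K) =
      conj c₀ * (K.index : ℂ) * ∑ θ ∈ Finset.univ.erase one, θ.1 1 * θ.1 (⟨x, hx⟩ : K) := by
    rw [Finset.mul_sum]
    refine Finset.sum_congr rfl fun θ hθ => ?_
    show classInner d' θ.1 * θ.1 ⟨x, hx⟩ = _
    rw [hin θ (Finset.mem_erase.mp hθ).1]
    ring
  have h3 := sum_above (⊥ : Subgroup K) (⟨x, hx⟩ : K)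
  have h4 : (⟨x, hx⟩ : K) ∉ (⊥ : Subgroup K) := by
    intro h
    rw [Subgroup.mem_bot] at h
    exact hx1 (congrArg Subtype.val h)
  rw [if_neg h4] at h3
  have h5 : ∑ θ : IrrCharacter K, θ.1 1 * θ.1 (⟨x, hx⟩ : K) = 0 := by
    rw [← h3]
    refine Finset.sum_congr rfl fun θ _ => ?_
    rw [if_pos]
    intro a ha
    rw [Subgroup.mem_bot] at ha
    rw [ha]
  rw [← Finset.add_sum_erase Finset.univ _ (Finset.mem_univ one)] at h5
  have h6 : ∑ θ ∈ Finset.univ.erase one, θ.1 1 * θ.1 (⟨x, hx⟩ : K) = -1 := by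
    have : one.1 1 * one.1 (⟨x, hx⟩ : K) = 1 := by simp [one]
    rw [this] at h5
    linear_combination h5
  rw [h2, h6] at h1
  show d' ⟨x, hx⟩ = _
  rw [h1]
  show classInner d' one.1 * 1 + _ = _
  ring

/-! ### The function induced from the principal character of `K` -/

/-- `φ = Ind_K^L 1_K`. -/
noncomputable def indOne (K : Subgroup L) : L → ℂ := indFun K (fun _ => (1 : ℂ))

theorem indOne_def (K : Subgroup L) : indOne K = indFun K (fun _ => (1 : ℂ)) := rfl

theorem indOne_class (K : Subgroup L) : IsClassFunction L (indOne K) :=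
  indFun_isClassFunction K _

theorem indOne_mem (K : Subgroup L) [K.Normal] {x : L} (hx : x ∈ K) :
    indOne K x = (K.index : ℂ) := by
  rw [indOne_def, indFun_mem K _ hx, Finset.sum_const, Finset.card_univ, nsmul_eq_mul, mul_one,
    card_inv_mul_card]

theorem indOne_not_mem (K : Subgroup L) [K.Normal] {x : L} (hx : x ∉ K) : indOne K x = 0 :=
  indFun_of_not_mem K _ hx

theorem indOne_orthogonal (K A : Subgroup L) [hK : K.Normal] {φ : L → ℂ}
    (hφ : φ ∈ inducedIrrAbove K A) : classInner (indOne K) φ = 0 := by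
  obtain ⟨θ, hθ, hθ1, -, rfl⟩ := hφ
  have hone : IsIrrCharacter K (fun _ => (1 : ℂ)) := isIrr_one
  have h := S1486.result K θ (fun _ => (1 : ℂ)) hθ hone
  refine h.2 ?_
  rintro ⟨g, hg⟩
  apply hθ1
  funext k
  have hk := congrFun hg ⟨g⁻¹ * k * g, conj_mem' K k.2 g⟩
  have h2 : (⟨g * (g⁻¹ * (k : L) * g) * g⁻¹, hK.conj_mem _ (conj_mem' K k.2 g) g⟩ : K) = k := by
    apply Subtype.ext
    show g * (g⁻¹ * (k : L) * g) * g⁻¹ = k
    group
  rw [h2] at hk
  exact hk.symm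

omit [Fintype L] in
theorem one_class : IsClassFunction L (fun _ => (1 : ℂ)) := fun _ _ => rfl

theorem zsmul_apply' {X : Type*} (n : ℤ) (f : X → ℂ) (x : X) : (n • f) x = (n : ℂ) * f x := by
  rw [Pi.smul_apply, zsmul_eq_mul]

theorem classInner_apply (φ ψ : L → ℂ) :
    classInner φ ψ = (Nat.card L : ℂ)⁻¹ * ∑ g : L, φ g * conj (ψ g) := rfl

theorem indOne_one (K : Subgroup L) : classInner (indOne K) (fun _ => (1 : ℂ)) = 1 := by
  classical
  have _ : Fintype K := Fintype.ofFinite K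
  rw [indOne_def, frobenius K _ _ one_class]
  have h : classInner (fun _ : K => (1 : ℂ)) (fun _ : K => (1 : ℂ)) = 1 :=
    classInner_irr_self isIrr_one
  exact h

theorem induced_orth_one (K A : Subgroup L) {φ : L → ℂ}
    (hφ : φ ∈ inducedIrrAbove K A) : classInner φ (fun _ => (1 : ℂ)) = 0 := by
  classical
  have _ : Fintype K := Fintype.ofFinite K
  obtain ⟨θ, hθ, hθ1, -, rfl⟩ := hφ
  rw [frobenius K _ _ one_class]
  exact classInner_irr_ne hθ isIrr_one hθ1

/-- Inner products with a function supported on `A` only see the values of the other function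
on `A`. -/
theorem inner_congr_of_supp {A : Set L} {α : L → ℂ} (hα : ∀ x, x ∉ A → α x = 0) {f g : L → ℂ}
    (h : ∀ x ∈ A, f x = g x) : classInner α f = classInner α g := by
  rw [classInner_apply, classInner_apply]
  congr 1
  refine Finset.sum_congr rfl fun x _ => ?_
  by_cases hx : x ∈ A
  · rw [h x hx]
  · rw [hα x hx, zero_mul, zero_mul]

/-! ### (7.7) -/

section coherent

variable {K : Subgroup L} [hK : K.Normal] {τ : (L → ℂ) → (G → ℂ)} {ρ : (G → ℂ) → (L → ℂ)}
variable {ν : (L → ℂ) → (G → ℂ)}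

omit hK in
/-- The degree-zero combination `m ζ - n ξ` is sent by `τ` to the corresponding combination. -/
theorem tau_cross (hν : IsLinearIsometryOn (zspan (inducedIrrAbove K ⊥)) ν)
    (hag : ∀ α ∈ zspanOn (inducedIrrAbove K ⊥) {1}ᶜ, ν α = τ α) {ζ ξ : L → ℂ}
    (hζ : ζ ∈ inducedIrrAbove K ⊥) (hξ : ξ ∈ inducedIrrAbove K ⊥) {m n : ℤ}
    (h1 : (m : ℂ) * ζ 1 = n * ξ 1) :
    τ (m • ζ - n • ξ) = m • ν ζ - n • ν ξ := by
  have hζ' := zspan_zsmul m (zspan_subset hζ)
  have hξ' := zspan_zsmul n (zspan_subset hξ)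
  rw [← hag, span_sub hν hζ' hξ', lin_zsmul hν (zspan_subset hζ), lin_zsmul hν (zspan_subset hξ)]
  rw [mem_zspanOn_one_iff]
  refine ⟨zspan_sub hζ' hξ', ?_⟩
  rw [Pi.sub_apply, zsmul_apply', zsmul_apply', h1, sub_self]

omit hK in
theorem cross_class {ζ ξ : L → ℂ} (hζ : ζ ∈ inducedIrrAbove K ⊥)
    (hξ : ξ ∈ inducedIrrAbove K ⊥) (m n : ℤ) : IsClassFunction L (m • ζ - n • ξ) := by
  intro g h
  simp only [Pi.sub_apply, Pi.smul_apply]
  rw [induced_class K ⊥ hζ g h, induced_class K ⊥ hξ g h]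

include hK in
theorem cross_supp {ζ ξ : L → ℂ} (hζ : ζ ∈ inducedIrrAbove K ⊥)
    (hξ : ξ ∈ inducedIrrAbove K ⊥) {m n : ℤ} (h1 : (m : ℂ) * ζ 1 = n * ξ 1) (x : L)
    (hx : x ∉ sharp K) : (m • ζ - n • ξ) x = 0 := by
  rw [Pi.sub_apply, zsmul_apply', zsmul_apply']
  by_cases hxK : x ∈ K
  · have : x = 1 := by
      by_contra h
      exact hx ⟨hxK, h⟩
    rw [this, h1, sub_self]
  · rw [induced_vanish K ⊥ hζ hxK, induced_vanish K ⊥ hξ hxK]
    simp

/-- The key relation between `⟨ν ξ, χ⟩` and `⟨ξ, ρ χ⟩`. -/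
theorem cross_inner (hP : AdjPair (sharp K) τ ρ)
    (hν : IsLinearIsometryOn (zspan (inducedIrrAbove K ⊥)) ν)
    (hag : ∀ α ∈ zspanOn (inducedIrrAbove K ⊥) {1}ᶜ, ν α = τ α) {ζ ξ : L → ℂ}
    (hζ : ζ ∈ inducedIrrAbove K ⊥) (hξ : ξ ∈ inducedIrrAbove K ⊥) {χ : G → ℂ}
    (hχ : IsClassFunction G χ) :
    ξ 1 * (classInner (ν ζ) χ - classInner ζ (ρ χ)) =
      ζ 1 * (classInner (ν ξ) χ - classInner ξ (ρ χ)) := by
  obtain ⟨m, hm, hm1⟩ := induced_degree K ⊥ hζ
  obtain ⟨n, hn, hn1⟩ := induced_degree K ⊥ hξ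
  have h1 : ((n : ℤ) : ℂ) * ζ 1 = ((m : ℤ) : ℂ) * ξ 1 := by
    rw [hm1, hn1]; push_cast; ring
  have h2 := hP.recip _ (cross_class hζ hξ n m) (fun x hx => cross_supp hζ hξ h1 x hx) χ hχ
  rw [tau_cross hν hag hζ hξ h1, classInner_sub_left, classInner_sub_left,
    classInner_zsmul_left, classInner_zsmul_left, classInner_zsmul_left,
    classInner_zsmul_left] at h2
  rw [hm1, hn1]
  push_cast at h2
  linear_combination (K.index : ℂ) * h2

/-- Peterfalvi (7.7), first form. -/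
theorem rho_formula_aux (hP : AdjPair (sharp K) τ ρ)
    (hν : IsLinearIsometryOn (zspan (inducedIrrAbove K ⊥)) ν)
    (hag : ∀ α ∈ zspanOn (inducedIrrAbove K ⊥) {1}ᶜ, ν α = τ α)
    (Sf : Finset (L → ℂ)) (hSf : (Sf : Set (L → ℂ)) = inducedIrrAbove K ⊥) {χ : G → ℂ}
    (hχ : IsClassFunction G χ) :
    ∃ c : ℂ, ∀ x ∈ sharp K, ρ χ x =
      ∑ ξ ∈ Sf, (classInner χ (ν ξ) / classInner ξ ξ) * ξ x + c := by
  classical
  have hmem : ∀ ξ, ξ ∈ Sf ↔ ξ ∈ inducedIrrAbove K ⊥ := fun ξ => by rw [← hSf]; rfl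
  set d : L → ℂ := ρ χ - ∑ ξ ∈ Sf, (classInner χ (ν ξ) / classInner ξ ξ) • ξ with hd
  have hdc : IsClassFunction L d := by
    intro g h
    simp only [hd, Pi.sub_apply, Finset.sum_apply, Pi.smul_apply]
    rw [hP.rho_class χ hχ g h]
    congr 1
    refine Finset.sum_congr rfl fun ξ hξ => ?_
    rw [induced_class K ⊥ ((hmem ξ).mp hξ) g h]
  have hin : ∀ ξ ∈ Sf, classInner ξ d = classInner ξ (ρ χ) - classInner (ν ξ) χ := by
    intro ξ hξ
    rw [hd, classInner_sub_right, classInner_sum_right]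
    congr 1
    rw [Finset.sum_eq_single ξ]
    · rw [classInner_smul_right, map_div₀, classInner_conj_symm, classInner_conj_symm]
      exact div_mul_cancel₀ _ (induced_norm_ne_zero K ⊥ ((hmem ξ).mp hξ))
    · intro η hη hne
      rw [classInner_smul_right,
        induced_orthogonal K ⊥ ((hmem ξ).mp hξ) ((hmem η).mp hη) hne.symm, mul_zero]
    · intro h; exact absurd hξ h
  obtain ⟨c₀, hc₀⟩ : ∃ c₀ : ℂ, ∀ ξ ∈ inducedIrrAbove K ⊥, classInner ξ d = c₀ * ξ 1 := by
    rcases (inducedIrrAbove K (⊥ : Subgroup L)).eq_empty_or_nonempty with h | ⟨ζ, hζ⟩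
    · exact ⟨0, fun ξ hξ => by rw [h] at hξ; exact absurd hξ (Set.notMem_empty _)⟩
    · refine ⟨(classInner ζ (ρ χ) - classInner (ν ζ) χ) / ζ 1, fun ξ hξ => ?_⟩
      rw [hin ξ ((hmem ξ).mpr hξ)]
      have h1 := cross_inner hP hν hag hζ hξ hχ
      have h2 := induced_one_ne_zero K ⊥ hζ
      field_simp
      linear_combination h1
  obtain ⟨c, hc⟩ := const_on_sharp K hdc c₀ hc₀
  refine ⟨c, fun x hx => ?_⟩
  have h1 := hc x hx.1 hx.2
  simp only [hd, Pi.sub_apply, Finset.sum_apply, Pi.smul_apply, smul_eq_mul] at h1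
  linear_combination h1

/-- `β = τ (φ - ζ)`. -/
noncomputable def beta (K : Subgroup L) (τ : (L → ℂ) → (G → ℂ)) (ζ : L → ℂ) : G → ℂ :=
  τ (indOne K - ζ)

omit [Group G] [Fintype G] hK in
theorem beta_def (ζ : L → ℂ) : beta K τ ζ = τ (indOne K - ζ) := rfl

omit hK in
theorem indOne_sub_class {ζ : L → ℂ} (hζ : ζ ∈ inducedIrrAbove K ⊥) :
    IsClassFunction L (indOne K - ζ) := by
  intro g h
  simp only [Pi.sub_apply]
  rw [indOne_class K g h, induced_class K ⊥ hζ g h]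

include hK in
theorem indOne_sub_supp {ζ : L → ℂ} (hζ : ζ ∈ inducedIrrAbove K ⊥)
    (hζ1 : ζ 1 = (K.index : ℂ)) (x : L) (hx : x ∉ sharp K) : (indOne K - ζ) x = 0 := by
  simp only [Pi.sub_apply]
  by_cases hxK : x ∈ K
  · have : x = 1 := by
      by_contra h
      exact hx ⟨hxK, h⟩
    rw [this, indOne_mem K K.one_mem, hζ1, sub_self]
  · rw [indOne_not_mem K hxK, induced_vanish K ⊥ hζ hxK, sub_self]

/-- Peterfalvi (7.7): the values of `ρ χ` on `K \ {1}`. -/
theorem rho_formula (hP : AdjPair (sharp K) τ ρ)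
    (hν : IsLinearIsometryOn (zspan (inducedIrrAbove K ⊥)) ν)
    (hag : ∀ α ∈ zspanOn (inducedIrrAbove K ⊥) {1}ᶜ, ν α = τ α)
    (Sf : Finset (L → ℂ)) (hSf : (Sf : Set (L → ℂ)) = inducedIrrAbove K ⊥)
    {ζ : L → ℂ} (hζ : ζ ∈ inducedIrrAbove K ⊥) (hζ1 : ζ 1 = (K.index : ℂ)) {χ : G → ℂ}
    (hχ : IsClassFunction G χ) :
    ∀ x ∈ sharp K, ρ χ x =
      ∑ ξ ∈ Sf, (classInner χ (ν ξ) / classInner ξ ξ) * ξ x +
        classInner χ (beta K τ ζ + ν ζ) := by
  classical
  have hmem : ∀ ξ, ξ ∈ Sf ↔ ξ ∈ inducedIrrAbove K ⊥ := fun ξ => by rw [← hSf]; rfl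
  obtain ⟨c, hc⟩ := rho_formula_aux hP hν hag Sf hSf hχ
  suffices h : c = classInner χ (beta K τ ζ + ν ζ) by
    intro x hx
    rw [hc x hx, h]
  have h1 := hP.recip _ (indOne_sub_class hζ) (indOne_sub_supp hζ hζ1) χ hχ
  have h2 : classInner (indOne K - ζ) (ρ χ) = classInner (indOne K - ζ)
      (∑ ξ ∈ Sf, (classInner χ (ν ξ) / classInner ξ ξ) • ξ + c • fun _ => (1 : ℂ)) := by
    refine inner_congr_of_supp (indOne_sub_supp hζ hζ1) fun x hx => ?_
    rw [hc x hx]
    simp [Finset.sum_apply]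
  have h3 : classInner (indOne K - ζ)
      (∑ ξ ∈ Sf, (classInner χ (ν ξ) / classInner ξ ξ) • ξ + c • fun _ => (1 : ℂ)) =
      - classInner (ν ζ) χ + conj c := by
    rw [classInner_add_right, classInner_sum_right, classInner_smul_right, classInner_sub_left,
      indOne_one, induced_orth_one K ⊥ hζ, sub_zero, mul_one]
    congr 1
    rw [Finset.sum_eq_single ζ]
    · rw [classInner_smul_right, classInner_sub_left, indOne_orthogonal K ⊥ hζ, map_div₀,
        classInner_conj_symm, classInner_conj_symm, zero_sub, mul_neg,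
        div_mul_cancel₀ _ (induced_norm_ne_zero K ⊥ hζ)]
    · intro η hη hne
      rw [classInner_smul_right, classInner_sub_left, indOne_orthogonal K ⊥ ((hmem η).mp hη),
        induced_orthogonal K ⊥ hζ ((hmem η).mp hη) hne.symm, sub_zero, mul_zero]
    · intro h; exact absurd ((hmem ζ).mpr hζ) h
  rw [h2, h3] at h1
  have h4 : conj c = classInner (beta K τ ζ + ν ζ) χ := by
    rw [classInner_add_left, beta_def, h1]; ring
  rw [← classInner_conj_symm (beta K τ ζ + ν ζ) χ, ← h4, Complex.conj_conj]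

end coherent

end Cfsg.Agent.OddOrderCharacters.PF7Abstract
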