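import Mathlib
set_option linter.all false

/-!
# The combinatorial half of Peterfalvi (3.5)

Integer vectors `b i j` (`i : I`, `j : J`) of norm three such that two of them have inner product one
when they lie in the same row or column and zero otherwise.  If one of the two sides of the array has at
least four members, and the other at least two but not three, then `b i j = x i + y j + z i j` for an
orthonormal system consisting of the `x i`, the `y j` and the `z i j`.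
-/

set_option autoImplicit false

namespace Cfsg.Agent.OddOrderCharacters.Pivot

open Matrix

variable {ι : Type*} [Fintype ι]

/-- Cauchy–Schwarz for integer vectors. -/
theorem dot_sq_le (u v : ι → ℤ) : (u ⬝ᵥ v) ^ 2 ≤ (u ⬝ᵥ u) * (v ⬝ᵥ v) := by
  have h := Finset.sum_mul_sq_le_sq_mul_sq Finset.univ u v
  simpa only [dotProduct, sq] using h

theorem self_nonneg (u : ι → ℤ) : 0 ≤ u ⬝ᵥ u :=
  Finset.sum_nonneg fun _ _ => mul_self_nonneg _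

theorem eq_of_dot_eq_one {u v : ι → ℤ} (hu : u ⬝ᵥ u = 1) (hv : v ⬝ᵥ v = 1) (h : u ⬝ᵥ v = 1) :
    u = v := by
  have : (u - v) ⬝ᵥ (u - v) = 0 := by
    simp only [sub_dotProduct, dotProduct_sub, dotProduct_comm v u]
    linarith
  exact sub_eq_zero.mp (dotProduct_self_eq_zero.mp this)

/-- Two integer vectors of norm one are orthogonal, equal or opposite. -/
theorem unit_cases {u v : ι → ℤ} (hu : u ⬝ᵥ u = 1) (hv : v ⬝ᵥ v = 1) :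
    u ⬝ᵥ v = 0 ∨ u = v ∨ u = -v := by
  have h := dot_sq_le u v
  rw [hu, hv] at h
  have h1 : u ⬝ᵥ v ≤ 1 := by nlinarith
  have h2 : -1 ≤ u ⬝ᵥ v := by nlinarith
  have h3 : u ⬝ᵥ v = -1 ∨ u ⬝ᵥ v = 0 ∨ u ⬝ᵥ v = 1 := by omega
  rcases h3 with h | h | h
  · refine Or.inr (Or.inr (eq_of_dot_eq_one hu ?_ ?_))
    · simpa using hv
    · simp [h]
  · exact Or.inl h
  · exact Or.inr (Or.inl (eq_of_dot_eq_one hu hv h))

/-- A non-zero integer vector of norm less than four splits off a unit vector. -/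
theorem peel (v : ι → ℤ) (h0 : 0 < v ⬝ᵥ v) (h4 : v ⬝ᵥ v < 4) :
    ∃ a : ι → ℤ, a ⬝ᵥ a = 1 ∧ v ⬝ᵥ a = 1 ∧
      ∀ e : ι → ℤ, e ⬝ᵥ e = 1 → v ⬝ᵥ e = 0 → a ⬝ᵥ e = 0 := by
  classical
  obtain ⟨k, hk⟩ : ∃ k, v k ≠ 0 := by
    by_contra! h
    have : v = 0 := funext h
    subst this
    simp at h0
  have hle : v k * v k ≤ v ⬝ᵥ v :=
    Finset.single_le_sum (f := fun i => v i * v i) (fun i _ => mul_self_nonneg _)
      (Finset.mem_univ k)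
  have h1 : v k = 1 ∨ v k = -1 := by
    have : v k ≤ 1 := by nlinarith
    have : -1 ≤ v k := by nlinarith
    omega
  have h2 : v k * v k = 1 := by rcases h1 with h | h <;> simp [h]
  have haa : (Pi.single k (v k) : ι → ℤ) ⬝ᵥ Pi.single k (v k) = 1 := by simp [h2]
  refine ⟨Pi.single k (v k), haa, by simp [h2], ?_⟩
  intro e he hve
  rcases unit_cases haa he with h | h | h
  · exact h
  · rw [← h] at hve
    simp [h2] at hve
  · have : e = -Pi.single k (v k) := by rw [h, neg_neg]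
    rw [this] at hve
    simp [h2] at hve

/-- Inner products of residues modulo an orthonormal family. -/
theorem resid_dot {κ : Type*} [Fintype κ] [DecidableEq κ] (e : κ → ι → ℤ)
    (he : ∀ i j, e i ⬝ᵥ e j = if i = j then 1 else 0) (p q : ι → ℤ) :
    (p - ∑ k, (p ⬝ᵥ e k) • e k) ⬝ᵥ (q - ∑ k, (q ⬝ᵥ e k) • e k) =
      p ⬝ᵥ q - ∑ k, (p ⬝ᵥ e k) * (q ⬝ᵥ e k) := by
  have h0 : ∀ k, (p - ∑ k, (p ⬝ᵥ e k) • e k) ⬝ᵥ e k = 0 := by
    intro k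
    rw [sub_dotProduct, sum_dotProduct]
    simp only [smul_dotProduct, he, smul_eq_mul, mul_ite, mul_one, mul_zero, Finset.sum_ite_eq',
      Finset.mem_univ, if_true, sub_self]
  rw [dotProduct_sub, dotProduct_sum]
  simp only [dotProduct_smul, h0, smul_zero, Finset.sum_const_zero, sub_zero]
  rw [sub_dotProduct, sum_dotProduct]
  simp only [smul_dotProduct, smul_eq_mul, fun k => dotProduct_comm (e k) q]

theorem resid_ineq {κ : Type*} [Fintype κ] [DecidableEq κ] (e : κ → ι → ℤ)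
    (he : ∀ i j, e i ⬝ᵥ e j = if i = j then 1 else 0) (p q : ι → ℤ) :
    (p ⬝ᵥ q - ∑ k, (p ⬝ᵥ e k) * (q ⬝ᵥ e k)) ^ 2 ≤
      (p ⬝ᵥ p - ∑ k, (p ⬝ᵥ e k) * (p ⬝ᵥ e k)) * (q ⬝ᵥ q - ∑ k, (q ⬝ᵥ e k) * (q ⬝ᵥ e k)) := by
  rw [← resid_dot e he p q, ← resid_dot e he p p, ← resid_dot e he q q]
  exact dot_sq_le _ _

theorem bessel {κ : Type*} [Fintype κ] [DecidableEq κ] (e : κ → ι → ℤ)
    (he : ∀ i j, e i ⬝ᵥ e j = if i = j then 1 else 0) (p : ι → ℤ) :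
    ∑ k, (p ⬝ᵥ e k) * (p ⬝ᵥ e k) ≤ p ⬝ᵥ p := by
  have := self_nonneg (p - ∑ k, (p ⬝ᵥ e k) • e k)
  rw [resid_dot e he p p] at this
  linarith

/-- A vector of norm two is the sum of two orthogonal unit vectors. -/
theorem exists_two (v : ι → ℤ) (h : v ⬝ᵥ v = 2) :
    ∃ a b : ι → ℤ, v = a + b ∧ a ⬝ᵥ a = 1 ∧ b ⬝ᵥ b = 1 ∧ a ⬝ᵥ b = 0 ∧
      ∀ e : ι → ℤ, e ⬝ᵥ e = 1 → v ⬝ᵥ e = 0 → a ⬝ᵥ e = 0 ∧ b ⬝ᵥ e = 0 := by
  obtain ⟨a, ha, hva, hae⟩ := peel v (by omega) (by omega)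
  refine ⟨a, v - a, by abel, ha, ?_, ?_, ?_⟩
  · simp only [sub_dotProduct, dotProduct_sub, dotProduct_comm a v]
    omega
  · simp only [dotProduct_sub, dotProduct_comm a v]
    omega
  · intro e he hve
    have := hae e he hve
    refine ⟨this, ?_⟩
    simp only [sub_dotProduct]
    omega

/-- A vector of norm three is the sum of three pairwise orthogonal unit vectors. -/
theorem exists_three (v : ι → ℤ) (h : v ⬝ᵥ v = 3) :
    ∃ a b c : ι → ℤ, v = a + b + c ∧ a ⬝ᵥ a = 1 ∧ b ⬝ᵥ b = 1 ∧ c ⬝ᵥ c = 1 ∧ a ⬝ᵥ b = 0 ∧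
      a ⬝ᵥ c = 0 ∧ b ⬝ᵥ c = 0 ∧
      ∀ e : ι → ℤ, e ⬝ᵥ e = 1 → v ⬝ᵥ e = 0 → a ⬝ᵥ e = 0 ∧ b ⬝ᵥ e = 0 ∧ c ⬝ᵥ e = 0 := by
  obtain ⟨a, ha, hva, hae⟩ := peel v (by omega) (by omega)
  have hn : (v - a) ⬝ᵥ (v - a) = 2 := by
    simp only [sub_dotProduct, dotProduct_sub, dotProduct_comm a v]
    omega
  obtain ⟨b, c, hbc, hb, hc, hbc0, hbe⟩ := exists_two (v - a) hn
  have h1 : (v - a) ⬝ᵥ a = 0 := by
    simp only [sub_dotProduct]
    omega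
  obtain ⟨h2, h3⟩ := hbe a ha h1
  refine ⟨a, b, c, ?_, ha, hb, hc, ?_, ?_, hbc0, ?_⟩
  · rw [add_assoc, ← hbc]
    abel
  · rw [dotProduct_comm]; exact h2
  · rw [dotProduct_comm]; exact h3
  · intro e he hve
    have h4 := hae e he hve
    have h5 : (v - a) ⬝ᵥ e = 0 := by
      simp only [sub_dotProduct]
      omega
    exact ⟨h4, (hbe e he h5).1, (hbe e he h5).2⟩

/-- Two vectors of norm three with inner product one, whose difference has an odd inner product with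
something, share exactly one signed basis vector. -/
theorem share (p q w : ι → ℤ) (hp : p ⬝ᵥ p = 3) (hq : q ⬝ᵥ q = 3) (hpq : p ⬝ᵥ q = 1)
    (hw : Odd (w ⬝ᵥ p - w ⬝ᵥ q)) :
    ∃ e : ι → ℤ, e ⬝ᵥ e = 1 ∧ p ⬝ᵥ e = 1 ∧ q ⬝ᵥ e = 1 ∧
      ∀ f : ι → ℤ, f ⬝ᵥ f = 1 → e ⬝ᵥ f = 0 → p ⬝ᵥ f = 0 ∨ q ⬝ᵥ f = 0 := by
  obtain ⟨a, b, c, rfl, ha, hb, hc, hab, hac, hbc, -⟩ := exists_three p hp
  -- the general statement for one arrangement
  have key : ∀ a b c : ι → ℤ, a ⬝ᵥ a = 1 → b ⬝ᵥ b = 1 → c ⬝ᵥ c = 1 → a ⬝ᵥ b = 0 → a ⬝ᵥ c = 0 →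
      b ⬝ᵥ c = 0 → q ⬝ᵥ a = 1 → q ⬝ᵥ b = 0 → q ⬝ᵥ c = 0 →
      ∃ e : ι → ℤ, e ⬝ᵥ e = 1 ∧ (a + b + c) ⬝ᵥ e = 1 ∧ q ⬝ᵥ e = 1 ∧
        ∀ f : ι → ℤ, f ⬝ᵥ f = 1 → e ⬝ᵥ f = 0 → (a + b + c) ⬝ᵥ f = 0 ∨ q ⬝ᵥ f = 0 := by
    intro a b c ha hb hc hab hac hbc hqa hqb hqc
    refine ⟨a, ha, ?_, hqa, ?_⟩
    · simp only [add_dotProduct, dotProduct_comm b a, dotProduct_comm c a]
      omega
    · intro f hf haf
      rcases unit_cases hb hf with h | h | h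
      · rcases unit_cases hc hf with h' | h' | h'
        · left
          simp only [add_dotProduct]
          omega
        · right
          rw [← h']; exact hqc
        · right
          have : f = -c := by rw [h', neg_neg]
          rw [this, dotProduct_neg, hqc, neg_zero]
      · right
        rw [← h]; exact hqb
      · right
        have : f = -b := by rw [h, neg_neg]
        rw [this, dotProduct_neg, hqb, neg_zero]
  have hsum : q ⬝ᵥ a + q ⬝ᵥ b + q ⬝ᵥ c = 1 := by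
    rw [dotProduct_comm] at hpq
    simpa only [dotProduct_add] using hpq
  have hbes : (q ⬝ᵥ a) ^ 2 + (q ⬝ᵥ b) ^ 2 + (q ⬝ᵥ c) ^ 2 ≤ 3 := by
    have := self_nonneg (q - (q ⬝ᵥ a) • a - (q ⬝ᵥ b) • b - (q ⬝ᵥ c) • c)
    simp only [sub_dotProduct, dotProduct_sub, smul_dotProduct, dotProduct_smul, hq, ha, hb, hc,
      hab, hac, hbc, dotProduct_comm b a, dotProduct_comm c a, dotProduct_comm c b,
      dotProduct_comm a q, dotProduct_comm b q, dotProduct_comm c q, smul_eq_mul] at this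
    nlinarith
  -- equality case
  have odd_case : ∀ a b c : ι → ℤ, a ⬝ᵥ a = 1 → b ⬝ᵥ b = 1 → c ⬝ᵥ c = 1 → a ⬝ᵥ b = 0 → a ⬝ᵥ c = 0 →
      b ⬝ᵥ c = 0 → q ⬝ᵥ a = 1 → q ⬝ᵥ b = 1 → q ⬝ᵥ c = -1 →
      Odd (w ⬝ᵥ (a + b + c) - w ⬝ᵥ q) → False := by
    intro a b c ha hb hc hab hac hbc hqa hqb hqc hodd
    have h0 : (q - a - b + c) ⬝ᵥ (q - a - b + c) = 0 := by
      simp only [sub_dotProduct, dotProduct_sub, add_dotProduct, dotProduct_add, hq, ha, hb, hc,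
        hab, hac, hbc, dotProduct_comm b a, dotProduct_comm c a, dotProduct_comm c b,
        dotProduct_comm a q, dotProduct_comm b q, dotProduct_comm c q, hqa, hqb, hqc]
      norm_num
    have h1 := dotProduct_self_eq_zero.mp h0
    have h2 : q = a + b - c := by
      have := eq_neg_of_add_eq_zero_left h1
      rw [sub_sub, sub_eq_iff_eq_add] at this
      rw [this]; abel
    rw [h2] at hodd
    simp only [dotProduct_add, dotProduct_sub] at hodd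
    obtain ⟨m, hm⟩ := hodd
    omega
  have ha1 : q ⬝ᵥ a ≤ 1 := by nlinarith [sq_nonneg (q ⬝ᵥ b), sq_nonneg (q ⬝ᵥ c)]
  have ha2 : -1 ≤ q ⬝ᵥ a := by nlinarith [sq_nonneg (q ⬝ᵥ b), sq_nonneg (q ⬝ᵥ c)]
  have hb1 : q ⬝ᵥ b ≤ 1 := by nlinarith [sq_nonneg (q ⬝ᵥ a), sq_nonneg (q ⬝ᵥ c)]
  have hb2 : -1 ≤ q ⬝ᵥ b := by nlinarith [sq_nonneg (q ⬝ᵥ a), sq_nonneg (q ⬝ᵥ c)]
  have hc1 : q ⬝ᵥ c ≤ 1 := by nlinarith [sq_nonneg (q ⬝ᵥ a), sq_nonneg (q ⬝ᵥ b)]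
  have hc2 : -1 ≤ q ⬝ᵥ c := by nlinarith [sq_nonneg (q ⬝ᵥ a), sq_nonneg (q ⬝ᵥ b)]
  have hcases : (q ⬝ᵥ a = 1 ∧ q ⬝ᵥ b = 0 ∧ q ⬝ᵥ c = 0) ∨ (q ⬝ᵥ a = 0 ∧ q ⬝ᵥ b = 1 ∧ q ⬝ᵥ c = 0) ∨
      (q ⬝ᵥ a = 0 ∧ q ⬝ᵥ b = 0 ∧ q ⬝ᵥ c = 1) ∨ (q ⬝ᵥ a = 1 ∧ q ⬝ᵥ b = 1 ∧ q ⬝ᵥ c = -1) ∨
      (q ⬝ᵥ a = 1 ∧ q ⬝ᵥ b = -1 ∧ q ⬝ᵥ c = 1) ∨ (q ⬝ᵥ a = -1 ∧ q ⬝ᵥ b = 1 ∧ q ⬝ᵥ c = 1) := by
    omega
  have hba := (dotProduct_comm b a).trans hab
  have hca := (dotProduct_comm c a).trans hac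
  have hcb := (dotProduct_comm c b).trans hbc
  rcases hcases with ⟨h1, h2, h3⟩ | ⟨h1, h2, h3⟩ | ⟨h1, h2, h3⟩ | ⟨h1, h2, h3⟩ | ⟨h1, h2, h3⟩ |
    ⟨h1, h2, h3⟩
  · exact key a b c ha hb hc hab hac hbc h1 h2 h3
  · have := key b a c hb ha hc hba hbc hac h2 h1 h3
    rwa [add_comm b a] at this
  · have := key c a b hc ha hb hca hcb hab h3 h1 h2
    rwa [add_assoc c a b, add_comm c (a + b)] at this
  · exact (odd_case a b c ha hb hc hab hac hbc h1 h2 h3 hw).elim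
  · refine (odd_case a c b ha hc hb hac hab hcb h1 h3 h2 ?_).elim
    rwa [add_right_comm a c b]
  · refine (odd_case b c a hb hc ha hbc hba hca h2 h3 h1 ?_).elim
    rwa [add_comm (b + c) a, ← add_assoc a b c]

end Cfsg.Agent.OddOrderCharacters.Pivot
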