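import Cfsg.Agent.OddOrderCharacters.PivotBase
set_option linter.all false

/-!
# The `4 × 2` case of the combinatorial half of Peterfalvi (3.5): existence of a pivot
-/

set_option autoImplicit false

namespace Cfsg.Agent.OddOrderCharacters.PivotFour

open Matrix Cfsg.Agent.OddOrderCharacters.Pivot Cfsg.Agent.OddOrderCharacters.PivotBase

variable {ι : Type*} [Fintype ι]

/-- If `p`, `q` share the signed basis vector `X`, they share nothing else. -/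
theorem share_unique (p q w : ι → ℤ) (hp : p ⬝ᵥ p = 3) (hq : q ⬝ᵥ q = 3) (hpq : p ⬝ᵥ q = 1)
    (hw : Odd (w ⬝ᵥ p - w ⬝ᵥ q)) (X : ι → ℤ) (hX : X ⬝ᵥ X = 1) (hpX : p ⬝ᵥ X = 1)
    (hqX : q ⬝ᵥ X = 1) (f : ι → ℤ) (hf : f ⬝ᵥ f = 1) (hXf : X ⬝ᵥ f = 0) :
    p ⬝ᵥ f = 0 ∨ q ⬝ᵥ f = 0 := by
  obtain ⟨e, he, hpe, hqe, h⟩ := share p q w hp hq hpq hw
  rcases unit_cases he hX with h1 | h1 | h1
  · rcases h X hX h1 with h2 | h2 <;> omega
  · subst h1
    exact h f hf hXf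
  · subst h1
    rw [dotProduct_neg] at hpe
    omega

/-- A unit vector with inner products of different value with the same vector is neither equal nor
opposite. -/
theorem orth_of_ne {X u p : ι → ℤ} (hX : X ⬝ᵥ X = 1) (hu : u ⬝ᵥ u = 1) (hpX : p ⬝ᵥ X = 0)
    (hpu : p ⬝ᵥ u = 1) : X ⬝ᵥ u = 0 := by
  rcases unit_cases hX hu with h | h | h
  · exact h
  · subst h; omega
  · subst h; rw [dotProduct_neg] at hpX; omega

section

variable (b c : Fin 4 → ι → ℤ) (hb : ∀ i j, b i ⬝ᵥ b j = if i = j then 3 else 1)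
  (hc : ∀ i j, c i ⬝ᵥ c j = if i = j then 3 else 1)
  (hbc : ∀ i j, b i ⬝ᵥ c j = if i = j then 1 else 0)

include hb hbc in
theorem share_rows {i j : Fin 4} (hij : i ≠ j) :
    ∃ e : ι → ℤ, e ⬝ᵥ e = 1 ∧ b i ⬝ᵥ e = 1 ∧ b j ⬝ᵥ e = 1 ∧
      ∀ f : ι → ℤ, f ⬝ᵥ f = 1 → e ⬝ᵥ f = 0 → b i ⬝ᵥ f = 0 ∨ b j ⬝ᵥ f = 0 := by
  refine share (b i) (b j) (c i) (by rw [hb, if_pos rfl]) (by rw [hb, if_pos rfl])
    (by rw [hb, if_neg hij]) ?_
  rw [dotProduct_comm (c i) (b i), dotProduct_comm (c i) (b j), hbc, hbc, if_pos rfl,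
    if_neg hij.symm]
  decide

include hb hbc in
theorem share_rows_unique {i j : Fin 4} (hij : i ≠ j) (X : ι → ℤ) (hX : X ⬝ᵥ X = 1)
    (hi : b i ⬝ᵥ X = 1) (hj : b j ⬝ᵥ X = 1) (f : ι → ℤ) (hf : f ⬝ᵥ f = 1) (hXf : X ⬝ᵥ f = 0) :
    b i ⬝ᵥ f = 0 ∨ b j ⬝ᵥ f = 0 := by
  refine share_unique (b i) (b j) (c i) (by rw [hb, if_pos rfl]) (by rw [hb, if_pos rfl])
    (by rw [hb, if_neg hij]) ?_ X hX hi hj f hf hXf
  rw [dotProduct_comm (c i) (b i), dotProduct_comm (c i) (b j), hbc, hbc, if_pos rfl,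
    if_neg hij.symm]
  decide

include hb hc hbc in
theorem typeA' (X : ι → ℤ) (hX : X ⬝ᵥ X = 1) (h0 : b 0 ⬝ᵥ X = 0) (h1 : b 1 ⬝ᵥ X = 1)
    (h2 : b 2 ⬝ᵥ X = 1) (h3 : b 3 ⬝ᵥ X = 1) : False := by
  obtain ⟨u1, hu1, h0u1, h1u1, -⟩ := share_rows b c hb hbc (i := 0) (j := 1) (by decide)
  obtain ⟨u2, hu2, h0u2, h2u2, -⟩ := share_rows b c hb hbc (i := 0) (j := 2) (by decide)
  obtain ⟨u3, hu3, h0u3, h3u3, -⟩ := share_rows b c hb hbc (i := 0) (j := 3) (by decide)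
  have Xu1 : X ⬝ᵥ u1 = 0 := orth_of_ne hX hu1 h0 h0u1
  have Xu2 : X ⬝ᵥ u2 = 0 := orth_of_ne hX hu2 h0 h0u2
  have Xu3 : X ⬝ᵥ u3 = 0 := orth_of_ne hX hu3 h0 h0u3
  have u12 : u1 ⬝ᵥ u2 = 0 := by
    rcases unit_cases hu1 hu2 with h | h | h
    · exact h
    · subst h
      rcases share_rows_unique b c hb hbc (i := 1) (j := 2) (by decide) X hX h1 h2 u1 hu1 Xu1
        with h | h <;> omega
    · subst h
      rw [dotProduct_neg] at h0u1
      omega
  have u13 : u1 ⬝ᵥ u3 = 0 := by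
    rcases unit_cases hu1 hu3 with h | h | h
    · exact h
    · subst h
      rcases share_rows_unique b c hb hbc (i := 1) (j := 3) (by decide) X hX h1 h3 u1 hu1 Xu1
        with h | h <;> omega
    · subst h
      rw [dotProduct_neg] at h0u1
      omega
  have u23 : u2 ⬝ᵥ u3 = 0 := by
    rcases unit_cases hu2 hu3 with h | h | h
    · exact h
    · subst h
      rcases share_rows_unique b c hb hbc (i := 2) (j := 3) (by decide) X hX h2 h3 u2 hu2 Xu2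
        with h | h <;> omega
    · subst h
      rw [dotProduct_neg] at h0u2
      omega
  have u21 : u2 ⬝ᵥ u1 = 0 := by rw [dotProduct_comm]; exact u12
  have u31 : u3 ⬝ᵥ u1 = 0 := by rw [dotProduct_comm]; exact u13
  have u32 : u3 ⬝ᵥ u2 = 0 := by rw [dotProduct_comm]; exact u23
  have b1u2 : b 1 ⬝ᵥ u2 = 0 := by
    rcases share_rows_unique b c hb hbc (i := 0) (j := 1) (by decide) u1 hu1 h0u1 h1u1 u2 hu2 u12
      with h | h <;> omega
  have b1u3 : b 1 ⬝ᵥ u3 = 0 := by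
    rcases share_rows_unique b c hb hbc (i := 0) (j := 1) (by decide) u1 hu1 h0u1 h1u1 u3 hu3 u13
      with h | h <;> omega
  have b2u1 : b 2 ⬝ᵥ u1 = 0 := by
    rcases share_rows_unique b c hb hbc (i := 0) (j := 2) (by decide) u2 hu2 h0u2 h2u2 u1 hu1 u21
      with h | h <;> omega
  have b2u3 : b 2 ⬝ᵥ u3 = 0 := by
    rcases share_rows_unique b c hb hbc (i := 0) (j := 2) (by decide) u2 hu2 h0u2 h2u2 u3 hu3 u23
      with h | h <;> omega
  have b3u1 : b 3 ⬝ᵥ u1 = 0 := by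
    rcases share_rows_unique b c hb hbc (i := 0) (j := 3) (by decide) u3 hu3 h0u3 h3u3 u1 hu1 u31
      with h | h <;> omega
  have b3u2 : b 3 ⬝ᵥ u2 = 0 := by
    rcases share_rows_unique b c hb hbc (i := 0) (j := 3) (by decide) u3 hu3 h0u3 h3u3 u2 hu2 u32
      with h | h <;> omega
  have hb11 : b 1 ⬝ᵥ b 1 = 3 := hb 1 1
  have hb22 : b 2 ⬝ᵥ b 2 = 3 := hb 2 2
  have hb33 : b 3 ⬝ᵥ b 3 = 3 := hb 3 3
  have hb12 : b 1 ⬝ᵥ b 2 = 1 := hb 1 2
  have hb13 : b 1 ⬝ᵥ b 3 = 1 := hb 1 3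
  have hb21 : b 2 ⬝ᵥ b 1 = 1 := hb 2 1
  have hb23 : b 2 ⬝ᵥ b 3 = 1 := hb 2 3
  have hb31 : b 3 ⬝ᵥ b 1 = 1 := hb 3 1
  have hb32 : b 3 ⬝ᵥ b 2 = 1 := hb 3 2
  have hb00 : b 0 ⬝ᵥ b 0 = 3 := hb 0 0
  have hb0 : b 0 = u1 + u2 + u3 := by
    have h0 : (b 0 - u1 - u2 - u3) ⬝ᵥ (b 0 - u1 - u2 - u3) = 0 := by
      simp only [sub_dotProduct, dotProduct_sub, hb00, h0u1, h0u2, h0u3, hu1, hu2, hu3, u12, u13,
        u21, u23, u31, u32, dotProduct_comm u1 (b 0), dotProduct_comm u2 (b 0),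
        dotProduct_comm u3 (b 0)]
      norm_num
    have h1 := dotProduct_self_eq_zero.mp h0
    rw [sub_sub, sub_sub, sub_eq_zero] at h1
    rw [h1]
    abel
  refine typeA ![X, u1, u2, u3, b 1 - X - u1, b 2 - X - u2, b 3 - X - u3] ?_ c hc ?_ ?_ ?_ ?_
  · have cX1 := dotProduct_comm X (b 1)
    have cX2 := dotProduct_comm X (b 2)
    have cX3 := dotProduct_comm X (b 3)
    have c11 := dotProduct_comm u1 (b 1)
    have c12 := dotProduct_comm u1 (b 2)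
    have c13 := dotProduct_comm u1 (b 3)
    have c21 := dotProduct_comm u2 (b 1)
    have c22 := dotProduct_comm u2 (b 2)
    have c23 := dotProduct_comm u2 (b 3)
    have c31 := dotProduct_comm u3 (b 1)
    have c32 := dotProduct_comm u3 (b 2)
    have c33 := dotProduct_comm u3 (b 3)
    have d1 := dotProduct_comm u1 X
    have d2 := dotProduct_comm u2 X
    have d3 := dotProduct_comm u3 X
    rw [h1] at cX1
    rw [h2] at cX2
    rw [h3] at cX3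
    rw [h1u1] at c11
    rw [h2u2] at c22
    rw [h3u3] at c33
    rw [b1u2] at c21
    rw [b1u3] at c31
    rw [b2u1] at c12
    rw [b2u3] at c32
    rw [b3u1] at c13
    rw [b3u2] at c23
    rw [Xu1] at d1
    rw [Xu2] at d2
    rw [Xu3] at d3
    intro i j
    fin_cases i <;> fin_cases j <;>
      simp [sub_dotProduct, dotProduct_sub, hX, hu1, hu2, hu3, Xu1, Xu2, Xu3, u12, u13, u21, u23,
        u31, u32, b1u2, b1u3, b2u1, b2u3, b3u1, b3u2, hb11, hb12, hb13, hb21, hb22, hb23, hb31,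
        hb32, hb33, h1, h2, h3, h1u1, h2u2, h3u3, cX1, cX2, cX3, c11, c12, c13, c21, c22, c23, c31,
        c32, c33, d1, d2, d3]
  · intro i
    have : c i ⬝ᵥ b 0 = if i = 0 then 1 else 0 := by
      rw [dotProduct_comm, hbc]
      simp only [eq_comm]
    rw [hb0] at this
    exact this
  · intro i
    have : c i ⬝ᵥ b 1 = if i = 1 then 1 else 0 := by
      rw [dotProduct_comm, hbc]
      simp only [eq_comm]
    rw [← this]
    congr 1
    show X + u1 + (b 1 - X - u1) = b 1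
    abel
  · intro i
    have : c i ⬝ᵥ b 2 = if i = 2 then 1 else 0 := by
      rw [dotProduct_comm, hbc]
      simp only [eq_comm]
    rw [← this]
    congr 1
    show X + u2 + (b 2 - X - u2) = b 2
    abel
  · intro i
    have : c i ⬝ᵥ b 3 = if i = 3 then 1 else 0 := by
      rw [dotProduct_comm, hbc]
      simp only [eq_comm]
    rw [← this]
    congr 1
    show X + u3 + (b 3 - X - u3) = b 3
    abel

include hb hc hbc in
theorem no_three (l : Fin 4) (X : ι → ℤ) (hX : X ⬝ᵥ X = 1) (hl : b l ⬝ᵥ X = 0)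
    (h : ∀ i, i ≠ l → b i ⬝ᵥ X = 1) : False := by
  have hs : ∀ i j : Fin 4, Equiv.swap 0 l i = Equiv.swap 0 l j ↔ i = j := fun i j =>
    (Equiv.swap 0 l).injective.eq_iff
  have hne : ∀ i : Fin 4, i ≠ 0 → Equiv.swap 0 l i ≠ l := by
    intro i hi h'
    have : Equiv.swap 0 l i = Equiv.swap 0 l 0 := by rw [h', Equiv.swap_apply_left]
    exact hi ((Equiv.swap 0 l).injective this)
  refine typeA' (fun i => b (Equiv.swap 0 l i)) (fun i => c (Equiv.swap 0 l i)) ?_ ?_ ?_ X hX ?_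
    ?_ ?_ ?_
  · intro i j
    rw [hb]
    simp only [hs]
  · intro i j
    rw [hc]
    simp only [hs]
  · intro i j
    rw [hbc]
    simp only [hs]
  · simpa using hl
  · exact h _ (hne 1 (by decide))
  · exact h _ (hne 2 (by decide))
  · exact h _ (hne 3 (by decide))

include hb hbc in
theorem zero_one {i k : Fin 4} (hik : i ≠ k) (X : ι → ℤ) (hX : X ⬝ᵥ X = 1) (hi : b i ⬝ᵥ X = 1) :
    b k ⬝ᵥ X = 0 ∨ b k ⬝ᵥ X = 1 := by
  obtain ⟨e, he, hie, hke, h⟩ := share_rows b c hb hbc hik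
  rcases unit_cases he hX with h1 | h1 | h1
  · rcases h X hX h1 with h2 | h2
    · omega
    · exact Or.inl h2
  · subst h1
    exact Or.inr hke
  · subst h1
    rw [dotProduct_neg] at hie
    omega

include hb hc hbc in
theorem pair_zero (hne : ∀ y : ι → ℤ, y ⬝ᵥ y = 1 → ¬ ∀ i, b i ⬝ᵥ y = 1) (X : ι → ℤ)
    (hX : X ⬝ᵥ X = 1) (i j k l : Fin 4) (hik : i ≠ k) (hil : i ≠ l)
    (hall : ∀ m, m = i ∨ m = j ∨ m = k ∨ m = l) (hi : b i ⬝ᵥ X = 1) (hj : b j ⬝ᵥ X = 1) :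
    b k ⬝ᵥ X = 0 ∧ b l ⬝ᵥ X = 0 := by
  rcases zero_one b c hb hbc hik X hX hi with h1 | h1 <;>
    rcases zero_one b c hb hbc hil X hX hi with h2 | h2
  · exact ⟨h1, h2⟩
  · refine (no_three b c hb hc hbc k X hX h1 ?_).elim
    intro m hm
    rcases hall m with rfl | rfl | rfl | rfl
    · exact hi
    · exact hj
    · exact absurd rfl hm
    · exact h2
  · refine (no_three b c hb hc hbc l X hX h2 ?_).elim
    intro m hm
    rcases hall m with rfl | rfl | rfl | rfl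
    · exact hi
    · exact hj
    · exact h1
    · exact absurd rfl hm
  · refine (hne X hX ?_).elim
    intro m
    rcases hall m with rfl | rfl | rfl | rfl
    · exact hi
    · exact hj
    · exact h1
    · exact h2

theorem sum3 {p x y z : ι → ℤ} (hp : p ⬝ᵥ p = 3) (hx : x ⬝ᵥ x = 1) (hy : y ⬝ᵥ y = 1)
    (hz : z ⬝ᵥ z = 1) (hxy : x ⬝ᵥ y = 0) (hxz : x ⬝ᵥ z = 0) (hyz : y ⬝ᵥ z = 0)
    (hpx : p ⬝ᵥ x = 1) (hpy : p ⬝ᵥ y = 1) (hpz : p ⬝ᵥ z = 1) : p = x + y + z := by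
  have h0 : (p - x - y - z) ⬝ᵥ (p - x - y - z) = 0 := by
    simp only [sub_dotProduct, dotProduct_sub, hp, hx, hy, hz, hxy, hxz, hyz, hpx, hpy, hpz,
      dotProduct_comm x p, dotProduct_comm y p, dotProduct_comm z p, dotProduct_comm y x,
      dotProduct_comm z x, dotProduct_comm z y]
    norm_num
  have h1 := dotProduct_self_eq_zero.mp h0
  rw [sub_sub, sub_sub, sub_eq_zero] at h1
  rw [h1]
  abel

include hb hc hbc in
/-- In the `4 × 2` array the first column has a pivot. -/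
theorem exists_pivot : ∃ y : ι → ℤ, y ⬝ᵥ y = 1 ∧ ∀ i, b i ⬝ᵥ y = 1 := by
  by_contra! hcon
  have hne : ∀ y : ι → ℤ, y ⬝ᵥ y = 1 → ¬ ∀ i, b i ⬝ᵥ y = 1 := by
    intro y hy h
    obtain ⟨i, hi⟩ := hcon y hy
    exact hi (h i)
  obtain ⟨x01, u01, h01, h10, -⟩ := share_rows b c hb hbc (i := 0) (j := 1) (by decide)
  obtain ⟨x02, u02, h02, h20, -⟩ := share_rows b c hb hbc (i := 0) (j := 2) (by decide)
  obtain ⟨x03, u03, h03, h30, -⟩ := share_rows b c hb hbc (i := 0) (j := 3) (by decide)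
  obtain ⟨x12, u12, h12, h21, -⟩ := share_rows b c hb hbc (i := 1) (j := 2) (by decide)
  obtain ⟨x13, u13, h13, h31, -⟩ := share_rows b c hb hbc (i := 1) (j := 3) (by decide)
  obtain ⟨x23, u23, h23, h32, -⟩ := share_rows b c hb hbc (i := 2) (j := 3) (by decide)
  obtain ⟨z2_01, z3_01⟩ := pair_zero b c hb hc hbc hne x01 u01 0 1 2 3 (by decide) (by decide)
    (by decide) h01 h10
  obtain ⟨z1_02, z3_02⟩ := pair_zero b c hb hc hbc hne x02 u02 0 2 1 3 (by decide) (by decide)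
    (by decide) h02 h20
  obtain ⟨z1_03, z2_03⟩ := pair_zero b c hb hc hbc hne x03 u03 0 3 1 2 (by decide) (by decide)
    (by decide) h03 h30
  obtain ⟨z0_12, z3_12⟩ := pair_zero b c hb hc hbc hne x12 u12 1 2 0 3 (by decide) (by decide)
    (by decide) h12 h21
  obtain ⟨z0_13, z2_13⟩ := pair_zero b c hb hc hbc hne x13 u13 1 3 0 2 (by decide) (by decide)
    (by decide) h13 h31
  obtain ⟨z0_23, z1_23⟩ := pair_zero b c hb hc hbc hne x23 u23 2 3 0 1 (by decide) (by decide)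
    (by decide) h23 h32
  have n : ∀ i, b i ⬝ᵥ b i = 3 := fun i => by rw [hb, if_pos rfl]
  have e0 : b 0 = x01 + x02 + x03 := sum3 (n 0) u01 u02 u03 (orth_of_ne u01 u02 z2_01 h20)
    (orth_of_ne u01 u03 z3_01 h30) (orth_of_ne u02 u03 z3_02 h30) h01 h02 h03
  have e1 : b 1 = x01 + x12 + x13 := sum3 (n 1) u01 u12 u13 (orth_of_ne u01 u12 z2_01 h21)
    (orth_of_ne u01 u13 z3_01 h31) (orth_of_ne u12 u13 z3_12 h31) h10 h12 h13
  have e2 : b 2 = x02 + x12 + x23 := sum3 (n 2) u02 u12 u23 (orth_of_ne u02 u12 z1_02 h12)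
    (orth_of_ne u02 u23 z3_02 h32) (orth_of_ne u12 u23 z3_12 h32) h20 h21 h23
  have e3 : b 3 = x03 + x13 + x23 := sum3 (n 3) u03 u13 u23 (orth_of_ne u03 u13 z1_03 h13)
    (orth_of_ne u03 u23 z2_03 h23) (orth_of_ne u13 u23 z2_13 h23) h30 h31 h32
  have f0 : b 0 ⬝ᵥ c 0 = 1 := hbc 0 0
  have f1 : b 1 ⬝ᵥ c 0 = 0 := hbc 1 0
  have f2 : b 2 ⬝ᵥ c 0 = 0 := hbc 2 0
  have f3 : b 3 ⬝ᵥ c 0 = 0 := hbc 3 0
  rw [e0] at f0
  rw [e1] at f1
  rw [e2] at f2
  rw [e3] at f3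
  simp only [add_dotProduct] at f0 f1 f2 f3
  omega

end

end Cfsg.Agent.OddOrderCharacters.PivotFour
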